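import Cfsg.Agent.H98.MlCj
import Cfsg.Agent.H3.Fitting
import Cfsg.Agent.H89.PBasic

/-! Solitary transvections: from `T` to `S`. -/

set_option autoImplicit false

namespace Cfsg.Agent.H67.MlTvb

open Subgroup Cfsg.Agent.H83 Cfsg.Agent.H1.ML Cfsg.Agent.H98.ML
open scoped commutatorElement

universe u

variable {G M : Type*} [Group G] [AddCommGroup M] [DistribMulAction G M] {a e : G} {v u : M}

theorem sub_fix (h : Tv a v) {d d' : M} (h1 : a • d ≠ d) (h2 : a • d' ≠ d') :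
    a • (d - d') = d - d' := by
  rw [smul_sub, (h.alt d).resolve_left h1, (h.alt d').resolve_left h2]; abel

/-- two transvections of a group without nice offenders have different axes -/
theorem eq_of_axis [Finite G] [Finite M] (ff : Ff M G) {T : Subgroup G} (hT : IsPGroup 2 T)
    (hn : ∀ A ≤ T, ¬ Nice M 2 A) (ha : Tv a v) (he : Tv e u) (aT : a ∈ T) (eT : e ∈ T)
    (h : ∀ d : M, a • d = d → e • d = d) : a = e := by
  by_contra ne
  let D : AddSubgroup M := fx M (zpowers a)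
  have hD : ∀ d, d ∈ D ↔ a • d = d := fun d => ⟨fun h => h a (mem_zpowers a),
    fun e _ hx => (zpowers_le (H := MulAction.stabilizer G d)).2 e hx⟩
  let A : Subgroup G := T ⊓ kr G D
  have aA : a ∈ A := ⟨aT, fun d hd => (hD d).1 hd⟩
  have eA : e ∈ A := ⟨eT, fun d hd => h d ((hD d).1 hd)⟩
  have a1 : a ≠ 1 := fun e => by obtain ⟨d, hd⟩ := ha.ex; exact hd (by rw [e, one_smul])
  have e1 : e ≠ 1 := fun e => by obtain ⟨d, hd⟩ := he.ex; exact hd (by rw [e, one_smul])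
  have k1 : ∀ x ∈ A, ∀ d : M, x • d - d ∈ D := fun x hx d => by
    by_cases hd : d ∈ D
    · rw [hx.2 d hd, sub_self]; exact zero_mem _
    · refine (hD _).2 (sub_fix ha (fun e => hd ?_) (mt (hD _).2 hd))
      have := (inv_mem hx).2 _ ((hD _).2 e)
      rw [inv_smul_smul] at this
      exact this ▸ (hD _).2 e
  have k2 : ∀ x ∈ A, ∀ y ∈ A, ∀ d : M, x • y • d = x • d + (y • d - d) := fun x hx y hy d => by
    rw [← hx.2 _ (k1 y hy d), ← smul_add, add_sub_cancel]
  have k3 : ∀ x ∈ A, ∀ y ∈ A, x * y = y * x := fun x hx y hy =>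
    mul_inv_eq_one.1 (ff _ fun d => by
      obtain ⟨d, rfl⟩ := (MulAction.toPerm (y * x)).surjective d
      rw [MulAction.toPerm_apply, mul_smul, inv_smul_smul, mul_smul, mul_smul, k2 x hx y hy,
        k2 y hy x hx]
      abel)
  obtain ⟨d0, h0⟩ := ha.ex
  have h2 : (⊤ ⊓ fx M A : AddSubgroup M).index = 2 := by
    have k : ∀ d, d ∈ (⊤ ⊓ fx M A : AddSubgroup M) ↔ a • d = d := fun d =>
      ⟨fun h => h.2 a aA, fun h => ⟨trivial, fun x hx => hx.2 d ((hD d).2 h)⟩⟩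
    refine AddSubgroup.index_eq_two_iff.2 ⟨-d0, fun d => ?_⟩
    rw [k, k, ← sub_eq_add_neg]
    by_cases x : a • d = d
    · exact .inr ⟨x, fun y => h0 (by rwa [smul_sub, x, sub_right_inj] at y)⟩
    · exact .inl ⟨sub_fix ha x h0, x⟩
  refine hn A inf_le_left ⟨hT.to_le inf_le_left, fun e => a1 (mem_bot.1 (e ▸ aA)),
    ⟨fun x hx y hy => ?_, fun B hB _ => ?_⟩, fun B hB hi x hx h3 g hg _ => ?_⟩
  · rw [commutatorElement_eq_one_iff_mul_comm.2 (k3 x hx y hy)]; exact one_mem _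
  · by_cases e : A ≤ B
    · rw [le_antisymm hB e, relIndex_self, one_mul]
    have h1 : 2 ≤ B.relIndex A := by
      have h0 : B.relIndex A ≠ 0 := index_ne_zero_of_finite
      have h1 : B.relIndex A ≠ 1 := fun e' => e (relIndex_eq_one.1 e')
      omega
    calc _ ≤ Nat.card M := AddSubgroup.card_le_card_addGroup _
      _ = 2 * _ := by rw [← h2, AddSubgroup.index_mul_card]
      _ ≤ _ := Nat.mul_le_mul_right _ h1
  · have h4 : ∃ y ∈ B, y ≠ 1 := by
      by_contra! hb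
      have h5 := (mul_mem_iff_of_index_two hi (a := ⟨a, aA⟩) (b := ⟨e, eA⟩)).2
        (iff_of_false (fun h => a1 (hb _ h)) fun h => e1 (hb _ h))
      exact ne ((tv_inv ff ha).symm.trans (inv_eq_of_mul_eq_one_right (hb _ h5)))
    obtain ⟨y, yB, y1⟩ := h4
    have h5 : x ∈ D := by
      by_contra hx'
      refine y1 (ff _ fun d => ?_)
      by_cases hd : d ∈ D
      · exact (hB yB).2 d hd
      · have := (hB yB).2 _ ((hD _).2 (sub_fix ha (mt (hD _).2 hd) (mt (hD _).2 hx')))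
        rwa [smul_sub, hx y yB, sub_left_inj] at this
    rw [Finset.sum_range_succ, Finset.sum_range_one, pow_zero, one_smul, pow_one, hg.2 x h5,
      ← two_nsmul, h3]

theorem exists_two [Finite G] {A X : Subgroup G} (hA : IsPGroup 2 A) (h : X < A) :
    ∃ Q, X ≤ Q ∧ Q ≤ A ∧ Q.relIndex A = 2 := by
  have : Fact (Nat.Prime 2) := ⟨Nat.prime_two⟩
  obtain ⟨Q, h1, h2⟩ := H89.exists_index_prime_ge hA (H := X.subgroupOf A)
    fun e => h.not_ge (subgroupOf_eq_top.1 e)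
  refine ⟨Q.map A.subtype, fun x hx => ⟨⟨x, h.le hx⟩, h1 hx, rfl⟩, map_subtype_le _, ?_⟩
  rw [relIndex, subgroupOf, comap_map_eq_self_of_injective (subtype_injective _), h2]

theorem mem_norm_JJ {P : Subgroup G} {g : G} (hg : g ∈ normalizer (P : Set G)) :
    g ∈ normalizer (JJ (Tz M) P : Set G) :=
  cj_eq_self_iff.1 (by rw [← JJ_cj (𝒜 := Tz M) fun _ g h => tz_cj h g, cj_eq_self hg])

theorem cent_JJ {P : Subgroup G} {g : G} (h : ∀ e ∈ P, ∀ u : M, Tv e u → g * e = e * g) :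
    g ∈ centralizer (JJ (Tz M) P : Set G) := by
  have : JJ (Tz M) P ≤ centralizer {g} := sSup_le fun A ⟨h1, e, u, h2, h3⟩ => by
    rw [h3] at h1 ⊢
    exact zpowers_le.2 (mem_centralizer_singleton_iff.2 (h e (h1 (mem_zpowers e)) u h2).symm)
  exact fun x hx => mem_centralizer_singleton_iff.1 (this hx)

/-- **TVB** -/
theorem tvbStmt : TvbStmt.{u} := by
  classical
  intro G M _ _ _ _ _ ff S T P hS hTS hPT hTP hn ⟨c, cP, u, hc⟩ a v b w aP hs H
  have : Fact (Nat.Prime 2) := ⟨Nat.prime_two⟩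
  have hT : IsPGroup 2 T := hS.to_le hTS.le
  have hC : ∀ s ∈ S, (∀ e ∈ T, ∀ u : M, Tv e u → s * e = e * s) → s ∈ T := fun s hs' h => by
    have h1 : T ≤ S ⊓ normalizer (JJ (Tz M) P : Set G) :=
      le_inf hTS.le fun t ht => mem_norm_JJ (hTP ht)
    have h2 := H _ ((JJ_le _ _).trans hPT) ⟨c, tv_mem_JJ hc cP, u, hc⟩
    have h3 := (eq_or_lt_of_le h1).resolve_right fun h4 => h2 h4 (centralizer_le_normalizer _
      (cent_JJ fun e he u hu => hs.cm e (hPT he) u hu fun e' => aP (e' ▸ he)))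
    exact h3.ge ⟨hs', centralizer_le_normalizer _ (cent_JJ fun e he => h e (hPT he))⟩
  let S1 := S ⊓ normalizer (JJ (Tz M) T : Set G)
  have h1 : T < S1 := (H3.lt_inf_normalizer_of_isNilpotent hS.isNilpotent hTS).trans_le
    (inf_le_inf_left _ fun _ => mem_norm_JJ)
  have h2 : ∀ r ∈ S1, ∀ e ∈ T, ∀ u : M, Tv e u → r * e * r⁻¹ ∈ T := fun r hr e he u hu =>
    JJ_le _ _ ((mem_normalizer_iff.1 hr.2 e).1 (tv_mem_JJ hu he))
  have hL : ∀ e ∈ T, ∀ u : M, Tv e u → ∃ r ∈ S1, e = r * a * r⁻¹ := fun e he u hu => by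
    by_contra h3
    let s0 : Set G := {e | e ∈ T ∧ (∃ u : M, Tv e u) ∧ ¬ ∃ r ∈ S1, e = r * a * r⁻¹}
    have h4 : ∀ r ∈ S1, cj r (closure s0) ≤ closure s0 := fun r hr => by
      rw [cj_closure]
      refine closure_mono ?_
      rintro _ ⟨x, ⟨x1, ⟨y, x2⟩, x3⟩, rfl⟩
      refine ⟨h2 r hr x x1 y x2, ⟨_, tv_cj x2 r⟩, fun ⟨r', hr', e'⟩ => x3 ⟨r⁻¹ * r',
        mul_mem (inv_mem hr) hr', ?_⟩⟩
      calc x = r⁻¹ * (r * x * r⁻¹) * r := by group
        _ = _ := by beta_reduce at e'; rw [e']; group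
    refine H (closure s0) ((closure_le _).2 fun x hx => hx.1)
      ⟨e, subset_closure ⟨he, ⟨u, hu⟩, h3⟩, u, hu⟩
      (h1.trans_le (le_inf inf_le_left fun r hr =>
        mem_normalizer_fintype fun x hx => h4 r hr (conj_mem_cj hx)))
      (centralizer_le_normalizer _ ?_)
    have : closure s0 ≤ centralizer {b} := (closure_le _).2 fun x ⟨x1, ⟨y, x2⟩, x3⟩ =>
      mem_centralizer_singleton_iff.2 (hs.cm x x1 y x2 fun e' =>
        x3 ⟨1, one_mem _, by simpa using e'⟩).symm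
    exact fun x hx => mem_centralizer_singleton_iff.1 (this hx)
  have hB : ∀ e ∈ T, ∀ u : M, Tv e u → ∃ b' : G, b' • u ≠ u ∧
      ∀ f ∈ T, ∀ y : M, Tv f y → f ≠ e → b' • y = y := fun e he u hu => by
    obtain ⟨r, hr, rfl⟩ := hL e he u hu
    obtain rfl := tv_uniq hu (tv_cj hs.ta r)
    refine ⟨r * b * r⁻¹, by simpa [mul_smul] using hs.ne, fun f hf y hy ne => ?_⟩
    have h3 := tv_cj hy r⁻¹
    have h4 := tv_comm h3 (hs.cm _ (h2 _ (inv_mem hr) f hf y hy) _ h3 fun e' => ne (by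
      rw [← e']; group))
    rw [mul_smul, mul_smul, h4, smul_inv_smul]
  have hI : ∀ s ∈ S1, ∀ y : M, Tv s y → s ∈ T := fun s hs1 y hy => hC s hs1.1 fun e he u hu => by
    by_contra ne
    have fT := h2 s hs1 e he u hu
    have hf := tv_cj hu s
    have ne' : s * e * s⁻¹ ≠ e := fun e' => ne (mul_inv_eq_iff_eq_mul.1 e')
    obtain ⟨b', b1, b2⟩ := hB e he u hu
    have h3 : s • u = u + y := (hy.alt u).resolve_left fun e' => b1 (by
      have := b2 _ fT _ hf ne'
      rwa [e'] at this)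
    have h4 : e • s • u = s • u := by
      by_contra h4
      have h5 := (hu.alt _).resolve_left h4
      have ss : ∀ d : M, s • s • d = d := fun d => by rw [← mul_smul, tv_sq ff hy, one_smul]
      have h6 : (s * e * s⁻¹) • u ≠ u := fun e' => by
        rw [mul_smul, mul_smul, tv_inv ff hy, h5, smul_add, ss, add_eq_left] at e'
        exact tv_ne hf e'
      have h7 := tv_braid ff hu hf h6 h4
      have h8 : (e * (s * e * s⁻¹)) ^ 3 = 1 := by
        generalize s * e * s⁻¹ = f at h7 hf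
        calc _ = e * f * e * (f * e * f) := by simp only [pow_succ]; group
          _ = 1 := by
            rw [← h7]
            calc _ = e * (f * (e * e) * f) * e := by group
              _ = 1 := by rw [tv_sq ff hu, mul_one, tv_sq ff hf, mul_one, tv_sq ff hu]
      obtain ⟨k, hk⟩ := isPGroup_iff.1 hT _ (mul_mem he fT)
      have h9 := orderOf_eq_one_iff.1 (Nat.eq_one_of_dvd_coprimes
        (Nat.Coprime.pow_left k (by norm_num : Nat.Coprime 2 3))
        (orderOf_dvd_of_pow_eq_one hk) (orderOf_dvd_of_pow_eq_one h8))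
      exact ne' ((inv_eq_of_mul_eq_one_right h9).symm.trans (tv_inv ff hu))
    have h5 : e • y = y := by rwa [h3, smul_add, hu.fix, add_right_inj] at h4
    refine ne' (eq_of_axis ff hT hn hu hf he fT fun d hd => ?_).symm
    have h6 : e • s • d = s • d := by
      rcases hy.alt d with x | x <;> rw [x]
      · exact hd
      · rw [smul_add, hd, h5]
    rw [mul_smul, mul_smul, tv_inv ff hy, h6, ← mul_smul, tv_sq ff hy, one_smul]
  have hJ : JJ (Tz M) S1 = JJ (Tz M) T := le_antisymm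
    (sSup_le fun A ⟨k1, e, u, k2, k3⟩ => le_JJ (by
      rw [k3] at k1 ⊢; exact zpowers_le.2 (hI e (k1 (mem_zpowers e)) u k2)) ⟨e, u, k2, k3⟩)
    (sSup_le fun A k => le_JJ (k.1.trans h1.le) k.2)
  have hS1 : S1 = S := (eq_or_lt_of_le (inf_le_left : S1 ≤ S)).resolve_right fun h =>
    (H3.lt_inf_normalizer_of_isNilpotent hS.isNilpotent h).not_ge
      (inf_le_inf_left _ fun _ hg => hJ ▸ mem_norm_JJ hg)
  refine ⟨fun A hA hN => ?_, sol_congr (by rw [← hS1, hJ]) hs⟩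
  obtain ⟨e, he, y, hy, h3⟩ : ∃ e ∈ T, ∃ y : M, Tv e y ∧ A ⊓ centralizer {e} < A := by
    by_contra! h
    refine hn A (fun s hs' => hC s (hA hs') fun e he y hy => ?_) hN
    have := (eq_or_lt_of_le inf_le_left).resolve_right (h e he y hy)
    exact mem_centralizer_singleton_iff.1 (this.ge hs').2
  obtain ⟨B, B1, B2, B3⟩ := exists_two hN.1 h3
  obtain ⟨s, sA, sB⟩ : ∃ s ∈ A, s ∉ B := by
    by_contra! h
    rw [relIndex_eq_one.2 h] at B3
    omega
  obtain ⟨b', b1, b2⟩ := hB e he y hy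
  have k1 : ∀ x ∈ A, x * e * x⁻¹ ∈ T := fun x hx => h2 x (hS1.ge (hA hx)) e he y hy
  have := Fintype.ofFinite M
  let O : Finset M := Finset.univ.filter fun m => ∃ x ∈ B, m = x • y
  have hO : ∀ m, m ∈ O ↔ ∃ x ∈ B, m = x • y := fun m => by simp [O]
  have k2 : ∀ g ∈ B, ∀ m ∈ O, g • m ∈ O := fun g hg m hm => by
    obtain ⟨x, hx, rfl⟩ := (hO m).1 hm
    exact (hO _).2 ⟨g * x, mul_mem hg hx, (mul_smul _ _ _).symm⟩
  have k3 := hN.2.2.2 B B2 B3 (∑ m ∈ O, m) (fun g hg => by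
    rw [Finset.smul_sum]
    exact Finset.sum_nbij' (g • ·) (g⁻¹ • ·) (k2 g hg) (k2 _ (inv_mem hg)) (by simp) (by simp)
      fun _ _ => rfl) (by
    rw [Finset.smul_sum]
    refine Finset.sum_eq_zero fun m hm => ?_
    obtain ⟨x, -, rfl⟩ := (hO m).1 hm
    rw [two_nsmul, tv_two (tv_cj hy x)]) s sA sB
  rw [Finset.sum_range_succ, Finset.sum_range_one, pow_zero, one_smul, pow_one] at k3
  have k4 : b' • s • ∑ m ∈ O, m = s • ∑ m ∈ O, m := by
    rw [Finset.smul_sum, Finset.smul_sum]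
    refine Finset.sum_congr rfl fun m hm => ?_
    obtain ⟨x, hx, rfl⟩ := (hO m).1 hm
    rw [← mul_smul s x]
    have h4 := mul_mem sA (B2 hx)
    refine b2 _ (k1 _ h4) _ (tv_cj hy _) fun e' => sB ?_
    have := B1 ⟨h4, mem_centralizer_singleton_iff.2 (mul_inv_eq_iff_eq_mul.1 e')⟩
    simpa using mul_mem this (inv_mem hx)
  have yO : y ∈ O := (hO _).2 ⟨1, one_mem _, (one_smul _ _).symm⟩
  have k5 : b' • ∑ m ∈ O.erase y, m = ∑ m ∈ O.erase y, m := by
    rw [Finset.smul_sum]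
    refine Finset.sum_congr rfl fun m hm => ?_
    obtain ⟨h4, h5⟩ := Finset.mem_erase.1 hm
    obtain ⟨x, hx, rfl⟩ := (hO m).1 h5
    exact b2 _ (k1 _ (B2 hx)) _ (tv_cj hy _) fun e' => h4 (tv_uniq (e' ▸ tv_cj hy x) hy)
  have k6 := congrArg (b' • ·) k3
  simp only [smul_add, k4, smul_zero] at k6
  rw [← k3, add_left_inj, ← Finset.add_sum_erase O _ yO, smul_add, k5, add_left_inj] at k6
  exact b1 k6

end Cfsg.Agent.H67.MlTvb
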