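import Cfsg.Agent.H34.UKit0
import Cfsg.Agent.H79.InvolU

/-! Project UM: classes of involutory automorphisms of a unitary group in characteristic two. -/

set_option autoImplicit false
set_option linter.unusedSectionVars false

namespace Cfsg.Agent.H67.UCls

open Cfsg Cfsg.Agent.H63 Cfsg.Agent.H63.SL Cfsg.Agent.H34 Cfsg.Agent.H34.TW Cfsg.Agent.H34.UM
  Cfsg.Agent.H31 Subgroup Module
open Cfsg.Agent.H63.WR (ClsI FixC)
open Cfsg.Agent.H27.End (mem_C comm_of_C is2_of_sq is2_of_mem conj_mem)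
open scoped commutatorElement

universe u v

variable {F E V : Type v} [Field F] [Field E] [AddCommGroup V] [Module E V] {i : F →+* E}
  {σ : E ≃+* E} {B : V →ₛₗ[(σ : E →+* E)] V →ₗ[E] E} {G : Type u} [Group G] {φ : sisom B →* G}
  {L : Subgroup G}

theorem act_mul {g g' : G} {f f' : V ≃+ V} (h : Act φ g f) (h' : Act φ g' f') :
    Act φ (g * g') (f'.trans f) := fun s => by
  obtain ⟨s1, e1, k1⟩ := h' s
  obtain ⟨s2, e2, k2⟩ := h s1
  exact ⟨s2, fun x => by rw [AddEquiv.trans_apply, e2, e1, AddEquiv.trans_apply],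
    by rw [← k2, ← k1]; group⟩

theorem act_inv [Finite V] {g : G} {f : V ≃+ V} (h : Act φ g f) : Act φ g⁻¹ f.symm := fun s => by
  choose T h1 h2 using h
  haveI : Finite (sisom B) := .of_injective (fun s : sisom B => (s.1 : V → V)) fun _ _ e =>
    s_ext (congrFun e)
  obtain ⟨s', rfl⟩ := Finite.surjective_of_injective (f := T) (fun a b e => s_ext fun x =>
    f.injective (by rw [← h1, ← h1, e])) s
  exact ⟨s', fun x => f.injective (by rw [← h1, f.apply_symm_apply, f.apply_symm_apply]),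
    by rw [← h2]; group⟩

theorem act_phi (s : sisom B) : Act φ (φ s) s.1.toAddEquiv := fun s' =>
  ⟨s * s' * s⁻¹, fun x => by
    rw [mul_app, mul_app]; exact congrArg _ (congrArg _ (inv_app s x)), by
    rw [map_mul, map_mul, map_inv]⟩

theorem semi_phi (s : sisom B) : Semi B s.1.toAddEquiv (RingEquiv.refl E) :=
  ⟨fun d x => map_smul s.1 d x, iso_map s⟩

theorem semi_mul {f f' : V ≃+ V} {θ θ' : E ≃+* E} (h : Semi B f θ) (h' : Semi B f' θ') :
    Semi B (f'.trans f) (θ'.trans θ) :=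
  ⟨fun d x => by simp [h.smul, h'.smul], fun x y => by simp [h.form, h'.form]⟩

theorem semi_inv {f : V ≃+ V} {θ : E ≃+* E} (h : Semi B f θ) : Semi B f.symm θ.symm :=
  ⟨fun d x => f.injective (by simp [h.smul]), fun x y => θ.injective (by simp [← h.form])⟩

variable (c : UCtx i φ L)
include c

theorem cent {k : G} {f : V ≃+ V} (h : Act φ k f) {d : E} (hd : d ≠ 0) (e : ∀ x, f x = d • x) :
    k ∈ C[L] := mem_C fun y hy => by
  obtain ⟨s, rfl⟩ := c.surj hy
  obtain ⟨s', h1, h2⟩ := h s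
  have : s' = s := s_ext fun x => smul_right_injective V hd (by
    simpa only [e, map_smul] using h1 x)
  exact mul_inv_eq_iff_eq_mul.1 (this ▸ h2)

theorem nontriv : ∃ x y, B x y = 1 := by
  have : Nontrivial V := Module.nontrivial_of_finrank_pos (R := E) (by have := c.four; omega)
  obtain ⟨x, hx⟩ := exists_ne (0 : V)
  exact ⟨x, c.herm.exists_eq_one hx⟩

variable [FiniteDimensional E V] [Finite E]

/-- An element of `C(L)` acts as a scalar. -/
theorem scal (K : KitA i φ L) {k : G} (hk : k ∈ C[L]) {f : V ≃+ V} {θ : E ≃+* E}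
    (hs : Semi B f θ) (h : Act φ k f) :
    θ = RingEquiv.refl E ∧ ∃ d, d * σ d = 1 ∧ ∀ x, f x = d • x := by
  obtain ⟨ψ, h1, -⟩ := K.out
  have hN := centralizer_le_normalizer _ hk
  have e : θ = RingEquiv.refl E := (h1 ⟨k, hN⟩ f θ hs h).symm.trans (h1 ⟨k, hN⟩ (AddEquiv.refl V) _
    ⟨fun _ _ => rfl, fun _ _ => rfl⟩ fun s => ⟨s, fun _ => rfl,
      mul_inv_eq_iff_eq_mul.2 (comm_of_C hk (c.mem s))⟩)
  subst e
  have sm : ∀ (d : E) x, f (d • x) = d • f x := hs.smul
  have key : ∀ v, B v v = 0 → ∀ x, B v x • f v = B v (f x) • v := fun v hv x => by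
    obtain ⟨s, e1, -⟩ := c.tt hv 1
    obtain ⟨s', e2, e3⟩ := h s
    have s2 := c.tt_sq hv e1
    have : s' = s := c.inj2 (is2_of_sq (s_ext fun y => by
      obtain ⟨y, rfl⟩ := f.surjective y
      rw [mul_app, e2, e2, ← mul_app, s2]; rfl)) (is2_of_sq s2)
      (e3.symm.trans (mul_inv_eq_iff_eq_mul.2 (comm_of_C hk (c.mem s))))
    have e4 := e2 x
    rw [this, e1, e1, map_add, sm, map_one, one_mul, one_mul, add_right_inj] at e4
    exact e4.symm
  obtain ⟨e, he⟩ := c.exists_pt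
  obtain ⟨e', he', hee⟩ := c.hyp he
  have k1 : f e = B e (f e') • e := by simpa [hee] using key e he.1 e'
  generalize B e (f e') = d at k1
  have k2 : ∀ v w, Pt B w → B v v = 0 → f w = d • w → B v w ≠ 0 → f v = d • v :=
    fun v w _ hv hw h0 => smul_right_injective V h0 (by
      have := key v hv w
      rwa [hw, sm_right, mul_comm, mul_smul] at this)
  have pe' : Pt B e' := ⟨he', fun e0 => by simp [e0] at hee⟩
  have k3 : f e' = d • e' := k2 e' e he he' k1 (by simp [c.flip1 hee])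
  have k4 : ∀ v, B v v = 0 → f v = d • v := fun v hv => by
    by_cases h1 : B v e = 0
    · by_cases h2 : B v e' = 0
      · have := k2 (e + v) e' pe' (c.iso_add he.1 hv (c.flip h1)) k3 (by simp [hee, h2])
        rwa [map_add, k1, smul_add, add_right_inj] at this
      · exact k2 v e' pe' hv k3 h2
    · exact k2 v e he hv k1 h1
  have k5 : ∀ x, f x = d • x := fun x => by
    obtain ⟨y, -, z, -, hy, hz, rfl⟩ := c.herm.exists_add_isotropic c.herm.nondegOn_top
      (by rw [finrank_top]; have := c.four; omega) (Submodule.mem_top (x := x))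
    rw [map_add, k4 y hy, k4 z hz, smul_add]
  refine ⟨rfl, d, ?_, k5⟩
  have := hs.form e e'
  rwa [k1, k3, sm_left, sm_right, hee, mul_one, mul_comm] at this

omit [FiniteDimensional E V] in
theorem eq_σ {θ : E ≃+* E} (h : ∀ a, θ (θ a) = a) (h1 : θ ≠ RingEquiv.refl E) : θ = σ := by
  haveI := Fintype.ofFinite E
  obtain ⟨n, e1, e2⟩ := IsInvol.exists_q (σ := (θ : E →+* E)) ⟨h, by
    by_contra e
    push Not at e
    exact h1 (RingEquiv.ext e)⟩
  rw [← Nat.card_eq_fintype_card, c.qf.card] at e1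
  ext a
  rw [c.qf.σ_pow, Nat.pow_left_injective two_ne_zero e1]
  exact e2 a

section Form

variable {f : V ≃+ V} (hf : Semi B f σ) (ff : ∀ x, f (f x) = x) {ω : E} (hω : σ ω = ω + 1)
include hf ff hω

omit [FiniteDimensional E V] [Finite E] in
theorem split (v : V) : ∃ a b, f a = a ∧ f b = b ∧ v = a + ω • b := by
  refine ⟨v + ω • (v + f v), v + f v, ?_, by rw [map_add, ff, add_comm], ?_⟩
  · rw [map_add, hf.smul, map_add, ff, hω]
    linear_combination (norm := module) c.add_self (f v)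
  · rw [add_assoc, c.add_self, add_zero]

omit [FiniteDimensional E V] [Finite E] ff in
theorem f_split {a b : V} (ha : f a = a) (hb : f b = b) : f (a + ω • b) = a + b + ω • b := by
  rw [map_add, hf.smul, ha, hb, hω]; module

omit [Finite E] in
theorem det_semi {y z : V →ₗ[E] V} (h : ∀ v, z (f v) = f (y v)) :
    LinearMap.det z = σ (LinearMap.det y) := by
  classical
  have hs : ⊤ ≤ Submodule.span E {v | f v = v} := fun v _ => by
    obtain ⟨a, b, ha, hb, rfl⟩ := split c hf ff hω v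
    exact add_mem (Submodule.subset_span ha) (Submodule.smul_mem _ _ (Submodule.subset_span hb))
  let b := Basis.ofSpan hs
  have hb : ∀ j, f (b j) = b j := fun j => Basis.ofSpan_subset hs ⟨j, rfl⟩
  haveI := FiniteDimensional.fintypeBasisIndex b
  have e : ∀ v j, b.repr (f v) j = σ (b.repr v j) := fun v j => by
    conv_lhs => rw [← b.sum_repr v, map_sum]
    simp only [hf.smul, hb, b.repr_sum_self]
  rw [← LinearMap.det_toMatrix b, ← LinearMap.det_toMatrix b, RingEquiv.map_det]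
  congr 1
  ext j k
  simp only [LinearMap.toMatrix_apply, RingEquiv.mapMatrix_apply, Matrix.map_apply]
  rw [← e, ← h, hb]

omit [FiniteDimensional E V] [Finite E] in
/-- The form over the fixed field. -/
theorem form : letI := Module.compHom V i
    ∃ (W : Submodule F V) (b : LinearMap.BilinForm F W), (∀ x, x ∈ W ↔ f x = x) ∧
      (∀ x y, i (b x y) = B x y) ∧ b.IsSymm ∧ b.Nondegenerate := by
  letI := Module.compHom V i
  have sm : ∀ (a : F) (x : V), a • x = i a • x := fun _ _ => rfl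
  let W : Submodule F V :=
    { carrier := {x | f x = x}
      zero_mem' := map_zero f
      add_mem' := fun ha hb => by simp only [Set.mem_ofPred_eq] at *; rw [map_add, ha, hb]
      smul_mem' := fun a x hx => by
        simp only [Set.mem_ofPred_eq] at *; rw [sm, hf.smul, c.qf.σ_i, hx] }
  have fx : ∀ x y : W, σ (B x y) = B x y := fun x y => by rw [← hf.form, x.2, y.2]
  choose τ hτ using fun x y : W => (c.qf.fix _).1 (fx x y)
  let b : LinearMap.BilinForm F W := LinearMap.mk₂ F τ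
    (fun x y z => i.injective (by simp [← hτ]))
    (fun a x y => i.injective (by
      rw [smul_eq_mul, map_mul, ← hτ, ← hτ, Submodule.coe_smul, sm, sm_left, c.qf.σ_i]))
    (fun x y z => i.injective (by simp [← hτ]))
    (fun a x y => i.injective (by
      rw [smul_eq_mul, map_mul, ← hτ, ← hτ, Submodule.coe_smul, sm, sm_right]))
  have hb : ∀ x y, i (b x y) = B x y := fun x y => (hτ x y).symm
  have hs : b.IsSymm := ⟨fun x y => i.injective (by rw [hb, hb, ← c.symm, fx])⟩
  have nd : ∀ x, (∀ y, b x y = 0) → x = 0 := fun x hx => Subtype.ext (c.herm.nondeg _ fun v => by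
    obtain ⟨a, a', ha, ha', rfl⟩ := split c hf ff hω v
    rw [map_add, sm_right, ← hb x ⟨a, ha⟩, ← hb x ⟨a', ha'⟩, hx, hx]; simp)
  exact ⟨W, b, fun _ => Iff.rfl, hb, hs, nd, fun x hx => nd x fun y => hs.isRefl _ _ (hx y)⟩

/-- Conjugate graph involutions are conjugate in the unitary group. -/
theorem conj_isom [Finite V] {f' h : V ≃+ V} {η : E ≃+* E} (hf' : Semi B f' σ) (hh : Semi B h η)
    (e : ∀ x, f' (h x) = h (f x)) : ∃ x ∈ isom B, ∀ v, x (f v) = f' (x v) := by
  letI := Module.compHom V i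
  haveI : Finite F := .of_injective _ i.injective
  have sm : ∀ (a : F) (x : V), a • x = i a • x := fun _ _ => rfl
  have ff' : ∀ x, f' (f' x) = x := fun x => by
    obtain ⟨x, rfl⟩ := h.surjective x
    rw [e, e, ff]
  obtain ⟨W, b, m, hb, hs, nd⟩ := form c hf ff hω
  obtain ⟨W', b', m', hb', hs', nd'⟩ := form c hf' ff' hω
  let h0 : W ≃ W' := h.toEquiv.subtypeEquiv fun x => by
    rw [m, m']; exact (by rw [show h.toEquiv x = h x from rfl, e, h.injective.eq_iff])
  have k0 : ∀ x, b' (h0 x) (h0 x) = 0 ↔ b x x = 0 := fun x => by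
    rw [← map_eq_zero i, ← map_eq_zero i, hb, hb']
    exact (congrArg (· = 0) (hh.form x x)).to_iff.trans (map_eq_zero η)
  obtain ⟨p, hp⟩ := H79.exists_equiv_symm c.qf.twoF hs nd hs' nd'
    (Nat.pow_right_injective (Finite.one_lt_card (α := F)) (by
      simp only [← Module.natCard_eq_pow_finrank, Nat.card_congr h0]))
    ⟨fun k x => by
      obtain ⟨x, rfl⟩ := h0.surjective x
      exact (k0 x).2 (k x), fun k x => (k0 x).1 (k _)⟩
  have hp' : ∀ x y : W, B (p x) (p y) = B x y := fun x y => by rw [← hb', hp, hb]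
  choose α β hα hβ hv using split c hf ff hω
  let X : V → V := fun v => p ⟨α v, (m _).2 (hα v)⟩ + ω • (p ⟨β v, (m _).2 (hβ v)⟩ : V)
  have hX : ∀ a a' : W, X (a + ω • (a' : V)) = p a + ω • (p a' : V) := fun a a' => by
    have e1 := hv (a + ω • (a' : V))
    have e2 := congrArg f e1
    rw [f_split c hf hω ((m _).1 a.2) ((m _).1 a'.2), f_split c hf hω (hα _) (hβ _)] at e2
    have e3 : β (a + ω • (a' : V)) = a' := by
      linear_combination (norm := module) e1 - e2
    have e4 : α (a + ω • (a' : V)) = a := by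
      rw [e3] at e1; exact (add_right_cancel e1).symm
    simp only [X, e3, e4]
  have sp : ∀ v, ∃ a a' : W, v = a + ω • (a' : V) := fun v =>
    ⟨⟨_, (m _).2 (hα v)⟩, ⟨_, (m _).2 (hβ v)⟩, hv v⟩
  obtain ⟨n, hn⟩ := c.qf.exists_norm ω
  have ω2 : ω * ω = i n + ω := by rw [hn, hω]; linear_combination -ω * c.qf.two
  let x : V →ₗ[E] V :=
    { toFun := X
      map_add' := fun v w => by
        obtain ⟨a, a', rfl⟩ := sp v
        obtain ⟨d, d', rfl⟩ := sp w
        rw [hX, hX, show (a : V) + ω • (a' : V) + (d + ω • (d' : V)) =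
          (a + d : W) + ω • ((a' + d' : W) : V) by simp only [Submodule.coe_add]; module, hX]
        simp only [map_add, Submodule.coe_add]; module
      map_smul' := fun t v => by
        obtain ⟨a, a', rfl⟩ := sp v
        obtain ⟨r, s, rfl⟩ := c.qf.exists_coord hω t
        have e1 : ∀ y y' : V, (i r + i s * ω) • (y + ω • y') =
            r • y + (s * n) • y' + ω • (s • y + (r + s) • y') := fun y y' => by
          simp only [sm, map_mul, map_add]
          linear_combination (norm := module) congrArg (fun z => (i s * z) • y') ω2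
        rw [RingHom.id_apply, hX, e1, e1]
        simpa using hX (r • a + (s * n) • a') (s • a + (r + s) • a') }
  have iso : ∀ v w, B (x v) (x w) = B v w := fun v w => by
    obtain ⟨a, a', rfl⟩ := sp v
    obtain ⟨d, d', rfl⟩ := sp w
    change B (X _) (X _) = _
    simp only [hX, map_add, LinearMap.add_apply, sm_left, sm_right, hp']
  have hi : Function.Injective x := (injective_iff_map_eq_zero x).2 fun v hv =>
    c.herm.nondeg v fun y => by rw [← iso, hv]; simp
  refine ⟨LinearEquiv.ofInjectiveEndo x hi, iso, fun v => ?_⟩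
  obtain ⟨a, a', rfl⟩ := sp v
  change X _ = f' (X _)
  rw [f_split c hf hω ((m _).1 a.2) ((m _).1 a'.2), hX,
    f_split c hf' hω ((m' _).1 (p a).2) ((m' _).1 (p a').2)]
  simpa using hX (a + a') a'

end Form

theorem inner [Finite V] [Finite G] {r g : G} (hg : g ∈ N[L]) (hr : r ∈ L ⊔ C[L])
    (h2 : r * r ∈ C[L]) : FixC L r g := by
  have hC : ∀ n ∈ N[L], ∀ k ∈ C[L], n * k * n⁻¹ ∈ C[L] := fun n hn k hk => mem_C fun y hy => by
    simpa [mul_assoc] using (comm_of_C hk (conj_mem (inv_mem hn) hy)).map (MulAut.conj n)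
  obtain ⟨j, hj, k, hk, rfl⟩ : ∃ j ∈ L, ∃ k ∈ C[L], j * k = r := by
    have : r ∈ ((L ⊔ C[L] : Subgroup G) : Set G) := hr
    rwa [coe_mul_of_right_le_normalizer_left _ _ (centralizer_le_normalizer _)] at this
  have jk := (comm_of_C hk hj).symm
  have j2 : j * j ∈ C[L] := by
    rwa [jk.symm.mul_mul_mul_comm, mul_mem_cancel_right (mul_mem hk hk)] at h2
  obtain ⟨n, hn⟩ := c.zodd (j * j) ⟨mul_mem hj hj, j2⟩
  have e1 : j ^ (2 * n + 1) * j ^ (2 * n + 1) = 1 := by
    rw [← (Commute.refl j).mul_pow, ← hn, pow_orderOf_eq_one]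
  obtain ⟨s, hs, e2⟩ := c.lift2 (pow_mem hj (2 * n + 1)) (is2_of_sq e1)
  have s2 : s * s = 1 := c.one (by
    obtain ⟨a, ha⟩ := hs
    exact ⟨a, by rw [(Commute.refl s).mul_pow, ha, one_mul]⟩) (by
      rw [map_mul, e2, e1]; exact one_mem _)
  obtain ⟨k', hk', e3⟩ : ∃ k' ∈ C[L], j * k = φ s * k' :=
    ⟨((j * j) ^ n)⁻¹ * k, mul_mem (inv_mem (pow_mem j2 n)) hk, by
      rw [e2, pow_succ', pow_mul, pow_two]; group⟩
  obtain ⟨h, η, hh, ha⟩ := c.mod.ext g hg
  obtain ⟨s', e4, e5⟩ := ha s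
  have : IsConj s s' := by
    by_cases s1 : s = 1
    · rw [show s' = s from s_ext fun x => by
        obtain ⟨x, rfl⟩ := h.surjective x
        rw [e4, s1]; rfl]
    refine (H79.isConj_sisom_iff c.qf.two c.herm s s' (congrArg Subtype.val s2)
      (fun e => s1 (Subtype.ext e)) (LinearEquiv.ext fun x => ?_)).2 ?_
    · obtain ⟨x, rfl⟩ := h.surjective x
      rw [LinearEquiv.mul_apply, e4, e4, ← mul_app, s2]; rfl
    refine Nat.pow_right_injective (Finite.one_lt_card (α := E)) ?_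
    simp only [H79.rk, ← Module.natCard_eq_pow_finrank]
    refine Nat.card_congr (h.toEquiv.subtypeEquiv fun x => ⟨?_, ?_⟩)
    · rintro ⟨y, rfl⟩
      exact ⟨h y, by simp [H79.nil_apply, e4]⟩
    · rintro ⟨y, e⟩
      obtain ⟨y, rfl⟩ := h.surjective y
      exact ⟨y, h.injective (by simpa [H79.nil_apply, e4] using e)⟩
  obtain ⟨l, hl⟩ := isConj_iff.1 this.symm
  refine ⟨φ l, c.mem l, ?_⟩
  have e6 : φ l * (g * φ s * g⁻¹) * (φ l)⁻¹ = φ s := by rw [e5, ← hl, map_mul, map_mul, map_inv]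
  have hn' := mul_mem (le_normalizer (c.mem l)) hg
  rw [e3, show φ l * g * (φ s * k') * (φ l * g)⁻¹ * (φ s * k')⁻¹ =
    φ l * (g * φ s * g⁻¹) * (φ l)⁻¹ * (φ l * g * k' * (φ l * g)⁻¹ * k'⁻¹) * (φ s)⁻¹ by group, e6]
  exact hC _ (le_normalizer (c.mem s)) _ (mul_mem (hC _ hn' _ hk') (inv_mem hk'))

theorem outer [Finite V] (K : KitA i φ L) {r g : G} (hg : g ∈ N[L]) {f : V ≃+ V}
    (hf : Semi B f σ) (ha : Act φ r f) (h2 : r * r ∈ C[L]) (h3 : ⁅g, r⁆ ∈ L ⊔ C[L]) :
    FixC L r g := by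
  obtain ⟨ω, hω⟩ := c.qf.tr
  obtain ⟨x0, y0, e0⟩ := nontriv c
  have x00 : x0 ≠ 0 := fun e => by simp [e] at e0
  have ff : ∀ x, f (f x) = x := by
    obtain ⟨-, d, d1, d2⟩ := scal c K h2 (semi_mul hf hf) (act_mul ha ha)
    have d3 : ∀ x, f (f x) = d • x := d2
    have d4 : σ d = d := smul_left_injective E (f.map_ne_zero_iff.2 x00) (by
      simp only [← hf.smul, ← d3])
    have d5 : d = 1 := c.qf.eq_one_of_pow (k := 1) (by rw [pow_one, pow_two, ← d1, d4])
    simp [d3, d5]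
  obtain ⟨h, η, hh, hb⟩ := c.mod.ext g hg
  have a' := act_mul (act_mul hb ha) (act_inv hb)
  have s' := semi_mul (semi_mul hh hf) (semi_inv hh)
  rw [show η.symm.trans (σ.trans η) = σ from RingEquiv.ext fun a => by simp [c.θ_σ hh]] at s'
  obtain ⟨x, hx, e1⟩ := conj_isom c hf ff hω s' hh fun v => by simp
  generalize h.symm.trans (f.trans h) = f' at a' s' e1
  obtain ⟨j, hj, k, hk, e2⟩ : ∃ j ∈ L, ∃ k ∈ C[L], j * k = ⁅g, r⁆ := by
    have : ⁅g, r⁆ ∈ ((L ⊔ C[L] : Subgroup G) : Set G) := h3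
    rwa [coe_mul_of_right_le_normalizer_left _ _ (centralizer_le_normalizer _)] at this
  obtain ⟨s, rfl⟩ := c.surj hj
  obtain ⟨-, d, d1, d2⟩ := scal c K (k := (φ s)⁻¹ * (g * r * g⁻¹ * r⁻¹))
    (by rwa [← commutatorElement_def, ← e2, inv_mul_cancel_left])
    (semi_mul (semi_inv (semi_phi s)) (semi_mul s' (semi_inv hf)))
    (act_mul (act_inv (act_phi s)) (act_mul a' (act_inv ha)))
  have d3 : ∀ v, (s⁻¹).1 (x (f v)) = d • f (x v) := fun v => by
    have := d2 (f (x v))
    simp only [AddEquiv.trans_apply, AddEquiv.symm_apply_apply] at this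
    rw [e1]; exact this
  have d0 : d ≠ 0 := fun e => by simp [e] at d1
  have e3 := det_semi c hf ff hω (y := x) (z := d⁻¹ • ((s⁻¹).1 * x : V ≃ₗ[E] V)) fun v => by
    rw [LinearMap.smul_apply, LinearEquiv.coe_coe, LinearEquiv.mul_apply, d3, smul_smul,
      inv_mul_cancel₀ d0, one_smul, LinearEquiv.coe_coe]
  rw [LinearMap.det_smul, LinearEquiv.coe_toLinearMap_mul, map_mul, (mem_sisom'.1 (s⁻¹).2).2,
    one_mul] at e3
  have e4 := c.herm.det_norm hx
  rw [RingHom.coe_coe, ← e3] at e4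
  obtain ⟨μ, rfl⟩ := H35.NF.exists_sqrt c.qf.two d
  have μ0 : μ ≠ 0 := fun e => by simp [e] at d0
  have μ1 : μ * σ μ = 1 := c.qf.eq_one_of_pow (k := 1) (by
    rw [← d1, map_mul]; ring)
  have e5 : μ⁻¹ ^ finrank E V * LinearMap.det (x : V →ₗ[E] V) = 1 :=
    c.qf.eq_one_of_pow (k := 1) (by rw [← e4, mul_inv, mul_pow]; ring)
  let m : V ≃ₗ[E] V := LinearEquiv.smulOfNeZero E V μ⁻¹ (inv_ne_zero μ0)
  have hm : ∀ v, m v = μ⁻¹ • v := fun _ => rfl
  let l : sisom B := ⟨m * x, mem_sisom'.2 ⟨fun v w => by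
    rw [LinearEquiv.mul_apply, LinearEquiv.mul_apply, hm, hm, sm_left, sm_right, hx, ← mul_assoc,
      map_inv₀, ← mul_inv, mul_comm (σ μ), μ1, inv_one, one_mul], by
    rw [← e5, ← LinearMap.det_smul]; rfl⟩⟩
  refine ⟨(φ l)⁻¹, inv_mem (c.mem l), ?_⟩
  rw [show (φ l)⁻¹ * g * r * ((φ l)⁻¹ * g)⁻¹ * r⁻¹ = (φ l)⁻¹ * (g * r * g⁻¹ * (φ l * r⁻¹)) by group]
  refine cent c (act_mul (act_inv (act_phi l)) (act_mul a' (act_mul (act_phi l) (act_inv ha))))
    (d := μ * μ) d0 fun v => ?_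
  obtain ⟨v, rfl⟩ := f.surjective v
  simp only [AddEquiv.trans_apply, AddEquiv.symm_apply_apply]
  rw [AddEquiv.symm_apply_eq]
  change f' (μ⁻¹ • x v) = μ⁻¹ • x ((μ * μ) • f v)
  rw [s'.smul, ← e1, map_smul, smul_smul, inv_mul_cancel_left₀ μ0, map_inv₀,
    ← eq_inv_of_mul_eq_one_left μ1]

omit c in
theorem cls (si : UM.SIStmt.{u, v}) : UM.ClsStmt.{u, v} := by
  intro F E V _ _ _ _ _ _ _ _ i σ B G _ _ φ L c K K' P hP h2 r hr rr g hg
  obtain ⟨f, θ, hf, ha⟩ := c.mod.ext r (hP hr)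
  by_cases e : θ = RingEquiv.refl E
  · obtain ⟨ψ, h1, h3⟩ := K.out
    obtain ⟨m, hm, h4⟩ := h3 ⟨r, hP hr⟩ ((h1 _ f θ hf ha).trans e)
    obtain ⟨k, hk⟩ := is2_of_mem h2 hr
    exact inner c (hP hg) ((zpowers_le.2 h4 : zpowers (r ^ m) ≤ _) (mem_zpowers_pow_iff.2
      (Nat.Coprime.coprime_dvd_right (orderOf_dvd_of_pow_eq_one hk)
        ((Nat.coprime_two_right.2 hm).pow_right k)))) rr
  · obtain rfl := eq_σ c (fun a => DFunLike.congr_fun
      (scal c K rr (semi_mul hf hf) (act_mul ha ha)).1 a) e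
    obtain ⟨v, hv⟩ := c.exists_pt
    exact outer c K (hP hg) hf ha rr (((si i θ B φ L c K K').1 v hv).ab P hP h2
      (commutator_mem_commutator hg hr))

end Cfsg.Agent.H67.UCls
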