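import Cfsg.Agent.H17.KnDefL

/-!
The bridge between the two models of the unitriangular group of degree five.
-/

set_option autoImplicit false
set_option maxRecDepth 100000
set_option synthInstance.maxSize 2000

namespace Cfsg.Agent.H67.KnBr

open Subgroup Cfsg.Agent.H17.Kn

universe u

theorem xe_mem : ∀ i j : Fin 5, i < j → xe i j ∈ T0 := by decide +kernel

/-- The elementary matrices as elements of `T0`. -/
def xt (i j : Fin 5) (h : i < j := by decide) : T0 := ⟨xe i j, xe_mem i j h⟩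

/-- The generators. -/
def xs : List T0 := [xt 0 1, xt 1 2, xt 2 3, xt 3 4, xt 0 2, xt 1 3, xt 2 4, xt 0 3, xt 1 4, xt 0 4]

theorem rel : H96.SU5.T.Rel xs := by
  apply H96.SU5.rel_of <;> exact Subtype.ext (by decide +kernel)

theorem ψ_el : ∀ i, ∀ h : i < 10, H96.Pc.lift xs rel (H96.SU5.T.el (2 ^ i)) = xs[i] := fun i h => by
  rw [H96.Pc.lift_apply, H96.Pc.el_val (Nat.pow_lt_pow_right one_lt_two h), H96.word_two_pow xs i h]

theorem br (hB : Base.{u}) : BrStmt := by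
  have b : Function.Bijective (H96.Pc.lift xs rel) := by
    refine H96.Pc.lift_bijective xs rel (eq_top_iff.2 fun u _ => ?_) hB.m1.cT0
    have m : ∀ v ∈ xs, v.1 ∈ (closure {x | x ∈ xs}).map T0.subtype := fun v hv =>
      ⟨v, subset_closure hv, rfl⟩
    obtain ⟨v, hv, e⟩ := hB.m2.gT0 _ (m (xt 0 1) (by simp [xs])) (m (xt 1 2) (by simp [xs]))
      (m (xt 2 3) (by simp [xs])) (m (xt 3 4) (by simp [xs])) u.2
    exact (Subtype.ext e : v = u) ▸ hv
  let κ := (MulEquiv.ofBijective _ H11.U5.φ_bij).symm.trans (MulEquiv.ofBijective _ b)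
  have k : ∀ i, ∀ h : i < 10, κ H11.U5.ys[i] = xs[i] := fun i h => by
    rw [← H11.U5.φ_el i h, ← ψ_el i h]
    exact congrArg (H96.Pc.lift xs rel)
      ((MulEquiv.ofBijective _ H11.U5.φ_bij).symm_apply_apply (H96.SU5.T.el (2 ^ i)))
  have k0 : (κ (H11.U5.y 0 1)).1 = xe 0 1 := congrArg Subtype.val (k 0 (by norm_num))
  have k1 : (κ (H11.U5.y 1 2)).1 = xe 1 2 := congrArg Subtype.val (k 1 (by norm_num))
  have k2 : (κ (H11.U5.y 2 3)).1 = xe 2 3 := congrArg Subtype.val (k 2 (by norm_num))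
  have k3 : (κ (H11.U5.y 3 4)).1 = xe 3 4 := congrArg Subtype.val (k 3 (by norm_num))
  have k4 : (κ (H11.U5.y 0 2)).1 = xe 0 2 := congrArg Subtype.val (k 4 (by norm_num))
  have k5 : (κ (H11.U5.y 1 3)).1 = xe 1 3 := congrArg Subtype.val (k 5 (by norm_num))
  have k6 : (κ (H11.U5.y 2 4)).1 = xe 2 4 := congrArg Subtype.val (k 6 (by norm_num))
  have k7 : (κ (H11.U5.y 0 3)).1 = xe 0 3 := congrArg Subtype.val (k 7 (by norm_num))
  have k8 : (κ (H11.U5.y 1 4)).1 = xe 1 4 := congrArg Subtype.val (k 8 (by norm_num))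
  have k9 : (κ (H11.U5.y 0 4)).1 = xe 0 4 := congrArg Subtype.val (k 9 (by norm_num))
  have c : ∀ i j : Fin 5, i < j → (i, j) ∈ [(0, 1), (1, 2), (2, 3), (3, 4), (0, 2), (1, 3), (2, 4),
    (0, 3), (1, 4), (0, 4)] := by decide
  refine ⟨κ, fun i j h => ?_⟩
  have e := c i j h
  simp only [List.mem_cons, Prod.mk.injEq, List.not_mem_nil, or_false] at e
  rcases e with ⟨rfl, rfl⟩ | ⟨rfl, rfl⟩ | ⟨rfl, rfl⟩ | ⟨rfl, rfl⟩ | ⟨rfl, rfl⟩ | ⟨rfl, rfl⟩ |
    ⟨rfl, rfl⟩ | ⟨rfl, rfl⟩ | ⟨rfl, rfl⟩ | ⟨rfl, rfl⟩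
  exacts [k0, k1, k2, k3, k4, k5, k6, k7, k8, k9]

end Cfsg.Agent.H67.KnBr
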