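import Cfsg.Agent.H17.KnDefs
import Cfsg.Agent.H89.Sy
import Cfsg.Agent.H89.PBasic
import Cfsg.Agent.H3.Cores

/-!
The reduction to a simple normal subgroup.
-/

set_option autoImplicit false

namespace Cfsg.Agent.H67.KnR3

open Equiv Subgroup Cfsg.Agent.H11.A16 Cfsg.Agent.H63 Cfsg.Agent.H17.Kn
open Cfsg.Agent.H89.Rec (Syl eq_one_of_odd_of_pow mem_nrm)

universe u

variable {G : Type u} [Group G] [Finite G] {J : N2 → G} {φ : G → Perm Ω}

theorem two_A (hB : Base.{u}) (h : Ki J φ) : IsPGroup 2 (im J AA) :=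
  (h.em.mono AA_le_T0).two (IsPGroup.of_card (n := 4) hB.m1.cAA)

theorem A_le (hB : Base.{u}) (h : Ki J φ) (ho : Cfsg.oddCore G = ⊥) {X : Subgroup G} [hX : X.Normal]
    (X1 : X ≠ ⊥) : im J AA ≤ X := by
  have k := hB.kit J φ h
  obtain ⟨S, hS, AS, -, -, sy⟩ := hB.gen.ovs X (im J AA) (two_A hB h) (by
    rw [normalizer_eq_top]; exact le_top)
  have n : X.subgroupOf S ≠ ⊥ := fun e => X1 (by
    have o := sy.odd
    rw [show S ⊓ X = ⊥ from (inf_comm _ _).trans (subgroupOf_eq_bot.1 e).eq_bot,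
      relIndex_bot_left] at o
    exact eq_bot_iff.2 ((H3.le_pPrimeCore (Nat.coprime_two_right.2 o)).trans ho.le))
  obtain ⟨r, hr, c, r1⟩ := H89.exists_mem_center_of_normal hS n
  obtain ⟨a, ha, e⟩ := (h.em.mono AA_le_T0).mem.1 (k.cA2 S hS AS r r.2 fun y hy =>
    congrArg Subtype.val (mem_center_iff.1 c ⟨y, AS hy⟩))
  obtain ⟨g, -, hg⟩ := k.fus a ha fun e1 => r1 (Subtype.ext (by rw [← e, e1, h.em.one]; rfl))
  have hz : J z2 ∈ X := by
    rw [← show _ = J z2 from hg.symm, e]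
    exact hX.conj_mem _ hr _
  refine im_le fun b hb => ?_
  by_cases b1 : b = 1
  · rw [b1, h.em.one]; exact one_mem _
  obtain ⟨g', -, hg'⟩ := k.fus b hb b1
  rw [← show _ = J b from hg']
  exact hX.conj_mem _ hz _

theorem claim (hB : Base.{u}) (h : Ki J φ) (ho : Cfsg.oddCore G = ⊥) (h2 : Cfsg.pCore 2 G = ⊥)
    {X : Subgroup G} [hX : X.Normal] (X1 : X ≠ ⊥) :
    im J T0 ≤ X ∧ ∀ m ∈ Aff, ∃ g ∈ NA J, g ∈ X ∧ φ g = m := by
  have k := hB.kit J φ h
  have AX := A_le hB h ho X1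
  let H : Subgroup (Perm Ω) :=
    { carrier := {m | ∃ g ∈ NA J, g ∈ X ∧ φ g = m}
      one_mem' := ⟨1, one_mem _, one_mem _, k.one⟩
      mul_mem' := by
        rintro _ _ ⟨g, hg, gX, rfl⟩ ⟨g', hg', gX', rfl⟩
        exact ⟨_, mul_mem hg hg', mul_mem gX gX', h.mul _ hg _ hg'⟩
      inv_mem' := by
        rintro _ ⟨g, hg, gX, rfl⟩
        exact ⟨_, inv_mem hg, inv_mem gX, k.inv _ hg⟩ }
  have ker : ∀ {g x : G}, g ∈ NA J → x ∈ NA J → φ x = φ g → φ (x⁻¹ * g) = 1 := fun hg hx e => by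
    rw [h.mul _ (inv_mem hx) _ hg, k.inv _ hx, e, inv_mul_cancel]
  rcases hB.af.nsub H (by
      rintro _ ⟨a, ha, rfl⟩
      exact ⟨J a, k.le a (AA_le_T0 ha), AX (mem_im ha), h.res a (AA_le_T0 ha)⟩)
    (by rintro _ ⟨g, hg, -, rfl⟩; exact h.aff g hg) (fun m hm => by
      obtain ⟨n, hn, rfl⟩ := h.sur m hm
      refine mem_nrm ?_
      rintro _ ⟨g, hg, gX, rfl⟩
      exact ⟨_, mul_mem (mul_mem hn hg) (inv_mem hn), hX.conj_mem _ gX n, by
        rw [h.mul _ (mul_mem hn hg) _ (inv_mem hn), h.mul _ hn _ hg, k.inv _ hn]⟩) with e | e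
  · exfalso
    have cA : im J AA ≤ C[im J AA] := k.cenA.le
    have nc : ∀ g ∈ X, g ∈ NA J → g ∈ C[im J AA] := fun g gX hg => by
      obtain ⟨a, ha, e1⟩ : φ g ∈ AA.map pm2 := e ▸ (⟨g, hg, gX, rfl⟩ : φ g ∈ H)
      have m := k.le a (AA_le_T0 ha)
      simpa using mul_mem (cA (mem_im ha)) (k.kerC _ (mul_mem (inv_mem m) hg)
        (ker hg m (by rw [h.res a (AA_le_T0 ha), e1])))
    have sy : Syl (im J AA) X := (k.cenA.mono (le_inf AX cA) inf_le_right).of_normalizer inf_le_left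
      fun g gX hg => ⟨gX, nc g gX hg⟩
    obtain ⟨O, o1, o2, o3⟩ := sy.twoNil fun g gX hg r hr => (nc g gX hg r hr).symm
    have : O.Normal := ⟨fun y hy g => (o2 _).2 ⟨hX.conj_mem _ ((o2 _).1 hy).1 g, by
      rw [show orderOf (g * y * g⁻¹) = orderOf y from (MulAut.conj g).orderOf_eq y]
      exact ((o2 _).1 hy).2⟩⟩
    have O1 : O ≤ ⊥ := (H3.le_pPrimeCore (Nat.coprime_two_right.2 o1)).trans ho.le
    refine X1 (eq_bot_iff.2 ((H3.le_pCore ((two_A hB h).to_le fun x hx => ?_)).trans h2.le))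
    obtain ⟨o, hO, r, hr, rfl⟩ := o3 x hx
    rwa [mem_bot.1 (O1 hO), one_mul]
  · have s : ∀ m ∈ Aff, ∃ g ∈ NA J, g ∈ X ∧ φ g = m := fun m hm => (e ▸ hm : m ∈ H)
    refine ⟨im_le fun t ht => ?_, s⟩
    obtain ⟨x, hx, xX, e1⟩ := s _ (h.aff _ (k.le t ht))
    have o := h.ker _ (mul_mem (inv_mem hx) (k.le t ht)) (ker (k.le t ht) hx e1)
    obtain ⟨n, hn⟩ := k.syl.grp ⟨J t, mem_im ht⟩
    have e2 : QuotientGroup.mk' X (x⁻¹ * J t) = QuotientGroup.mk' X (J t) := by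
      rw [map_mul, show QuotientGroup.mk' X x⁻¹ = 1 from (QuotientGroup.eq_one_iff _).2 (inv_mem xX),
        one_mul]
    refine (QuotientGroup.eq_one_iff _).1 (eq_one_of_odd_of_pow (g := QuotientGroup.mk' X (J t))
      (n := n) (e2 ▸ o.of_dvd_nat (orderOf_map_dvd _ _)) ?_)
    rw [← map_pow, show J t ^ 2 ^ n = 1 from congrArg Subtype.val hn, map_one]

omit [Finite G] in
/-- The hypothesis passes to a subgroup. -/
theorem restrict (h : Ki J φ) {X : Subgroup G} (h1 : im J T0 ≤ X)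
    (h2 : ∀ m ∈ Aff, ∃ g ∈ NA J, g ∈ X ∧ φ g = m) :
    ∃ (J' : N2 → X) (φ' : X → Perm Ω), Ki J' φ' := by
  classical
  let J' : N2 → X := fun u => if hu : u ∈ T0 then ⟨J u, h1 (mem_im hu)⟩ else 1
  have e : ∀ u ∈ T0, (J' u : G) = J u := fun u hu => by simp [J', hu]
  have em : Em J' T0 := ⟨fun u hu v hv => Subtype.ext (by
      rw [coe_mul, e u hu, e v hv, e _ (mul_mem hu hv), h.em.mul u hu v hv]),
    fun u hu v hv k => h.em.inj u hu v hv (by rw [← e u hu, ← e v hv, k])⟩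
  have a : im J' AA = (im J AA).subgroupOf X := by
    ext x
    rw [mem_subgroupOf, (em.mono AA_le_T0).mem, (h.em.mono AA_le_T0).mem]
    refine exists_congr fun u => and_congr_right fun hu => ?_
    rw [← e u (AA_le_T0 hu), Subtype.ext_iff]
  have n : ∀ x : X, x ∈ NA J' ↔ (x : G) ∈ NA J := fun x => by
    rw [NA, a, ← subgroupOf_normalizer_eq ((im_mono AA_le_T0).trans h1), mem_subgroupOf]
  refine ⟨J', fun x => φ x, em, fun g hg k hk => h.mul _ ((n g).1 hg) _ ((n k).1 hk),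
    fun t ht => by rw [e t ht, h.res t ht], fun g hg => h.aff _ ((n g).1 hg), fun m hm => ?_,
    fun g hg k => ?_⟩
  · obtain ⟨g, hg, gX, k⟩ := h2 m hm
    exact ⟨⟨g, gX⟩, (n _).2 hg, k⟩
  · rw [← Subgroup.orderOf_coe]
    exact h.ker _ ((n g).1 hg) k

omit [Finite G] in
theorem T_ne (hB : Base.{u}) (h : Ki J φ) : im J T0 ≠ ⊥ := fun e => by
  have c := h.em.card
  rw [e, card_bot, hB.m1.cT0] at c
  omega

theorem r3 (hB : Base.{u}) : R3Stmt.{u} := by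
  intro G _ _ J φ h ho h2
  obtain ⟨X, ⟨hX, X1⟩, min⟩ := wellFounded_lt.has_min {X : Subgroup G | X.Normal ∧ X ≠ ⊥}
    ⟨⊤, inferInstance, fun e => T_ne hB h (eq_bot_iff.2 (e ▸ le_top))⟩
  obtain ⟨c1, c2⟩ := claim hB h ho h2 X1
  obtain ⟨J', φ', h'⟩ := restrict h c1 c2
  have inj : ∀ {Y : Subgroup X}, Y.map X.subtype ≤ ⊥ → Y = ⊥ := fun e =>
    (map_eq_bot_iff_of_injective _ X.subtype_injective).1 (eq_bot_iff.2 e)
  have ho' : Cfsg.oddCore X = ⊥ := by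
    have := H3.pPrimeCore_characteristic 2 X
    refine inj ((H3.le_pPrimeCore ?_).trans ho.le)
    rw [card_map_of_injective X.subtype_injective]
    exact H3.pPrimeCore_coprime 2 X
  have h2' : Cfsg.pCore 2 X = ⊥ := by
    have := H3.pCore_characteristic 2 X
    exact inj ((H3.le_pCore ((H3.pCore_isPGroup 2 X).map _)).trans h2.le)
  refine ⟨X, hX, ?_, ?_, (im_mono AA_le_T0).trans c1, J', φ', h'⟩
  · let D : Subgroup X := sInf {Y | Y.Normal ∧ Y ≠ ⊥}
    have : D.Characteristic := characteristic_iff_le_comap.2 fun ϕ x hx => mem_sInf.2 fun Y hY =>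
      mem_sInf.1 hx (Y.comap ϕ.toMonoidHom) ⟨hY.1.comap _, fun e => hY.2 (by
        rw [← map_comap_eq_self_of_surjective (f := ϕ.toMonoidHom) ϕ.surjective Y, e, Subgroup.map_bot])⟩
    have TD : im J' T0 ≤ D := le_sInf fun Y hY => by
      have := hY.1
      exact (claim hB h' ho' h2' hY.2).1
    have e : D.map X.subtype = X := by
      by_contra n
      exact min _ ⟨inferInstance, fun e => T_ne hB h' (eq_bot_iff.2 (TD.trans (inj e.le).le))⟩
        (lt_of_le_of_ne (map_subtype_le _) n)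
    have := (nontrivial_iff_ne_bot X).2 X1
    refine ⟨fun Y hY => or_iff_not_imp_left.2 fun Y1 => eq_top_iff.2 fun x _ => ?_⟩
    obtain ⟨y, hy, e1⟩ := e.ge x.2
    exact Subtype.ext e1 ▸ mem_sInf.1 hy Y ⟨hY, Y1⟩
  · by_contra n
    have c3 := (claim hB h ho h2 n).1
    have le : T0 ≤ AA := fun t ht => hB.m3.cAA t fun a ha => h.em.inj _ (mul_mem ht (AA_le_T0 ha)) _
      (mul_mem (AA_le_T0 ha) ht) (by
        rw [h.em.mul _ ht _ (AA_le_T0 ha), h.em.mul _ (AA_le_T0 ha) _ ht]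
        exact c3 (mem_im (AA_le_T0 ha)) _ (c1 (mem_im ht)))
    have c := card_le_of_le le
    rw [hB.m1.cT0, hB.m1.cAA] at c
    omega

end Cfsg.Agent.H67.KnR3
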