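import Mathlib
import Cfsg.Agent.H42.ASDefs

/-!
# Involutions and elementary abelian subgroups of `Ω₆⁺(2)`
-/

set_option autoImplicit false

namespace Cfsg.Agent.H67.ASA

open Cfsg Cfsg.Agent.H30 Cfsg.Agent.H42.AS QuadraticMap Module

theorem hq6 : (polarBilin q6).Nondegenerate := qPlus_nondegenerate 3

/-- `Ω₆⁺(2)`. -/
noncomputable abbrev KD : Subgroup (O q6) := kerDS (qPlus_nondegenerate (F := ZMod 2) 3)

theorem finrank_N6 : finrank (ZMod 2) N6 = 6 := by simp

theorem add_self6 (x : N6) : x + x = 0 := CharTwo.add_self_eq_zero x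

theorem sub6 (x y : N6) : x - y = x + y := CharTwo.sub_eq_add x y

theorem zc : ∀ s : ZMod 2, s = 0 ∨ s = 1 := by decide

instance finO : Finite (O q6) :=
  Finite.of_injective (fun g : O q6 => (g.1 : N6 → N6)) fun _ _ h => O_ext (congrFun h)

theorem card_sub (U : Submodule (ZMod 2) N6) : Nat.card U = 2 ^ finrank (ZMod 2) U := by
  rw [Module.natCard_eq_pow_finrank (K := ZMod 2), Nat.card_zmod]

theorem even_mov {g : O q6} (hg : g ∈ KD) : Even (finrank (ZMod 2) (movSp g)) := by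
  have h1 := ((mem_kerDS _).1 hg).1
  rw [dickson_apply] at h1
  by_contra h
  rw [Nat.not_even_iff_odd] at h
  rw [h.neg_one_pow] at h1
  exact absurd h1 (by decide)

theorem eq_one_of_mov {g : O q6} (h : finrank (ZMod 2) (movSp g) = 0) : g = 1 := by
  rw [Submodule.finrank_eq_zero] at h
  refine O_ext fun x => ?_
  have : g.1 x - x ∈ movSp g := mem_movSp.2 ⟨x, rfl⟩
  rw [h, Submodule.mem_bot, sub_eq_zero] at this
  exact this

theorem eq_one_of_fix {g : O q6} (hg : g ∈ KD) {F : Submodule (ZMod 2) N6} (hF : F ≤ fixSp g)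
    (h5 : 5 ≤ finrank (ZMod 2) F) : g = 1 := by
  have h1 := finrank_movSp_add_finrank_fixSp g
  have h2 := Submodule.finrank_mono hF
  have h3 := even_mov hg
  rw [finrank_N6] at h1
  obtain ⟨k, hk⟩ := h3
  exact eq_one_of_mov (by omega)

theorem mov_le_fix {g : O q6} (h2 : g * g = 1) : movSp g ≤ fixSp g := by
  intro y hy
  obtain ⟨x, rfl⟩ := mem_movSp.1 hy
  rw [mem_fixSp, map_sub, ← O_mul_apply, h2, O_one_apply, sub6, sub6, add_comm]

theorem rank_two {g : O q6} (hg : g ∈ KD) (h2 : g * g = 1) (h1 : g ≠ 1) :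
    finrank (ZMod 2) (movSp g) = 2 ∧ finrank (ZMod 2) (fixSp g) = 4 := by
  have h3 := finrank_movSp_add_finrank_fixSp g
  have h4 := Submodule.finrank_mono (mov_le_fix h2)
  have h5 : finrank (ZMod 2) (movSp g) ≠ 0 := fun h => h1 (eq_one_of_mov h)
  rw [finrank_N6] at h3
  obtain ⟨k, hk⟩ := even_mov hg
  omega

theorem mem_plane {U : Submodule (ZMod 2) N6} (hU : finrank (ZMod 2) U = 2) {a b : N6}
    (ha : a ∈ U) (hb : b ∈ U) (ha0 : a ≠ 0) (hb0 : b ≠ 0) (hab : a + b ≠ 0) {u : N6}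
    (hu : u ∈ U) : u = 0 ∨ u = a ∨ u = b ∨ u = a + b := by
  have hli : LinearIndependent (ZMod 2) ![a, b] := by
    rw [LinearIndependent.pair_iff]
    intro s t h
    rcases zc s with rfl | rfl <;> rcases zc t with rfl | rfl
    · exact ⟨rfl, rfl⟩
    · exact absurd (by simpa using h) hb0
    · exact absurd (by simpa using h) ha0
    · exact absurd (by simpa using h) hab
  have h1 : Submodule.span (ZMod 2) (Set.range ![a, b]) = U := by
    apply Submodule.eq_of_le_of_finrank_eq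
    · rw [Submodule.span_le]
      rintro _ ⟨i, rfl⟩
      fin_cases i
      · exact ha
      · exact hb
    · rw [finrank_span_eq_card hli, hU]; simp
  rw [← h1, Matrix.range_cons_cons_empty, Submodule.mem_span_pair] at hu
  obtain ⟨s, t, rfl⟩ := hu
  rcases zc s with rfl | rfl <;> rcases zc t with rfl | rfl <;> simp

theorem q_mov (g : O q6) (x : N6) : q6 (g.1 x - x) = polar q6 x (g.1 x - x) := by
  have h1 := Q_add (Q := q6) x (g.1 x - x)
  rw [add_sub_cancel, O_map, add_assoc, left_eq_add] at h1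
  rw [← sub_eq_zero, CharTwo.sub_eq_add]
  exact h1

theorem eq_of_mov_eq {g h : O q6} (hg : g ∈ KD) (hh : h ∈ KD) (g2 : g * g = 1) (h2 : h * h = 1)
    (g1 : g ≠ 1) (he : movSp g = movSp h) : g = h := by
  by_contra hne
  have hf : fixSp h = fixSp g := by rw [← perp_movSp hq6, ← perp_movSp hq6, he]
  obtain ⟨r2, r4⟩ := rank_two hg g2 g1
  have hk1 : g * h ≠ 1 := fun h0 => hne (by
    calc g = g * (h * h) := by rw [h2, mul_one]
      _ = h := by rw [← mul_assoc, h0, one_mul])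
  have hfk : fixSp g = fixSp (g * h) := by
    have hle : fixSp g ≤ fixSp (g * h) := fun x hx => by
      rw [mem_fixSp, O_mul_apply, mem_fixSp.1 (hf ▸ hx : x ∈ fixSp h), mem_fixSp.1 hx]
    apply Submodule.eq_of_le_of_finrank_le hle
    by_contra hlt
    exact hk1 (eq_one_of_fix (KD.mul_mem hg hh) le_rfl (by omega))
  have key : ∀ x, x ∉ fixSp g → ∀ u ∈ movSp g, q6 u = polar q6 x u := by
    intro x hx u hu
    have ha : g.1 x - x ∈ movSp g := mem_movSp.2 ⟨x, rfl⟩
    have hb : h.1 x - x ∈ movSp g := he ▸ mem_movSp.2 ⟨x, rfl⟩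
    have hs : (g * h).1 x - x = (g.1 x - x) + (h.1 x - x) := by
      have := mem_fixSp.1 (mov_le_fix g2 hb)
      rw [map_sub] at this
      rw [O_mul_apply, ← this]; abel
    rcases mem_plane r2 ha hb (fun h0 => hx (mem_fixSp.2 (sub_eq_zero.1 h0)))
      (fun h0 => hx (hf ▸ mem_fixSp.2 (sub_eq_zero.1 h0)))
      (fun h0 => hx (hfk ▸ mem_fixSp.2 (sub_eq_zero.1 (hs.trans h0)))) hu with
      rfl | rfl | rfl | rfl
    · simp
    · exact q_mov g x
    · exact q_mov h x
    · rw [← hs]; exact q_mov _ x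
  have hnt : fixSp g ≠ ⊤ := fun h0 => by
    rw [h0, finrank_top, finrank_N6] at r4; omega
  obtain ⟨x, -, hx⟩ := SetLike.exists_of_lt (lt_top_iff_ne_top.2 hnt)
  have htop : fixSp g ⊔ Submodule.span (ZMod 2) {x} = ⊤ := by
    rw [eq_top_iff]
    intro y _
    by_cases hy : y ∈ fixSp g
    · exact Submodule.mem_sup_left hy
    · have : y - x ∈ fixSp g := by
        rw [← perp_movSp hq6, mem_perp']
        intro w hw
        rw [polar_sub_left, ← key x hx w hw, ← key y hy w hw, sub_self]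
      rw [← sub_add_cancel y x]
      exact Submodule.add_mem_sup this (Submodule.mem_span_singleton_self x)
  have h5 := Submodule.finrank_add_le_finrank_add_finrank (fixSp g) (Submodule.span (ZMod 2) {x})
  have h6 := finrank_span_le_card (R := ZMod 2) ({x} : Set N6)
  rw [htop, finrank_top, finrank_N6] at h5
  simp only [Set.toFinset_singleton, Finset.card_singleton] at h6
  omega

theorem exists_common {g h : O q6} (hg : g ∈ KD) (hh : h ∈ KD) (g2 : g * g = 1) (h2 : h * h = 1)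
    (k2 : g * h * (g * h) = 1) (g1 : g ≠ 1) (h1 : h ≠ 1) (hne : g ≠ h) :
    ∃ u, u ≠ 0 ∧ u ∈ movSp g ∧ u ∈ movSp h := by
  by_contra hno
  push Not at hno
  have hk1 : g * h ≠ 1 := fun h0 => hne (by
    calc g = g * (h * h) := by rw [h2, mul_one]
      _ = h := by rw [← mul_assoc, h0, one_mul])
  have key : ∀ x ∈ fixSp (g * h), x ∈ fixSp g ∧ x ∈ fixSp h := by
    intro x hx
    have e1 : h.1 x = g.1 x := by
      have := congrArg g.1 (mem_fixSp.1 hx)
      rwa [O_mul_apply, ← O_mul_apply g g, g2, O_one_apply] at this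
    have e2 : g.1 x - x = 0 := by
      by_contra h0
      exact hno _ h0 (mem_movSp.2 ⟨x, rfl⟩) (mem_movSp.2 ⟨x, by rw [e1]⟩)
    exact ⟨mem_fixSp.2 (sub_eq_zero.1 e2), mem_fixSp.2 (e1.trans (sub_eq_zero.1 e2))⟩
  have r1 := (rank_two (KD.mul_mem hg hh) k2 hk1).2
  have e1 : fixSp (g * h) = fixSp g :=
    Submodule.eq_of_le_of_finrank_eq (fun x hx => (key x hx).1) (by rw [r1, (rank_two hg g2 g1).2])
  have e2 : fixSp (g * h) = fixSp h :=
    Submodule.eq_of_le_of_finrank_eq (fun x hx => (key x hx).2) (by rw [r1, (rank_two hh h2 h1).2])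
  exact hne (eq_of_mov_eq hg hh g2 h2 g1 (by rw [← perp_fixSp hq6, ← perp_fixSp hq6, ← e1, e2]))

/-- An elementary abelian subgroup fixing `F` pointwise is small. -/
theorem bound (Y : Subgroup (O q6)) (hY : Y ≤ KD) (h2 : ∀ y ∈ Y, y * y = 1)
    (F : Submodule (ZMod 2) N6) (hF : ∀ y ∈ Y, F ≤ fixSp y) (hne : Y ≠ ⊥) :
    2 * Nat.card Y + 8 ≤ 3 * 2 ^ (6 - finrank (ZMod 2) F) := by
  classical
  obtain ⟨⟨y0, hy0⟩, hy01⟩ := Subgroup.ne_bot_iff_exists_ne_one.1 hne
  have hy01 : y0 ≠ 1 := fun h => hy01 (Subtype.ext h)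
  have hmov : ∀ y ∈ Y, movSp y ≤ perp q6 F := fun y hy => by
    rw [← perp_fixSp hq6]; exact perp_anti (hF y hy)
  have r0 := (rank_two (hY hy0) (h2 _ hy0) hy01).1
  have hex : ∀ y, y ∈ Y ∧ y ≠ 1 ∧ y ≠ y0 → ∃ p : N6 × N6, p.1 ≠ 0 ∧ p.1 ∈ movSp y ∧
      p.1 ∈ movSp y0 ∧ p.2 ∈ movSp y ∧ p.2 ∉ movSp y0 := by
    rintro y ⟨hy, h1, h0⟩
    obtain ⟨u, hu0, hu, hu'⟩ := exists_common (hY hy) (hY hy0) (h2 _ hy) (h2 _ hy0)
      (h2 _ (Y.mul_mem hy hy0)) h1 hy01 h0
    have : ¬ movSp y ≤ movSp y0 := fun hle => h0 (eq_of_mov_eq (hY hy) (hY hy0) (h2 _ hy)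
      (h2 _ hy0) h1 (Submodule.eq_of_le_of_finrank_eq hle
        (by rw [r0, (rank_two (hY hy) (h2 _ hy) h1).1])))
    obtain ⟨w, hw, hw'⟩ := SetLike.not_le_iff_exists.1 this
    exact ⟨(u, w), hu0, hu, hu', hw, hw'⟩
  choose! p hp using hex
  let Yf : Finset (O q6) := (Set.toFinite (Y : Set (O q6))).toFinset
  let Uf : Finset N6 := Finset.univ.filter (· ∈ movSp y0)
  let Hf : Finset N6 := Finset.univ.filter (· ∈ perp q6 F)
  have cY : Yf.card = Nat.card Y := by
    rw [← Set.ncard_eq_toFinset_card]; rfl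
  have cS : ∀ U : Submodule (ZMod 2) N6,
      (Finset.univ.filter (· ∈ U)).card = 2 ^ finrank (ZMod 2) U := fun U => by
    rw [← card_sub, Nat.card_eq_fintype_card, Fintype.card_subtype]
  have cU : Uf.card = 4 := by rw [cS, r0]; norm_num
  have cH : Hf.card = 2 ^ (6 - finrank (ZMod 2) F) := by
    have := finrank_add_finrank_perp hq6 F
    rw [finrank_N6] at this
    rw [cS]; congr 1; omega
  have hUH : Uf ⊆ Hf := fun x hx => by
    simp only [Uf, Hf, Finset.mem_filter, Finset.mem_univ, true_and] at hx ⊢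
    exact hmov _ hy0 hx
  have memY : ∀ y, y ∈ (Yf.erase 1).erase y0 ↔ y ∈ Y ∧ y ≠ 1 ∧ y ≠ y0 := fun y => by
    simp only [Yf, Finset.mem_erase, Set.Finite.mem_toFinset, SetLike.mem_coe]; tauto
  have hle : (((Yf.erase 1).erase y0) ×ˢ (Finset.univ : Finset (ZMod 2))).card ≤
      ((Uf.erase 0) ×ˢ (Hf \ Uf)).card := by
    apply Finset.card_le_card_of_injOn (fun z => ((p z.1).1, (p z.1).2 + z.2 • (p z.1).1))
    · rintro ⟨y, e⟩ hz
      have hy := (memY y).1 (Finset.mem_product.1 (Finset.mem_coe.1 hz)).1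
      obtain ⟨a1, a2, a3, a4, a5⟩ := hp y hy
      simp only [Uf, Hf, Finset.coe_product, Set.mem_prod, Finset.mem_coe, Finset.mem_erase,
        Finset.mem_filter, Finset.mem_univ, true_and, Finset.mem_sdiff]
      refine ⟨⟨a1, a3⟩, hmov y hy.1 (Submodule.add_mem _ a4 (Submodule.smul_mem _ _ a2)),
        fun h => a5 ?_⟩
      exact (Submodule.add_mem_iff_left _ (Submodule.smul_mem _ _ a3)).1 h
    · rintro ⟨y, e⟩ hz ⟨y', e'⟩ hz' heq
      have hy := (memY y).1 (Finset.mem_product.1 (Finset.mem_coe.1 hz)).1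
      have hy' := (memY y').1 (Finset.mem_product.1 (Finset.mem_coe.1 hz')).1
      obtain ⟨a1, a2, a3, a4, a5⟩ := hp y hy
      obtain ⟨b1, b2, b3, b4, b5⟩ := hp y' hy'
      simp only [Prod.mk.injEq] at heq
      obtain ⟨e1, e2⟩ := heq
      have w1 : (p y).2 + e • (p y).1 ∈ movSp y :=
        Submodule.add_mem _ a4 (Submodule.smul_mem _ _ a2)
      have w2 : (p y).2 + e • (p y).1 ∈ movSp y' :=
        e2 ▸ Submodule.add_mem _ b4 (Submodule.smul_mem _ _ b2)
      have w3 : (p y).2 + e • (p y).1 ∉ movSp y0 := fun h =>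
        a5 ((Submodule.add_mem_iff_left _ (Submodule.smul_mem _ _ a3)).1 h)
      have ry := (rank_two (hY hy.1) (h2 _ hy.1) hy.2.1).1
      have hyy : y = y' := by
        apply eq_of_mov_eq (hY hy.1) (hY hy'.1) (h2 _ hy.1) (h2 _ hy'.1) hy.2.1
        apply Submodule.eq_of_le_of_finrank_eq _
          (by rw [ry, (rank_two (hY hy'.1) (h2 _ hy'.1) hy'.2.1).1])
        intro u hu
        rcases mem_plane ry a2 w1 a1 (fun h => w3 (h ▸ Submodule.zero_mem _))
          (fun h => w3 ((Submodule.add_mem_iff_right _ a3).1 (h ▸ Submodule.zero_mem _))) hu with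
          rfl | rfl | rfl | rfl
        · exact Submodule.zero_mem _
        · exact e1 ▸ b2
        · exact w2
        · exact Submodule.add_mem _ (e1 ▸ b2) w2
      subst hyy
      have := add_left_cancel e2
      rw [← sub_eq_zero, ← sub_smul, smul_eq_zero, sub_eq_zero] at this
      rw [this.resolve_right a1]
  have m1 : (1 : O q6) ∈ Yf := by simp [Yf]
  have m2 : y0 ∈ Yf.erase 1 := by simp [Yf, hy01, hy0]
  have m3 : (0 : N6) ∈ Uf := by simp [Uf]
  have c1 := Finset.card_erase_add_one m1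
  have c2 := Finset.card_erase_add_one m2
  have c3 := Finset.card_erase_add_one m3
  have c4 := Finset.card_sdiff_add_card_eq_card hUH
  rw [Finset.card_product, Finset.card_product, Finset.card_univ, ZMod.card] at hle
  have c5 : (Uf.erase 0).card = 3 := by omega
  rw [c5] at hle
  omega

end Cfsg.Agent.H67.ASA
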