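import Mathlib
import Cfsg.Agent.H67.ASLin

/-!
# The linear algebra behind weak and strong closure of `W`
-/

set_option autoImplicit false

namespace Cfsg.Agent.H67.ASA

open Cfsg Cfsg.Agent.H30 Cfsg.Agent.H42.AS QuadraticMap Module

abbrev PP : Type := N6 × N6

/-- The diagonal action. -/
def dg (g : O q6) (x : PP) : PP := (g.1 x.1, g.1 x.2)

theorem add_selfP (x : PP) : x + x = 0 := Prod.ext (add_self6 _) (add_self6 _)

theorem eq_of_add_eq_zeroP {x y : PP} (h : x + y = 0) : x = y := by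
  calc x = x + (y + y) := by rw [add_selfP, add_zero]
    _ = y := by rw [← add_assoc, h, zero_add]

theorem split (S : AddSubgroup PP) (θ : PP → O q6)
    (hθ : ∀ x ∈ S, ∀ x' ∈ S, θ (x + x') = θ x * θ x') :
    ∃ Y : Subgroup (O q6), (∀ y, y ∈ Y ↔ ∃ x ∈ S, θ x = y) ∧
      Nat.card S = Nat.card {x // x ∈ S ∧ θ x = 1} * Nat.card Y := by
  let f : Multiplicative S →* O q6 :=
    MonoidHom.mk' (fun x => θ (Multiplicative.toAdd x : S)) fun a b => hθ _ (Subtype.mem _) _ (Subtype.mem _)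
  refine ⟨f.range, fun y => ⟨?_, ?_⟩, ?_⟩
  · rintro ⟨x, rfl⟩
    exact ⟨_, Subtype.mem _, rfl⟩
  · rintro ⟨x, hx, rfl⟩
    exact ⟨Multiplicative.ofAdd ⟨x, hx⟩, rfl⟩
  · have h1 := Subgroup.card_eq_card_quotient_mul_card_subgroup f.ker
    rw [Nat.card_congr (QuotientGroup.quotientKerEquivRange f).toEquiv] at h1
    have h2 : Nat.card f.ker = Nat.card {x // x ∈ S ∧ θ x = 1} :=
      Nat.card_congr
        { toFun := fun x => ⟨(Multiplicative.toAdd x.1 : S), Subtype.mem _, x.2⟩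
          invFun := fun x => ⟨Multiplicative.ofAdd ⟨x.1, x.2.1⟩, x.2.2⟩
          left_inv := fun _ => rfl
          right_inv := fun _ => rfl }
    rw [← h2, mul_comm, ← h1]
    rfl

theorem card_le_sq {α : Type} (F : Submodule (ZMod 2) N6) (ν : α → PP) (hν : Function.Injective ν)
    (h : ∀ a, (ν a).1 ∈ F ∧ (ν a).2 ∈ F) :
    Nat.card α ≤ 2 ^ finrank (ZMod 2) F * 2 ^ finrank (ZMod 2) F := by
  rw [← card_sub, ← Nat.card_prod]
  refine Nat.card_le_card_of_injective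
    (fun a => ((⟨(ν a).1, (h a).1⟩, ⟨(ν a).2, (h a).2⟩) : F × F)) fun a b hab => hν ?_
  simp only [Prod.mk.injEq, Subtype.mk.injEq] at hab
  exact Prod.ext hab.1 hab.2

theorem card_prod_sub (F : Submodule (ZMod 2) N6) :
    Nat.card (F.toAddSubgroup.prod F.toAddSubgroup) =
      2 ^ finrank (ZMod 2) F * 2 ^ finrank (ZMod 2) F := by
  rw [← card_sub, ← Nat.card_prod]
  exact Nat.card_congr (AddSubgroup.prodEquiv _ _).toEquiv

theorem theta_zero {S : AddSubgroup PP} {θ : PP → O q6}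
    (hθ : ∀ x ∈ S, ∀ x' ∈ S, θ (x + x') = θ x * θ x') : θ 0 = 1 := by
  have := hθ 0 S.zero_mem 0 S.zero_mem
  rw [add_zero] at this
  exact (mul_eq_left.1 this.symm)

/-- The span of the coordinates of a family. -/
def cspan {α : Type} (ν : α → PP) : Submodule (ZMod 2) N6 :=
  Submodule.span (ZMod 2) (Set.range (fun a => (ν a).1) ∪ Set.range (fun a => (ν a).2))

theorem mem_cspan {α : Type} (ν : α → PP) (a : α) : (ν a).1 ∈ cspan ν ∧ (ν a).2 ∈ cspan ν :=
  ⟨Submodule.subset_span (Or.inl ⟨a, rfl⟩), Submodule.subset_span (Or.inr ⟨a, rfl⟩)⟩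

theorem cspan_le {α : Type} {ν : α → PP} {g : O q6} (h : ∀ a, dg g (ν a) = ν a) :
    cspan ν ≤ fixSp g := by
  rw [cspan, Submodule.span_le]
  rintro _ (⟨a, rfl⟩ | ⟨a, rfl⟩)
  · exact mem_fixSp.2 (congrArg Prod.fst (h a))
  · exact mem_fixSp.2 (congrArg Prod.snd (h a))

/-- Weak closure. -/
theorem weak_lin (θ : PP → O q6) (μ : PP → PP) (hθ : ∀ x x', θ (x + x') = θ x * θ x')
    (hK : ∀ x, θ x ∈ KD) (hμ : ∀ x x', θ x = 1 → θ x' = 1 → μ x = μ x' → x = x')
    (hfix : ∀ x x', θ x' = 1 → dg (θ x) (μ x') = μ x') : ∀ x, θ x = 1 := by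
  obtain ⟨Y, hY, hc⟩ := split ⊤ θ fun x _ x' _ => hθ x x'
  by_contra hno
  push Not at hno
  obtain ⟨x0, hx0⟩ := hno
  have h0 : θ 0 = 1 := theta_zero (S := ⊤) fun x _ x' _ => hθ x x'
  let ν : {x // x ∈ (⊤ : AddSubgroup PP) ∧ θ x = 1} → PP := fun x => μ x
  have hb := bound Y (fun y hy => by obtain ⟨x, -, rfl⟩ := (hY y).1 hy; exact hK x)
    (fun y hy => by obtain ⟨x, -, rfl⟩ := (hY y).1 hy; rw [← hθ, add_selfP, h0]) (cspan ν)
    (fun y hy => by
      obtain ⟨x, -, rfl⟩ := (hY y).1 hy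
      exact cspan_le fun a => hfix x a a.2.2)
    (fun h => hx0 (Subgroup.mem_bot.1 (h ▸ (hY _).2 ⟨x0, trivial, rfl⟩)))
  have hk := card_le_sq (cspan ν) ν (fun a b h => Subtype.ext (hμ _ _ a.2.2 b.2.2 h)) (mem_cspan ν)
  have hP : Nat.card (⊤ : AddSubgroup PP) = 4096 := by
    rw [AddSubgroup.card_top, Nat.card_prod]
    simp
  have hd : finrank (ZMod 2) (cspan ν) ≤ 6 := finrank_N6 ▸ Submodule.finrank_le _
  rw [hP] at hc
  generalize finrank (ZMod 2) (cspan ν) = d at hb hk hd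
  generalize Nat.card Y = s at hb hc
  generalize Nat.card {x // x ∈ (⊤ : AddSubgroup PP) ∧ θ x = 1} = k at hk hc
  have key : ∀ a b, k ≤ a → s ≤ b → a * b < 4096 → False := fun a b h1 h2 h3 => by
    have := Nat.mul_le_mul h1 h2
    omega
  interval_cases d
  · exact key _ 92 hk (by omega) (by norm_num)
  · exact key _ 44 hk (by omega) (by norm_num)
  · exact key _ 20 hk (by omega) (by norm_num)
  · exact key _ 8 hk (by omega) (by norm_num)
  · exact key _ 2 hk (by omega) (by norm_num)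
  · omega
  · omega

/-- Strong closure. -/
theorem strong_lin (φ : O q6) (hφ : φ ∈ KD) (φ2 : φ * φ = 1) (φ1 : φ ≠ 1) (θ : PP → O q6)
    (μ : PP → PP) (η : PP)
    (hθ : ∀ x x', dg φ x = x → dg φ x' = x' → θ (x + x') = θ x * θ x')
    (hK : ∀ x, dg φ x = x → θ x ∈ KD)
    (hadd : ∀ x x', dg φ x = x → dg φ x' = x' → θ x = 1 → θ x' = 1 → μ (x + x') = μ x + μ x')
    (hμ : ∀ x, dg φ x = x → θ x = 1 → μ x = 0 → x = 0)
    (hη : ∀ x, dg φ x = x → θ x = 1 → μ x ≠ η)
    (hfix : ∀ x x', dg φ x = x → dg φ x' = x' → θ x' = 1 → dg (θ x) (μ x') = μ x')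
    (hfη : ∀ x, dg φ x = x → dg (θ x) η = η)
    (hψ : ∀ a, θ (dg φ a - a) = 1 → ∃ ψ ∈ KD, (∀ x, dg φ x = x → θ x = 1 → dg ψ (μ x) = μ x) ∧
      dg ψ η = η + μ (dg φ a - a)) : False := by
  obtain ⟨r2, r4⟩ := rank_two hφ φ2 φ1
  let S : AddSubgroup PP := (fixSp φ).toAddSubgroup.prod (fixSp φ).toAddSubgroup
  let R : AddSubgroup PP := (movSp φ).toAddSubgroup.prod (movSp φ).toAddSubgroup
  have hS : ∀ x, x ∈ S ↔ dg φ x = x := fun x =>
    ⟨fun h => Prod.ext (mem_fixSp.1 h.1) (mem_fixSp.1 h.2),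
      fun h => ⟨mem_fixSp.2 (congrArg Prod.fst h), mem_fixSp.2 (congrArg Prod.snd h)⟩⟩
  have hRS : ∀ x ∈ R, dg φ x = x := fun x hx =>
    (hS x).1 ⟨mov_le_fix φ2 hx.1, mov_le_fix φ2 hx.2⟩
  have hR : ∀ x ∈ R, ∃ a, dg φ a - a = x := fun x hx => by
    obtain ⟨a, ha⟩ := mem_movSp.1 hx.1
    obtain ⟨b, hb⟩ := mem_movSp.1 hx.2
    exact ⟨(a, b), Prod.ext ha hb⟩
  have cS : Nat.card S = 256 := by rw [card_prod_sub, r4]; norm_num
  have cR : Nat.card R = 16 := by rw [card_prod_sub, r2]; norm_num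
  have hθ' : ∀ x ∈ S, ∀ x' ∈ S, θ (x + x') = θ x * θ x' := fun x hx x' hx' =>
    hθ x x' ((hS x).1 hx) ((hS x').1 hx')
  obtain ⟨Y, hY, hc⟩ := split S θ hθ'
  have h0 : θ 0 = 1 := theta_zero hθ'
  let ν : {x // x ∈ S ∧ θ x = 1} → PP := fun x => μ x
  have hνadd : ∀ a b : {x // x ∈ S ∧ θ x = 1}, (a.1 + b.1 ∈ S ∧ θ (a.1 + b.1) = 1) ∧
      μ (a.1 + b.1) = ν a + ν b := fun a b =>
    ⟨⟨S.add_mem a.2.1 b.2.1, by rw [hθ' _ a.2.1 _ b.2.1, a.2.2, b.2.2, one_mul]⟩,
      hadd _ _ ((hS _).1 a.2.1) ((hS _).1 b.2.1) a.2.2 b.2.2⟩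
  have hνi : Function.Injective ν := fun a b h => by
    obtain ⟨⟨h1, h2⟩, h3⟩ := hνadd a b
    rw [h, add_selfP] at h3
    exact Subtype.ext (eq_of_add_eq_zeroP (hμ _ ((hS _).1 h1) h2 h3))
  have hYK : Y ≤ KD := fun y hy => by
    obtain ⟨x, hx, rfl⟩ := (hY y).1 hy; exact hK x ((hS x).1 hx)
  have hY2 : ∀ y ∈ Y, y * y = 1 := fun y hy => by
    obtain ⟨x, hx, rfl⟩ := (hY y).1 hy; rw [← hθ' x hx x hx, add_selfP, h0]
  have hYc : ∀ y ∈ Y, cspan ν ≤ fixSp y := fun y hy => by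
    obtain ⟨x, hx, rfl⟩ := (hY y).1 hy
    exact cspan_le fun a => hfix x a ((hS x).1 hx) ((hS _).1 a.2.1) a.2.2
  have hψ' : ∀ u ∈ R, θ u = 1 → ∃ ψ ∈ KD, cspan ν ≤ fixSp ψ ∧ dg ψ η = η + μ u := by
    intro u hu h1
    obtain ⟨a, rfl⟩ := hR u hu
    obtain ⟨ψ, hψK, e1, e2⟩ := hψ a h1
    exact ⟨ψ, hψK, cspan_le fun x => e1 x ((hS _).1 x.2.1) x.2.2, e2⟩
  have hk := card_le_sq (cspan ν) ν hνi (mem_cspan ν)
  have hd : finrank (ZMod 2) (cspan ν) ≤ 6 := finrank_N6 ▸ Submodule.finrank_le _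
  rw [cS] at hc
  by_cases hA : η.1 ∈ cspan ν ∧ η.2 ∈ cspan ν
  · -- `η` is fixed by everything fixing the intersection
    have hinj : ∀ u ∈ R, θ u = 1 → u = 0 := by
      intro u hu h1
      obtain ⟨ψ, -, e1, e2⟩ := hψ' u hu h1
      have e3 : dg ψ η = η := Prod.ext (mem_fixSp.1 (e1 hA.1)) (mem_fixSp.1 (e1 hA.2))
      rw [e3, left_eq_add] at e2
      exact hμ u (hRS u hu) h1 e2
    have h16 : 16 ≤ Nat.card Y := by
      rw [← cR]
      refine Nat.card_le_card_of_injective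
        (fun u : R => (⟨θ u, (hY _).2 ⟨u, (hS _).2 (hRS _ u.2), rfl⟩⟩ : Y)) fun u u' h => ?_
      have h1 : θ u = θ u' := congrArg Subtype.val h
      apply Subtype.ext
      apply eq_of_add_eq_zeroP
      apply hinj _ (R.add_mem u.2 u'.2)
      rw [hθ _ _ (hRS _ u.2) (hRS _ u'.2), h1, ← hθ _ _ (hRS _ u'.2) (hRS _ u'.2), add_selfP, h0]
    have hb := bound Y hYK hY2 _ hYc fun h => by
      rw [h, Subgroup.card_bot] at h16; omega
    have hk2 := card_le_sq (cspan ν)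
      (fun z : {x // x ∈ S ∧ θ x = 1} × Bool => if z.2 then ν z.1 + η else ν z.1)
      (by
        have hx : ∀ a b, ν a + η ≠ ν b := fun a b h => by
          obtain ⟨⟨h1, h2⟩, h3⟩ := hνadd a b
          apply hη _ ((hS _).1 h1) h2
          rw [h3, ← h, ← add_assoc, add_selfP, zero_add]
        rintro ⟨a, e⟩ ⟨b, e'⟩ h
        cases e <;> cases e' <;> simp only [if_true, Bool.false_eq_true, if_false] at h
        · rw [hνi h]
        · exact absurd h.symm (hx _ _)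
        · exact absurd h (hx _ _)
        · rw [hνi (add_right_cancel h)])
      (by
        rintro ⟨a, e⟩
        cases e
        · exact mem_cspan ν a
        · exact ⟨Submodule.add_mem _ (mem_cspan ν a).1 hA.1,
            Submodule.add_mem _ (mem_cspan ν a).2 hA.2⟩)
    rw [Nat.card_prod, Nat.card_eq_fintype_card (α := Bool), Fintype.card_bool] at hk2
    generalize finrank (ZMod 2) (cspan ν) = d at hb hk2 hd
    generalize Nat.card Y = s at hb hc h16
    generalize Nat.card {x // x ∈ S ∧ θ x = 1} = k at hk2 hc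
    have key : ∀ a b, k ≤ a → s ≤ b → a * b < 256 → False := fun a b h1 h2 h3 => by
      have := Nat.mul_le_mul h1 h2
      omega
    interval_cases d
    · exact key 0 92 (by omega) (by omega) (by norm_num)
    · exact key 2 44 (by omega) (by omega) (by norm_num)
    · exact key 8 20 (by omega) (by omega) (by norm_num)
    all_goals omega
  · obtain ⟨p, hp1, hp2, hp3⟩ : ∃ p : PP → N6, (∀ x y, p (x + y) = p x + p y) ∧
        (∀ g x, p (dg g x) = g.1 (p x)) ∧ p η ∉ cspan ν := by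
      by_cases h1 : η.1 ∈ cspan ν
      · exact ⟨Prod.snd, fun _ _ => rfl, fun _ _ => rfl, fun h => hA ⟨h1, h⟩⟩
      · exact ⟨Prod.fst, fun _ _ => rfl, fun _ _ => rfl, h1⟩
    let F := cspan ν ⊔ Submodule.span (ZMod 2) {p η}
    have hF : finrank (ZMod 2) (cspan ν) < finrank (ZMod 2) F :=
      Submodule.finrank_lt_finrank_of_lt (lt_of_le_of_ne le_sup_left fun h =>
        hp3 (h ▸ Submodule.mem_sup_right (Submodule.mem_span_singleton_self _)))
    have hF6 : finrank (ZMod 2) F ≤ 6 := finrank_N6 ▸ Submodule.finrank_le _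
    have hFle : ∀ g : O q6, cspan ν ≤ fixSp g → g.1 (p η) = p η → F ≤ fixSp g := fun g h1 h2 =>
      sup_le h1 ((Submodule.span_singleton_le_iff_mem _ _).2 (mem_fixSp.2 h2))
    by_cases hY1 : Y = ⊥
    · have hall : ∀ x ∈ S, θ x = 1 := fun x hx =>
        Subgroup.mem_bot.1 (hY1 ▸ (hY _).2 ⟨x, hx, rfl⟩)
      rw [hY1, Subgroup.card_bot, mul_one] at hc
      have hd4 : 4 ≤ finrank (ZMod 2) (cspan ν) := by
        rw [← hc] at hk
        by_contra h
        push Not at h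
        generalize finrank (ZMod 2) (cspan ν) = d at hk h
        interval_cases d <;> omega
      have hmem : ∀ u : R, p (μ u) ∈ perp q6 (cspan ν) := fun u => by
        obtain ⟨ψ, -, e1, e2⟩ := hψ' u u.2 (hall _ ((hS _).2 (hRS _ u.2)))
        have e3 := congrArg p e2
        rw [hp1, hp2] at e3
        apply perp_anti e1
        rw [perp_fixSp hq6]
        exact mem_movSp.2 ⟨p η, by rw [e3, add_sub_cancel_left]⟩
      have hle : Nat.card R ≤ Nat.card (perp q6 (cspan ν)) := by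
        refine Nat.card_le_card_of_injective
          (fun u : R => (⟨p (μ u), hmem u⟩ : perp q6 (cspan ν))) fun u u' h => ?_
        have h1 : p (μ u) = p (μ u') := congrArg Subtype.val h
        have hu := R.add_mem u.2 u'.2
        have t1 := hall _ ((hS _).2 (hRS _ hu))
        obtain ⟨ψ, hψK, e1, e2⟩ := hψ' _ hu t1
        have e3 := congrArg p e2
        rw [hp1, hp2, hadd _ _ (hRS _ u.2) (hRS _ u'.2) (hall _ ((hS _).2 (hRS _ u.2)))
          (hall _ ((hS _).2 (hRS _ u'.2))), hp1, h1, add_self6, add_zero] at e3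
        have e4 : ψ = 1 := eq_one_of_fix hψK (hFle ψ e1 e3) (by omega)
        have e5 : dg ψ η = η := by rw [e4]; rfl
        rw [e5, left_eq_add] at e2
        exact Subtype.ext (eq_of_add_eq_zeroP (hμ _ (hRS _ hu) t1 e2))
      have h6 := finrank_add_finrank_perp hq6 (cspan ν)
      rw [finrank_N6] at h6
      rw [cR, card_sub] at hle
      have h7 : finrank (ZMod 2) (perp q6 (cspan ν)) ≤ 2 := by omega
      have := Nat.pow_le_pow_right (show 0 < 2 by norm_num) h7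
      omega
    · have hb := bound Y hYK hY2 F (fun y hy => hFle y (hYc y hy) (by
        obtain ⟨x, hx, rfl⟩ := (hY y).1 hy
        rw [← hp2, hfη x ((hS x).1 hx)])) hY1
      have hb' : 2 * Nat.card Y + 8 ≤ 3 * 2 ^ (5 - finrank (ZMod 2) (cspan ν)) :=
        hb.trans (Nat.mul_le_mul_left _ (Nat.pow_le_pow_right (by norm_num) (by omega)))
      have hpos : 0 < Nat.card Y := Nat.card_pos
      generalize finrank (ZMod 2) (cspan ν) = d at hb' hk hd
      generalize Nat.card Y = s at hb' hc hpos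
      generalize Nat.card {x // x ∈ S ∧ θ x = 1} = k at hk hc
      have key : ∀ a b, k ≤ a → s ≤ b → a * b < 256 → False := fun a b h1 h2 h3 => by
        have := Nat.mul_le_mul h1 h2
        omega
      interval_cases d
      · exact key _ 44 hk (by omega) (by norm_num)
      · exact key _ 20 hk (by omega) (by norm_num)
      · exact key _ 8 hk (by omega) (by norm_num)
      · exact key _ 2 hk (by omega) (by norm_num)
      all_goals omega

end Cfsg.Agent.H67.ASA
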