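import Mathlib
import Cfsg.Agent.H42.ACKit
import Cfsg.Agent.H44.AsU
import Cfsg.Agent.H83.Misc

/-! Project AC, piece GX: the double cover of `G₂(4)`, preliminaries. -/

set_option autoImplicit false
set_option linter.unusedSectionVars false

namespace Cfsg.Agent.H67.GX

open Cfsg Subgroup Cfsg.Agent.H28 Cfsg.Agent.H42.AL Cfsg.Agent.H42.AC Cfsg.Agent.H44.AP
open Cfsg.Agent.H42.AS (om)
open scoped commutatorElement

universe u

variable {G H : Type u} [Group G] [Finite G] [Group H] [Finite H] {A : Subgroup G}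
  {B : H42.AS.RD H} {p : G → H} {c g u a x : G} {y : H} {S : Subgroup H}

theorem card_hom {X Y : Type*} [Group X] [Group Y] (φ : X →* Y) :
    Nat.card X = Nat.card φ.ker * Nat.card φ.range := by
  rw [← index_ker, card_mul_index]

theorem eq_of_perf {J P : Subgroup G} (h : J ≤ P) (hp : ⁅P, P⁆ = P)
    (hc : Nat.card P ≤ 2 * Nat.card J) : J = P := by
  refine le_antisymm h (hp.ge.trans (commutator_le.2 fun x hx y hy => ?_))
  have k := fun a b => H83.mul_mem_of_card_le_two_mul h hc (a := a) (b := b)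
  rw [commutatorElement_def]
  by_cases h1 : x ∈ J <;> by_cases h2 : y ∈ J
  · exact mul_mem (mul_mem (mul_mem h1 h2) (inv_mem h1)) (inv_mem h2)
  · have := mul_mem h1 (k _ _ (mul_mem hy (inv_mem hx)) (inv_mem hy)
      (fun e => h2 ((mul_mem_cancel_right (inv_mem h1)).1 e)) fun e => h2 (inv_mem_iff.1 e))
    rwa [← mul_assoc, ← mul_assoc] at this
  · exact mul_mem (k _ _ (mul_mem hx hy) (inv_mem hx) (fun e => h1 ((mul_mem_cancel_right h2).1 e))
      fun e => h1 (inv_mem_iff.1 e)) (inv_mem h2)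
  · rw [mul_assoc]
    exact mul_mem (k _ _ hx hy h1 h2) (k _ _ (inv_mem hx) (inv_mem hy) (fun e => h1 (inv_mem_iff.1 e))
      fun e => h2 (inv_mem_iff.1 e))

/-- The preimage in `A`. -/
def up (h : Cov A B.A p) (S : Subgroup H) : Subgroup G where
  carrier := {a | a ∈ A ∧ p a ∈ S}
  mul_mem' := fun {a b} ha hb => ⟨mul_mem ha.1 hb.1, by
    rw [h.mul _ (le_normalizer ha.1) _ (le_normalizer hb.1)]; exact mul_mem ha.2 hb.2⟩
  one_mem' := ⟨one_mem A, by rw [h.one]; exact one_mem S⟩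
  inv_mem' := fun {a} ha => ⟨inv_mem ha.1, by rw [h.inv (le_normalizer ha.1)]; exact inv_mem ha.2⟩

/-- `p` on the preimage. -/
def pr (h : Cov A B.A p) (S : Subgroup H) : up h S →* H :=
  MonoidHom.mk' (fun x => p x) fun a b => h.mul _ (le_normalizer a.2.1) _ (le_normalizer b.2.1)

theorem pr_range (h : Cov A B.A p) (hS : S ≤ B.A) : (pr h S).range = S := by
  ext y
  refine ⟨fun ⟨a, e⟩ => e ▸ a.2.2, fun hy => ?_⟩
  obtain ⟨a, ha, rfl⟩ := (h.img _).1 (hS hy)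
  exact ⟨⟨a, ha, hy⟩, rfl⟩

/-- An involution of another conjugate of `K` that normalizes `A`. -/
structure PD (A : Subgroup G) (g u : G) : Prop where
  gN : g ∉ normalizer (A : Set G)
  uN : u ∈ normalizer (A : Set G)
  u2 : u * u = 1
  u1 : u ≠ 1
  uK : g⁻¹ * u * g ∈ centralizer (A : Set G)

theorem PD.left (e : PD A g u) (ha : a ∈ normalizer (A : Set G)) : PD A (a * g) (a * u * a⁻¹) :=
  ⟨fun h => e.gN ((mul_mem_cancel_left ha).1 h), mul_mem (mul_mem ha e.uN) (inv_mem ha),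
    by rw [conj_mul, e.u2]; group, fun h => e.u1 (conj_eq_one_iff.1 h),
    by convert e.uK using 1; group⟩

theorem PD.right (hs : IsStandardSubgroup A) (e : PD A g u) (ha : a ∈ normalizer (A : Set G)) :
    PD A (g * a⁻¹) u :=
  ⟨fun h => e.gN ((mul_mem_cancel_right (inv_mem ha)).1 h), e.uN, e.u2, e.u1,
    by convert conj_K hs ha e.uK using 1; group⟩

theorem PD.ne (h : Cov A B.A p) (e : PD A g u) : p u ≠ 1 := fun h1 =>
  e.gN (te2 h.std ((h.ker u e.uN).1 h1) e.uK e.u2 e.u1)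

theorem PD.sq (h : Cov A B.A p) (e : PD A g u) : p u * p u = 1 := by
  rw [← h.mul _ e.uN _ e.uN, e.u2, h.one]

variable (h : GC A B p c)
include h

theorem cc : c * c = 1 :=
  (h.cen _ (mul_mem h.cA h.cA) (mul_mem h.cK h.cK)).resolve_right fun e => h.c1 (mul_eq_left.1 e)

theorem lift (hy : y ∈ B.A) : ∃ a ∈ A, p a = y := (h.cov.img y).1 hy

theorem pc : p c = 1 := h.cov.K h.cK

theorem c_up (S : Subgroup H) : c ∈ up h.cov S := ⟨h.cA, by rw [pc h]; exact one_mem S⟩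

theorem eq_or {b : G} (ha : a ∈ A) (hb : b ∈ A) (e : p a = p b) : b = a ∨ b = a * c :=
  (h.cen _ (mul_mem (inv_mem ha) hb) ((h.cov.eq_iff (le_normalizer ha) (le_normalizer hb)).1 e)).imp
    (fun e => (inv_mul_eq_one.1 e).symm) fun e => by rw [← e]; group

theorem card_up (hS : S ≤ B.A) : Nat.card (up h.cov S) = 2 * Nat.card S := by
  rw [card_hom (pr h.cov S), pr_range h.cov hS]
  congr 1
  rw [Nat.card_eq_two_iff' (1 : (pr h.cov S).ker)]
  refine ⟨⟨⟨c, c_up h S⟩, (pc h : p c = 1)⟩, fun e => h.c1 (congrArg (fun z => (z.1 : G)) e), fun z hz => ?_⟩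
  rcases eq_or h (one_mem A) z.1.2.1 (h.cov.one.trans (Eq.symm z.2)) with e | e
  · exact absurd (Subtype.ext (Subtype.ext e)) hz
  · exact Subtype.ext (Subtype.ext (e.trans (one_mul c)))

theorem innH (x y : H) : ⁅x, y⁆ ∈ B.A := by
  have n : ∀ x : H, ∀ a ∈ B.A, x * a * x⁻¹ ∈ B.A := fun x a ha =>
    (mem_normalizer_iff.1 (h.cov.allN x) a).1 ha
  have k : ∀ x : H, x ∈ B.A ∨ ∃ a ∈ B.A, B.Frob (a * x) := fun x => by
    obtain ⟨a, ha, e | e⟩ := h.fa.glob.out x (h.cov.allN x)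
    · exact Or.inl (by rw [← inv_eq_of_mul_eq_one_right (h.cov.eq_one e)]; exact inv_mem ha)
    · exact Or.inr ⟨a, ha, e⟩
  rw [commutatorElement_def]
  rcases k y with hy | ⟨b, hb, e⟩
  · exact mul_mem (n x y hy) (inv_mem hy)
  rcases k x with hx | ⟨a, ha, e'⟩
  · have := mul_mem hx (n y _ (inv_mem hx))
    rwa [← mul_assoc, ← mul_assoc] at this
  have h1 : y = b⁻¹ * a * x := by
    rw [mul_assoc, inv_mul_eq_one.1 (h.cov.eq_one (frobK e' e)), inv_mul_cancel_left]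
  have h2 := mul_mem (inv_mem hb) ha
  have := mul_mem (n x _ h2) (inv_mem h2)
  rw [h1]
  convert this using 1
  group

theorem innN {z : G} (hz : z ∈ ⁅normalizer (A : Set G), normalizer (A : Set G)⁆) : p z ∈ B.A :=
  commutator_le.2 (fun x _ y _ => innH h x y) (h.cov.comm hz)

theorem PD.cls (e : PD A g u) (hu : p u ∈ B.A) :
    ∃ a ∈ A, p (a * u * a⁻¹) = B.xv 1 ∨ p (a * u * a⁻¹) = B.xd 1 := by
  obtain ⟨y, hy, e1⟩ := h.fa.glob.inv _ hu (e.sq h.cov) (e.ne h.cov)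
  obtain ⟨a, ha, rfl⟩ := lift h hy
  exact ⟨a, ha, by rwa [h.cov.cj (le_normalizer ha) e.uN]⟩

variable (d : GD A B p)
include d

/-- Lifts of long root elements. -/
theorem long (hx : x ∈ A) {m : H} (hm : m ∈ B.A) {t : F4} (e : m * p x * m⁻¹ = B.xv t) :
    x * x = 1 ∧ ∀ a ∈ A, p a * p x = p x * p a → a * x = x * a := by
  obtain ⟨n, hn, rfl⟩ := lift h hm
  have h1 : n * x * n⁻¹ ∈ A := cjm hn hx
  rw [← h.cov.cj (le_normalizer hn) (le_normalizer hx)] at e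
  have h2 : p (n * x * n⁻¹) ∈ B.V := (mem_V h.fa.rel).2 ⟨t, e⟩
  refine ⟨?_, fun a ha e1 => ?_⟩
  · have := d.g2 _ h1 h2
    rwa [conj_mul, conj_eq_one_iff] at this
  · have h3 : n * a * n⁻¹ * (n * x * n⁻¹) = n * x * n⁻¹ * (n * a * n⁻¹) := by
      by_cases ht : t = 0
      · rw [ht, zero_of h.fa.rel.vv] at e
        exact K_comm ((h.cov.ker _ (le_normalizer h1)).1 e) (cjm hn ha)
      · refine d.g1 _ (cjm hn ha) _ h1 (h.fa.glob.centV t ht _ (h.cov.memB (cjm hn ha)) ?_) h2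
        rw [← e, h.cov.cj (le_normalizer hn) (le_normalizer hx),
          h.cov.cj (le_normalizer hn) (le_normalizer ha)]
        exact cj_comm e1
    rw [conj_mul, conj_mul] at h3
    exact mul_left_cancel (mul_right_cancel h3)

theorem lv (hx : x ∈ A) {t : F4} (e : p x = B.xv t) :
    x * x = 1 ∧ ∀ a ∈ A, p a * p x = p x * p a → a * x = x * a :=
  long h d hx (one_mem _) (t := t) (by rw [e]; group)

theorem le (hx : x ∈ A) {t : F4} (e : p x = B.xe t) :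
    x * x = 1 ∧ ∀ a ∈ A, p a * p x = p x * p a → a * x = x * a :=
  long h d hx nbA (t := t) (by rw [e]; exact cj (h.fa.rel.nbe t))

theorem lb (hx : x ∈ A) {t : F4} (e : p x = B.xb t) :
    x * x = 1 ∧ ∀ a ∈ A, p a * p x = p x * p a → a * x = x * a :=
  long h d hx (mul_mem nbA naA) (t := t) (by
    rw [e, ← cj (h.fa.rel.nbe t), ← cj (h.fa.rel.nab t)]; group)

omit d in
theorem be (t s : F4) : ⁅B.xb t, B.xe s⁆ = B.xv (t * s) := by
  rw [commutatorElement_def, cj (h.fa.rel.be t s), h.fa.rel.ev, mul_inv_cancel_right]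

theorem perf_up (hS : S ≤ B.A) (hp : ⁅S, S⁆ = S) (hb : ∀ t, B.xb t ∈ S) (he : ∀ t, B.xe t ∈ S) :
    up h.cov S ≤ ⁅up h.cov S, up h.cov S⁆ := by
  have k : ∀ w ∈ A, p w = B.xv 1 → w ∈ ⁅up h.cov S, up h.cov S⁆ := fun w hw e => by
    obtain ⟨b, hb', e', he', t, s, e1, e2, rfl⟩ := d.g3 w hw 1 one_ne_zero e
    exact commutator_mem_commutator ⟨hb', e1 ▸ hb t⟩ ⟨he', e2 ▸ he s⟩
  obtain ⟨w, hw, e⟩ := lift h (xvA h.fa.rel 1)
  have hc : c ∈ ⁅up h.cov S, up h.cov S⁆ := (mul_mem_cancel_left (k w hw e)).1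
    (k _ (mul_mem hw h.cA) (by rw [h.cov.mulK (le_normalizer hw) h.cK, e]))
  intro x hx
  have h1 : p x ∈ (commutator (up h.cov S)).map (pr h.cov S) := by
    rw [commutator_def, map_commutator, ← MonoidHom.range_eq_map, pr_range h.cov hS, hp]
    exact hx.2
  obtain ⟨z, hz, e1⟩ := h1
  have h2 : (z : G) ∈ ⁅up h.cov S, up h.cov S⁆ := by
    rw [← map_subtype_commutator]; exact mem_map_of_mem _ hz
  rcases eq_or h z.2.1 hx.1 e1 with e | e
  · exact e ▸ h2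
  · exact e ▸ mul_mem h2 hc

omit d in
theorem base {T : Subgroup G} (e : PD A g u) (hp : T ≤ ⁅T, T⁆) (hc : ∀ x ∈ T, x * u = u * x)
    (hx : x ∈ T) : g⁻¹ * x * g ∈ normalizer (A : Set G) ∧ p (g⁻¹ * x * g) ∈ B.A := by
  have k : ∀ x ∈ T, g⁻¹ * x * g ∈ normalizer (A : Set G) := fun x hx =>
    cent_N' h.cov.std e.uK e.u2 e.u1 (hc x hx)
  refine ⟨k x hx, innN h ?_⟩
  have h1 : H83.cj g⁻¹ T ≤ normalizer (A : Set G) := fun z hz => by
    have := k _ (H83.mem_cj.1 hz)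
    rwa [show g⁻¹ * (g⁻¹⁻¹ * z * g⁻¹) * g = g⁻¹ * (g * z * g⁻¹) * g by rw [inv_inv],
      show g⁻¹ * (g * z * g⁻¹) * g = z by group] at this
  have h2 := H83.conj_mem_cj (g := g⁻¹) (hp hx)
  rw [H83.cj_comm, inv_inv] at h2
  exact commutator_mono h1 h1 h2

theorem inner (e : PD A g u) : ∃ g u, PD A g u ∧ p u ∈ B.A := by
  by_cases hu : p u ∈ B.A
  · exact ⟨g, u, e, hu⟩
  have R := h.fa.rel
  obtain ⟨m, hm, F⟩ := h.fa.glob.outinv (p u) (h.cov.allN _) (by rw [e.sq h.cov]; exact one_mem _)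
    fun a ha e1 => hu (by rw [← inv_eq_of_mul_eq_one_right (h.cov.eq_one e1)]; exact inv_mem ha)
  obtain ⟨n, hn, rfl⟩ := lift h hm
  rw [← h.cov.cj (le_normalizer hn) e.uN] at F
  replace e := e.left (le_normalizer hn)
  generalize n * u * n⁻¹ = t at e F
  generalize n * g = g at e
  have ti : t⁻¹ = t := inv_eq_of_mul_eq_one_right e.u2
  have tt : ∀ z : G, t * (t * z * t⁻¹) * t⁻¹ = z := fun z => by
    rw [← mul_assoc, ← mul_assoc, e.u2, one_mul, mul_assoc, ti, e.u2, mul_one]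
  have tA : ∀ z ∈ A, t * z * t⁻¹ ∈ A := fun z hz => conj_A e.uN hz
  have tp : ∀ z ∈ A, p (t * z * t⁻¹) = p t * p z * (p t)⁻¹ := fun z hz =>
    h.cov.cj e.uN (le_normalizer hz)
  have mu : ∀ a ∈ A, ∀ b ∈ A, p (a * b) = p a * p b := fun a ha b hb =>
    h.cov.mul _ (le_normalizer ha) _ (le_normalizer hb)
  have o1 : om + om ^ 2 = 1 := by decide +kernel
  obtain ⟨y, hy, ey⟩ := lift h (xbA (D := B) om)
  obtain ⟨z, hz, ez⟩ := lift h (xeA R om)
  have ey' : p (t * y * t⁻¹) = B.xb (om ^ 2) := by rw [tp y hy, ey, (F.1 om).2.1]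
  have ez' : p (t * z * t⁻¹) = B.xe (om ^ 2) := by rw [tp z hz, ez, (F.1 om).2.2.2.2.1]
  have cy := (lb h d hy ey).2 _ (tA y hy) (by rw [ey, ey', ← R.bb, ← R.bb, add_comm])
  have cz := (le h d hz ez).2 _ (tA z hz) (by rw [ez, ez', ← R.ee, ← R.ee, add_comm])
  have fix : ∀ y : G, t * y * t⁻¹ * y = y * (t * y * t⁻¹) →
      t * (y * (t * y * t⁻¹)) * t⁻¹ = y * (t * y * t⁻¹) := fun y e1 => by
    rw [← conj_mul, tt, e1]
  have hb := mul_mem hy (tA y hy)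
  have eb : p (y * (t * y * t⁻¹)) = B.xb 1 := by rw [mu _ hy _ (tA y hy), ey, ey', ← R.bb, o1]
  have fb := fix y cy
  generalize y * (t * y * t⁻¹) = b at hb eb fb
  have cm : ∀ z ∈ A, ⁅b, z⁆ ∈ A := fun z hz => mul_mem (cjm hb hz) (inv_mem hz)
  have ew : p ⁅b, z⁆ = B.xv (1 * om) := by
    rw [h.cov.cm (le_normalizer hb) (le_normalizer hz), eb, ez, be h]
  have ew' : p ⁅b, t * z * t⁻¹⁆ = B.xv (1 * om ^ 2) := by
    rw [h.cov.cm (le_normalizer hb) (le_normalizer (tA z hz)), eb, ez', be h]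
  have tw : t * ⁅b, z⁆ * t⁻¹ = ⁅b, t * z * t⁻¹⁆ := by rw [conjugate_commutatorElement, fb]
  have l1 := lv h d (cm _ (tA z hz)) ew'
  have z0 : ⁅b, z * (t * z * t⁻¹)⁆ = ⁅b, z⁆ * ⁅b, t * z * t⁻¹⁆ := by
    have := l1.2 z hz (by rw [ez, ew', R.ev])
    rw [← mul_inv_eq_iff_eq_mul] at this
    rw [← this]
    simp only [commutatorElement_def]
    group
  have hz0 := cm _ (mul_mem hz (tA z hz))
  have e0 : p ⁅b, z * (t * z * t⁻¹)⁆ = B.xv 1 := by
    rw [z0, mu _ (cm z hz) _ (cm _ (tA z hz)), ew, ew', ← R.vv, one_mul, one_mul, o1]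
  have wt : ⁅b, z⁆ * t * ⁅b, z⁆⁻¹ = ⁅b, z * (t * z * t⁻¹)⁆ * t := by
    rw [z0, ← inv_eq_of_mul_eq_one_right l1.1, ← tw]
    group
  have n1 : ∀ x : G, t * x * t⁻¹ = x → g⁻¹ * x * g ∈ normalizer (A : Set G) := fun x hx =>
    cent_N' h.cov.std e.uK e.u2 e.u1 (mul_inv_eq_iff_eq_mul.1 hx).symm
  have n2 : g⁻¹ * ⁅b, z * (t * z * t⁻¹)⁆ * g ∈ ⁅normalizer (A : Set G), normalizer (A : Set G)⁆ := by
    have := commutator_mem_commutator (n1 b fb) (n1 _ (fix z cz))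
    convert this using 1
    simp only [commutatorElement_def]
    group
  have n3 := commutator_le_self _ n2
  have s0 := (lv h d hz0 e0).1
  have ne0 : ⁅b, z * (t * z * t⁻¹)⁆ ≠ 1 := fun e1 => by
    rw [e1, h.cov.one] at e0
    exact one_ne_zero (xv_ne R e0.symm)
  generalize ⁅b, z * (t * z * t⁻¹)⁆ = v at hz0 wt n2 n3 s0 ne0
  generalize ⁅b, z⁆ = w at wt
  by_cases hK : g⁻¹ * v * g ∈ centralizer (A : Set G)
  · exact ⟨g, v, ⟨e.gN, le_normalizer hz0, s0, ne0, hK⟩, h.cov.memB hz0⟩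
  · have q : g⁻¹ * v * g * (g⁻¹ * t * g) = g⁻¹ * w * g * (g⁻¹ * t * g) * (g⁻¹ * w * g)⁻¹ := by
      rw [show g⁻¹ * v * g * (g⁻¹ * t * g) = g⁻¹ * (v * t) * g by group, ← wt]; group
    refine ⟨g⁻¹ * w * g, g⁻¹ * v * g * (g⁻¹ * t * g), ⟨fun hN => hK ?_, mul_mem n3 (K_N e.uK), ?_,
      fun e1 => e.u1 ?_, ?_⟩, ?_⟩
    · exact (mul_mem_cancel_right e.uK).1 (q ▸ conj_K h.cov.std hN e.uK)
    · rw [q, conj_mul, show g⁻¹ * t * g * (g⁻¹ * t * g) = g⁻¹ * (t * t) * g by group, e.u2]; group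
    · rw [q, conj_eq_one_iff] at e1
      rw [show t = g * (g⁻¹ * t * g) * g⁻¹ by group, e1]; group
    · rw [q]
      convert e.uK using 1
      group
    · rw [h.cov.mulK n3 e.uK]
      exact innN h n2

end Cfsg.Agent.H67.GX
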