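import Mathlib
import Cfsg.Agent.H67.AcGXa

/-! Project AC, piece GX: the double cover of `G₂(4)` is not standard with `K' ∩ N` even. -/

set_option autoImplicit false
set_option linter.unusedSectionVars false

namespace Cfsg.Agent.H67.GX

open Cfsg Subgroup Cfsg.Agent.H28 Cfsg.Agent.H42.AL Cfsg.Agent.H42.AC Cfsg.Agent.H44.AP
open Cfsg.Agent.H42.AS (om)
open scoped commutatorElement

universe u

variable {G H : Type u} [Group G] [Finite G] [Group H] [Finite H] {A : Subgroup G}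
  {B : H42.AS.RD H} {p : G → H} {c g u a x : G} {y : H} {S : Subgroup H}

theorem norm_map {X : Type*} [Group X] (φ : X →* H) (J : Subgroup X) [J.Normal] :
    φ.range ≤ normalizer ((J.map φ : Subgroup H) : Set H) := by
  rw [MonoidHom.range_eq_map, ← normalizer_eq_top J]
  exact le_normalizer_map φ

theorem q4 (R : B.Rel) (hy : y ∈ B.QA) : y ^ 4 = 1 := by
  obtain ⟨a, b, c, d, e, rfl⟩ := qnf R hy
  rw [show 4 = 2 * 2 from rfl, pow_mul, pow_two, pow_two, q_mul R, q_mul R, ← q_zero R]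
  exact q_congr (aa _) (aa _) (aa _) (aa _) (by rw [aa a, aa b]; simp [aa])

theorem QA_norm (R : B.Rel) {m : H} (hm : m ∈ B.P) (hy : y ∈ B.QA) : m * y * m⁻¹ ∈ B.QA := by
  obtain ⟨s, r, j, rfl⟩ := pnf' R hm
  obtain ⟨s', r', rfl⟩ := qqnf R hy
  obtain ⟨r1, e⟩ := actP R s r j s' r'
  exact e ▸ qq_mem _ _

theorem f4 : ∀ s x y : F4, x ≠ 0 → x ≠ s → y ≠ 0 → y ≠ s → x + y ≠ 0 → x + y ≠ s → s = 0 := by
  decide +kernel

theorem f4' : ∀ s t : F4, t ≠ 0 → ∃ x, t * x ≠ 0 ∧ t * x ≠ s := by decide +kernel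

variable (h : GC A B p c)
include h

/-- `p'` on a subgroup of `N'`. -/
def pr' {T : Subgroup G} (hT : ∀ x ∈ T, g⁻¹ * x * g ∈ normalizer (A : Set G)) : T →* H :=
  MonoidHom.mk' (fun x => p (g⁻¹ * x * g)) fun a b => by
    rw [← h.cov.mul _ (hT _ a.2) _ (hT _ b.2)]
    congr 1
    rw [coe_mul]
    group

theorem pd_c (e : PD A g u) (hc : g⁻¹ * c * g ∈ normalizer (A : Set G)) :
    PD A g⁻¹ (g⁻¹ * c * g) :=
  ⟨fun h1 => e.gN (inv_mem_iff.1 h1), hc,
    by rw [show g⁻¹ * c * g * (g⁻¹ * c * g) = g⁻¹ * (c * c) * g by group, cc h]; group,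
    fun h1 => h.c1 (by rw [show c = g * (g⁻¹ * c * g) * g⁻¹ by group, h1]; group),
    by convert h.cK using 1; group⟩

theorem adj {T : Subgroup G} (e : PD A g u) (hp : T ≤ ⁅T, T⁆) (hc : ∀ x ∈ T, x * u = u * x)
    (hcT : c ∈ T) : ∃ g, PD A g u ∧ (p (g⁻¹ * c * g) = B.xv 1 ∨ p (g⁻¹ * c * g) = B.xd 1) := by
  obtain ⟨h1, h2⟩ := base h e hp hc hcT
  obtain ⟨a, ha, e1⟩ := PD.cls h (pd_c h e h1) h2
  refine ⟨g * a⁻¹, e.right h.cov.std (le_normalizer ha), ?_⟩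
  rwa [show (g * a⁻¹)⁻¹ * c * (g * a⁻¹) = a * (g⁻¹ * c * g) * a⁻¹ by group]

theorem cen_c {T : Subgroup G} (hT : ∀ x ∈ T, g⁻¹ * x * g ∈ normalizer (A : Set G)) (hA : T ≤ A)
    (hc : c ∈ T) (hx : x ∈ T) :
    p (g⁻¹ * x * g) * p (g⁻¹ * c * g) = p (g⁻¹ * c * g) * p (g⁻¹ * x * g) := by
  rw [← h.cov.mul _ (hT x hx) _ (hT c hc), ← h.cov.mul _ (hT c hc) _ (hT x hx)]
  congr 1
  calc _ = g⁻¹ * (x * c) * g := by group
    _ = _ := by rw [K_comm h.cK (hA hx)]; group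

theorem comm_u (e : PD A g u) (hu : p u ∈ B.A) (hx : x ∈ A)
    (h1 : ∀ a ∈ A, p a = p u → x * a = a * x) : x * u = u * x := by
  obtain ⟨a, ha, k, hk, rfl⟩ := (h.cov.inn e.uN).1 hu
  rw [← mul_assoc, h1 a ha (h.cov.mulK (le_normalizer ha) hk).symm, mul_assoc, K_comm hk hx,
    mul_assoc]

variable (d : GD A B p)
include d

theorem kerV (e : PD A g u) (hT : ∀ x ∈ up h.cov B.P, g⁻¹ * x * g ∈ normalizer (A : Set G))
    (z : up h.cov B.P) (hz : z ∈ (pr' h hT).ker) : p z ∈ B.V := by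
  have R := h.fa.rel
  by_contra hV
  obtain ⟨t, ht, x, hx, e1⟩ := h.fa.par.normP ((pr' h hT).ker.map (pr h.cov B.P))
    ((pr_range h.cov (P_le_A R)).ge.trans (norm_map _ _)) ⟨p z, ⟨z, hz, rfl⟩, z.2.2, hV⟩
  have l := lb h d x.2.1 e1
  have x1 : (x : G) ≠ 1 := fun e2 => by
    change p x = _ at e1
    rw [e2, h.cov.one, qb R, ← q_zero R] at e1
    exact ht (q_inj R e1).1.symm
  have xK := (h.cov.ker _ (hT x x.2)).1 hx
  let J : Subgroup G := A ⊓ H83.cj g (normalizer (A : Set G))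
  have hJ : ∀ a ∈ A, g⁻¹ * a * g ∈ normalizer (A : Set G) →
      p a ∈ (J.subgroupOf (normalizer (A : Set G))).map h.cov.hom := fun a ha hn =>
    ⟨⟨a, le_normalizer ha⟩, ⟨ha, H83.mem_cj.2 hn⟩, rfl⟩
  have h1 := h.fa.glob.genP t ht ((J.subgroupOf (normalizer (A : Set G))).map h.cov.hom)
    (fun y hy => by
      obtain ⟨a, ha, rfl⟩ := lift h (P_le_A R hy)
      exact hJ a ha (hT a ⟨ha, hy⟩))
    (fun y hy e2 => by
      obtain ⟨a, ha, rfl⟩ := lift h hy
      exact hJ a ha (cent_N' h.cov.std xK l.1 x1 (l.2 a ha (by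
        change p x = _ at e1
        rwa [e1]))))
  obtain ⟨a, ha, hn⟩ := kna h.cov.std (g := g⁻¹) (fun h2 => e.gN (inv_mem_iff.1 h2)) e.uK (n := 1)
    (by rw [pow_one, pow_two, show g⁻¹ * u * g * (g⁻¹ * u * g) = g⁻¹ * (u * u) * g by group, e.u2]
        group)
    (fun h2 => e.u1 (by rw [show u = g * (g⁻¹ * u * g) * g⁻¹ by group, h2]; group))
    (by convert e.uN using 1; group)
  rw [inv_inv] at hn
  obtain ⟨a', ha', e2⟩ := h1 (h.cov.memB ha)
  have h2 := H83.mem_cj.1 ha'.2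
  rcases eq_or h ha'.1 ha e2 with e3 | e3
  · exact hn (e3 ▸ h2)
  · have := mul_mem h2 (hT c (c_up h _))
    refine hn ?_
    rw [e3]
    convert this using 1
    simp only [coe_subtype]
    group

theorem long_false (e : PD A g u) (hu : p u = B.xv 1) : False := by
  have R := h.fa.rel
  have hp := perf_up h d (P_le_A R) h.fa.par.perfP (xbP R) (xeP R)
  have hc : ∀ x ∈ up h.cov B.P, x * u = u * x := fun x hx =>
    comm_u h e (hu ▸ xvA R 1) hx.1 fun a ha e1 =>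
      d.g1 x hx.1 a ha hx.2 ((mem_V R).2 ⟨1, e1.trans hu⟩)
  obtain ⟨g, e, ec⟩ := adj h e hp hc (c_up h _)
  have hT : ∀ x ∈ up h.cov B.P, g⁻¹ * x * g ∈ normalizer (A : Set G) := fun x hx =>
    (base h e hp hc hx).1
  have hA : up h.cov B.P ≤ A := fun _ hx => hx.1
  have kV := kerV h d e hT
  have cK : (⟨c, c_up h _⟩ : up h.cov B.P) ∉ (pr' h hT).ker :=
    fun e1 => (pd_c h e (hT c (c_up h _))).ne h.cov e1
  have kinj : ∀ z ∈ (pr' h hT).ker, ∀ z' ∈ (pr' h hT).ker, p z = p z' → z = z' := fun z hz z' hz' e1 => by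
    rcases eq_or h z.2.1 z'.2.1 e1 with e2 | e2
    · exact (Subtype.ext e2).symm
    · refine absurd ((mul_mem_cancel_left hz).1 ?_) cK
      rwa [show z * ⟨c, c_up h _⟩ = z' from Subtype.ext e2.symm]
  have k4 : Nat.card (pr' h hT).ker ≤ 4 := by
    choose τ hτ using fun z : (pr' h hT).ker => (mem_V R).1 (kV z.1 z.2)
    rw [← card_F4, ← Nat.card_eq_fintype_card]
    exact Nat.card_le_card_of_injective τ fun z z' e1 =>
      Subtype.ext (kinj _ z.2 _ z'.2 (by rw [hτ z, hτ z', e1]))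
  have c1 := card_hom (pr' h hT)
  rw [card_up h (P_le_A R), h.fa.par.cardP] at c1
  have rng : ∀ S : Subgroup H, (∀ a ∈ B.A, a * p (g⁻¹ * c * g) = p (g⁻¹ * c * g) * a → a ∈ S) →
      (pr' h hT).range ≤ S := fun S hS => by
    rintro _ ⟨x, rfl⟩
    exact hS _ (base h e hp hc x.2).2 (cen_c h hT hA (c_up h _) x.2)
  rcases ec with ec | ec
  swap
  · have := card_le_of_le (rng _ (ec ▸ h.fa.glob.centX 1 one_ne_zero))
    rw [h.fa.par.cardXS] at this
    have := Nat.mul_le_mul k4 this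
    omega
  have r1 : (pr' h hT).range = B.P := eq_of_perf (rng _ (ec ▸ h.fa.glob.centV 1 one_ne_zero))
    h.fa.par.perfP (by
      have := Nat.mul_le_mul_right (Nat.card (pr' h hT).range) k4
      rw [h.fa.par.cardP]
      omega)
  rw [r1, h.fa.par.cardP] at c1
  obtain ⟨⟨r, hr⟩, r1', r2⟩ := (Nat.card_eq_two_iff' (1 : (pr' h hT).ker)).1 (by omega)
  have kr : ∀ z ∈ (pr' h hT).ker, z = 1 ∨ z = r := fun z hz => by
    by_cases e1 : z = 1
    · exact Or.inl e1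
    · exact Or.inr (congrArg Subtype.val (r2 ⟨z, hz⟩ fun e2 => e1 (congrArg Subtype.val e2)))
  obtain ⟨s, es⟩ := (mem_V R).1 (kV r hr)
  have s0 : s ≠ 0 := fun e1 => r1' (Subtype.ext (kinj _ hr _ (one_mem _) (by
    rw [es, e1, zero_of R.vv]; exact h.cov.one.symm)))
  obtain ⟨b, hb, x, hx, t, t', eb, ex, er⟩ := d.g3 r r.2.1 s s0 es
  have t0 : t ≠ 0 := fun e1 => s0 (xv_inj R (by
    rw [← es, ← er, h.cov.cm (le_normalizer hb) (le_normalizer hx), eb, ex, be h, e1, zero_mul]))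
  set π := pr h.cov B.P with hπ
  set f := pr' h hT with hf
  have rπ : π.range = B.P := pr_range h.cov (P_le_A R)
  have two : ∀ φ ψ : up h.cov B.P →* H, φ.range = B.P → ψ.range = B.P → (∀ z ∈ φ.ker, z * z = 1) →
      ∀ z, φ z ∈ B.QA → ψ z ∈ B.QA := fun φ ψ h1 h2 h3 z hz => by
    haveI : (B.QA.comap φ).Normal := ⟨fun n hn m => by
      rw [mem_comap, map_mul, map_mul, map_inv]
      exact QA_norm R (h1.le ⟨m, rfl⟩) hn⟩
    refine h.fa.par.o2P ((B.QA.comap φ).map ψ) ((map_le_range _ _).trans h2.le)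
      (h2.ge.trans (norm_map _ _)) (IsPGroup.map (H83.isPGroup_iff.2 fun n hn => ⟨3, ?_⟩) _)
      (mem_map_of_mem ψ hz)
    rw [show 2 ^ 3 = 4 + 4 from rfl, pow_add]
    exact h3 _ (by rw [MonoidHom.mem_ker, map_pow]; exact q4 R hn)
  have sπ : ∀ z ∈ π.ker, z * z = 1 := fun z hz => Subtype.ext (by
    rcases eq_or h (one_mem A) z.2.1 (h.cov.one.trans (Eq.symm hz)) with e1 | e1
    · rw [coe_mul, e1, mul_one]; rfl
    · rw [coe_mul, e1, one_mul]; exact cc h)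
  have sf : ∀ z ∈ f.ker, z * z = 1 := fun z hz => Subtype.ext (d.g2 _ z.2.1 (kV z hz))
  let b' : up h.cov B.P := ⟨b, hb, eb ▸ xbP R t⟩
  let x' : up h.cov B.P := ⟨x, hx, ex ▸ xeP R t'⟩
  have πb : π b' = qq B (t, 0, 0, 0) 0 := eb.trans (qb R t)
  have er' : ⁅b', x'⁆ = r := Subtype.ext er
  have cq : ∀ a s r r', ⁅qq B a r, qq B s r'⁆ = B.xv (β a s) := fun a s r r' => by
    rw [commutatorElement_def, qq_comm R]; group
  have πc : ∀ z, π z ∈ B.QA → ∃ α, π ⁅b', z⁆ = B.xv α := fun z hz => by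
    obtain ⟨s, r, e1⟩ := qqnf R hz
    exact ⟨_, by rw [map_commutatorElement, πb, e1, cq]⟩
  have mulc : ∀ z z', π z' ∈ B.QA → ⁅b', z * z'⁆ = ⁅b', z⁆ * ⁅b', z'⁆ := fun z z' hz' => by
    obtain ⟨α, e1⟩ := πc z' hz'
    have h1 : z * ⁅b', z'⁆ = ⁅b', z'⁆ * z :=
      Subtype.ext (d.g1 _ z.2.1 _ (⁅b', z'⁆).2.1 z.2.2 ((mem_V R).2 ⟨α, e1⟩))
    rw [← mul_inv_eq_iff_eq_mul] at h1
    rw [← h1]
    simp only [commutatorElement_def]
    group
  have one : ∀ z, π ⁅b', z⁆ = 1 → ⁅b', z⁆ = 1 := fun z e1 => by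
    rw [map_commutatorElement, commutatorElement_eq_one_iff_mul_comm] at e1
    rw [commutatorElement_eq_one_iff_mul_comm]
    exact Subtype.ext ((lb h d hb eb).2 _ z.2.1 e1.symm).symm
  have hx' : π x' ∈ B.QA := by
    rw [show π x' = _ from ex.trans (qe R t')]
    exact q_mem _ _ _ _ _
  have key : ∀ z α, π ⁅b', z⁆ = B.xv α → f ⁅b', z⁆ ≠ 1 → α ≠ 0 ∧ α ≠ s := fun z α e1 e2 => by
    refine ⟨fun e3 => e2 ?_, fun e3 => e2 ?_⟩
    · rw [one z (by rw [e1, e3, zero_of R.vv]), map_one]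
    · have h1 := one (z * x') (by
        rw [mulc z x' hx', map_mul, e1, er', e3]
        exact (congrArg (B.xv s * ·) es).trans (sq_of R.vv s))
      rw [mulc z x' hx', er'] at h1
      rw [eq_inv_of_mul_eq_one_left h1]
      exact inv_mem hr
  obtain ⟨a, r0, ea⟩ := qqnf R (two π f rπ r1 sπ b' (πb ▸ qq_mem _ _))
  by_cases a0 : a = 0
  · obtain ⟨v, v1, v2⟩ := f4' s t t0
    obtain ⟨z, ez⟩ : B.xe v ∈ π.range := rπ.ge (xeP R v)
    have h1 : π ⁅b', z⁆ = B.xv (t * v) := by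
      rw [map_commutatorElement, ez, show π b' = B.xb t from eb, be h]
    have h2 : ⁅b', z⁆ ∈ f.ker := by
      rw [MonoidHom.mem_ker, map_commutatorElement, commutatorElement_eq_one_iff_mul_comm, ea, a0,
        ← qqv R]
      exact (P_cen R r0 (r1.le ⟨z, rfl⟩)).symm
    rcases kr _ h2 with e1 | e1
    · rw [e1, map_one] at h1
      exact v1 (xv_ne R h1.symm)
    · rw [e1] at h1
      exact v2 (xv_inj R (h1.symm.trans es))
  · obtain ⟨s1, e1⟩ := β_surj a a0 1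
    obtain ⟨s2, e2⟩ := β_surj a a0 om
    obtain ⟨z1, ez1⟩ : qq B s1 0 ∈ f.range := r1.ge (qqP _ _)
    obtain ⟨z2, ez2⟩ : qq B s2 0 ∈ f.range := r1.ge (qqP _ _)
    have q1 := two f π r1 rπ sf z1 (ez1 ▸ qq_mem _ _)
    have q2 := two f π r1 rπ sf z2 (ez2 ▸ qq_mem _ _)
    obtain ⟨α1, p1⟩ := πc z1 q1
    obtain ⟨α2, p2⟩ := πc z2 q2
    have f1 : f ⁅b', z1⁆ = B.xv 1 := by rw [map_commutatorElement, ea, ez1, cq, e1]
    have f2 : f ⁅b', z2⁆ = B.xv om := by rw [map_commutatorElement, ea, ez2, cq, e2]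
    have k1 := key z1 α1 p1 fun e3 => one_ne_zero (xv_ne R (f1.symm.trans e3))
    have k2 := key z2 α2 p2 fun e3 => absurd (xv_ne R (f2.symm.trans e3)) (by decide +kernel)
    have k3 := key (z1 * z2) (α1 + α2) (by rw [mulc z1 z2 q2, map_mul, p1, p2, R.vv]) fun e3 => by
      rw [mulc z1 z2 q2, map_mul, f1, f2, ← R.vv] at e3
      exact absurd (xv_ne R e3) (by decide +kernel)
    exact s0 (f4 s α1 α2 k1.1 k1.2 k2.1 k2.2 k3.1 k3.2)

theorem short_false (e : PD A g u) (hu : p u = B.xd 1) : False := by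
  have R := h.fa.rel
  have hS : B.PS ≤ B.A := (closure_le _).2 (by
    rintro _ (((⟨t, rfl⟩ | ⟨t, rfl⟩) | ⟨t, rfl⟩) | rfl)
    exacts [xeA R t, xvA R t, xbA t, nbA])
  have hp := perf_up h d hS h.fa.par.perfPS xbS xeS
  have hc : ∀ x ∈ up h.cov B.PS, x * u = u * x := fun x hx =>
    comm_u h e (hu ▸ xdA R 1) hx.1 fun a ha e1 =>
      d.g1s x hx.1 a ha hx.2 ((mem_X R).2 ⟨1, e1.trans hu⟩)
  obtain ⟨g, e, ec⟩ := adj h e hp hc (c_up h _)
  have hT : ∀ x ∈ up h.cov B.PS, g⁻¹ * x * g ∈ normalizer (A : Set G) := fun x hx =>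
    (base h e hp hc hx).1
  rcases ec with ec | ec
  · exact long_false h d (pd_c h e (hT c (c_up h _))) ec
  have rng : (pr' h hT).range ≤ B.X ⊔ B.PS := by
    rintro _ ⟨x, rfl⟩
    exact h.fa.glob.centX 1 one_ne_zero _ (base h e hp hc x.2).2
      (ec ▸ cen_c h hT (fun _ hx => hx.1) (c_up h _) x.2)
  have h1 : ⁅B.X ⊔ B.PS, B.X ⊔ B.PS⁆ ≤ B.PS := commutator_le.2 fun x hx y hy => by
    obtain ⟨t, s, j, rfl⟩ := xsnf R hx
    obtain ⟨t', s', j', rfl⟩ := xsnf R hy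
    have m1 := mul_mem (evS (D := B) s) (elbS R j)
    have m2 := mul_mem (evS (D := B) s') (elbS R j')
    rw [mul_assoc, mul_assoc]
    generalize ev B s () * elb B j = a at m1
    generalize ev B s' () * elb B j' = b at m2
    have c1 : Commute (B.xd t) (B.xd t' * b) := Commute.mul_right
      (by rw [commute_iff_eq, ← R.dd, ← R.dd, add_comm]) (d_cen R t m2).symm
    have c2 : Commute a (B.xd t') := d_cen R t' m1
    have c3 : Commute (B.xd t) ⁅a, b⁆ :=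
      (d_cen R t (commutator_le_self _ (commutator_mem_commutator m1 m2))).symm
    have c4 : Commute (B.xd t') ⁅a, b⁆ :=
      (d_cen R t' (commutator_le_self _ (commutator_mem_commutator m1 m2))).symm
    have e1 : ⁅a, B.xd t' * b⁆ = ⁅a, b⁆ := by
      rw [← c4.mul_inv_cancel]
      simp only [commutatorElement_def]
      rw [← mul_assoc a, c2.eq]
      group
    have e2 : ⁅B.xd t * a, B.xd t' * b⁆ = B.xd t * ⁅a, B.xd t' * b⁆ * (B.xd t)⁻¹ := by
      generalize B.xd t' * b = w at c1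
      calc _ = B.xd t * a * w * a⁻¹ * ((B.xd t)⁻¹ * w⁻¹) := by rw [commutatorElement_def]; group
        _ = _ := by rw [c1.inv_inv.eq, commutatorElement_def]; group
    rw [e2, e1, c3.mul_inv_cancel]
    exact commutator_le_self _ (commutator_mem_commutator m1 m2)
  have h2 : B.xd 1 ∈ B.PS := by
    have h3 := hp (c_up h B.PS)
    rw [← map_subtype_commutator] at h3
    obtain ⟨z, hz, e1⟩ := h3
    have h4 := mem_map_of_mem (pr' h hT) hz
    rw [_root_.commutator_def, map_commutator, ← MonoidHom.range_eq_map] at h4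
    have h5 : pr' h hT z = B.xd 1 := (congrArg (fun w => p (g⁻¹ * w * g)) e1).trans ec
    exact h5 ▸ h1 (commutator_mono rng rng h4)
  obtain ⟨s, j, e1⟩ := snf R h2
  refine one_ne_zero (xs_inj R (c := 1) (c' := 0) (s := 0) (s' := s) (j := (0, 0, none)) (j' := j) ?_).1
  rw [zero_of R.dd, one_mul, ← e1, show elb B (0, 0, none) = 1 from (slB R).el_one]
  simp [ev, zero_of R.ee, zero_of R.vv]

omit h d [Finite G] [Finite H] in
/-- GX -/
theorem gx : GXStmt.{u} := fun G H _ _ _ _ A B p c h d ⟨g, hg, he⟩ => by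
  haveI : Fact (Nat.Prime 2) := ⟨Nat.prime_two⟩
  obtain ⟨x, hx⟩ := exists_prime_orderOf_dvd_card' 2 he.two_dvd
  have e : PD A g x := ⟨hg, x.2.2, by rw [← coe_mul, ← pow_two, ← hx, pow_orderOf_eq_one]; rfl,
    fun e => by
      rw [show x = 1 from Subtype.ext e, orderOf_one] at hx
      exact absurd hx (by norm_num), H83.mem_cj.1 x.2.1⟩
  obtain ⟨g, u, e, hu⟩ := inner h d e
  obtain ⟨a, ha, e1 | e1⟩ := PD.cls h e hu
  · exact long_false h d (e.left (le_normalizer ha)) e1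
  · exact short_false h d (e.left (le_normalizer ha)) e1

end Cfsg.Agent.H67.GX
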