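import Cfsg.Agent.H46.SKit
import Cfsg.Agent.H23.Dbl2d
import Cfsg.Agent.H89.PBasic

/-!
# A Sylow `2`-subgroup of order at least `4` of `K^g ∩ N(A)`
-/

set_option autoImplicit false
open scoped Pointwise commutatorElement
open Subgroup

namespace Cfsg.Agent.H67.S95Red1
open Cfsg.Agent.H8 Cfsg.Agent.H23.D2 Cfsg.Agent.H46.S95

universe u

local notation "C[" A "]" => Subgroup.centralizer (SetLike.coe A)
local notation "N[" A "]" => Subgroup.normalizer (SetLike.coe A)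

variable {Γ : Type} [Group Γ] {G : Type u} [Group G]

theorem central_inv [Finite G] {S N : Subgroup G} (hS : IsPGroup 2 S)
    (hN : ∀ x ∈ S, ∀ n ∈ N, x * n * x⁻¹ ∈ N) {w : G} (wS : w ∈ S) (wN : w ∈ N) (w1 : w ≠ 1) :
    ∃ z, z ∈ S ∧ z ∈ N ∧ z * z = 1 ∧ z ≠ 1 ∧ ∀ x ∈ S, x * z = z * x := by
  have : Fact (Nat.Prime 2) := ⟨Nat.prime_two⟩
  have hn : (N.subgroupOf S).Normal := ⟨fun n hn g => hN g g.2 n hn⟩
  have h1 : N.subgroupOf S ≠ ⊥ := by
    intro h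
    have : (⟨w, wS⟩ : S) ∈ N.subgroupOf S := wN
    rw [h] at this
    exact w1 (congrArg Subtype.val (mem_bot.1 this))
  have h2 := H89.inf_center_ne_bot hS h1
  obtain ⟨z, hz, h3⟩ := H10.exists_orderOf_eq_of_ne_bot (p := 2)
    (hS.to_subgroup (N.subgroupOf S ⊓ center S)) h2
  have h4 : orderOf (z : G) = 2 := by rw [Subgroup.orderOf_coe, h3]
  exact ⟨z, z.2, hz.1, sq_of_ord h4, ne_of_ord h4, fun x hx =>
    congrArg Subtype.val (mem_center_iff.1 hz.2 ⟨x, hx⟩)⟩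

theorem two_elts [Finite G] {T : Subgroup G} (h : 4 ∣ Nat.card T) :
    ∃ x ∈ T, ∃ y ∈ T, x ≠ 1 ∧ y ≠ 1 ∧ x * y ≠ 1 := by
  classical
  have h4 : 4 ≤ Nat.card T := Nat.le_of_dvd Nat.card_pos h
  have : Nontrivial T := Finite.one_lt_card_iff_nontrivial.1 (by omega)
  obtain ⟨x, hx⟩ := exists_ne (1 : T)
  by_contra hc
  push Not at hc
  have := Fintype.ofFinite T
  have k : (Finset.univ : Finset T) ⊆ {1, x⁻¹} := fun y _ => by
    by_cases e : y = 1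
    · simp [e]
    · have := hc x x.2 y y.2 (fun e => hx (Subtype.ext e)) fun e' => e (Subtype.ext e')
      have e2 : x * y = 1 := Subtype.ext this
      simp [eq_inv_of_mul_eq_one_right e2]
  have := (Finset.card_le_card k).trans Finset.card_le_two
  rw [Finset.card_univ, ← Nat.card_eq_fintype_card] at this
  omega

/-- the configuration: `P = K^g`, `M = N(A^g)` -/
structure Cfg (φ : Γ →* G) (A P M : Subgroup G) : Prop where
  base : Base Γ
  inj : Function.Injective φ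
  rng : φ.range = A
  odd : ∀ x ∈ P, x ∈ C[A] → (∃ n, x ^ 2 ^ n = 1) → x = 1
  nrm : ∀ m ∈ M, ∀ x ∈ P, m * x * m⁻¹ ∈ P
  cen : ∀ s ∈ P, s * s = 1 → s ≠ 1 → ∀ c, c * s = s * c → c ∈ M
  nle : ¬ ∀ a, φ a ∈ M

/-- `φ` twisted by an inner automorphism -/
def tw (φ : Γ →* G) (c : Γ) : Γ →* G := φ.comp (MulAut.conj c).toMonoidHom

theorem tw_apply (φ : Γ →* G) (c a : Γ) : tw φ c a = φ (c * a * c⁻¹) := rfl

namespace Cfg
variable {φ : Γ →* G} {A P M : Subgroup G} (h : Cfg φ A P M)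
include h

theorem tw (c : Γ) : Cfg (tw φ c) A P M := by
  refine ⟨h.base, h.inj.comp (MulAut.conj c).injective, ?_, h.odd, h.nrm, h.cen, fun k => h.nle ?_⟩
  · rw [← h.rng]
    ext x
    exact ⟨fun ⟨a, e⟩ => ⟨_, e⟩, fun ⟨a, e⟩ => ⟨c⁻¹ * a * c, by
      rw [tw_apply, ← e]; congr 1; group⟩⟩
  · intro a
    have := k (c⁻¹ * a * c)
    rw [tw_apply] at this
    simpa [mul_assoc] using this

theorem mA (a : Γ) : φ a ∈ A := h.rng ▸ ⟨a, rfl⟩

theorem kc {k : G} (hk : k ∈ C[A]) (a : Γ) : φ a * k = k * φ a := mem_C.1 hk _ (h.mA a)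

theorem aut {x : G} (hx : x ∈ N[A]) : ∃ α : MulAut Γ, ∀ a, φ (α a) = x * φ a * x⁻¹ :=
  exists_aut h.inj (h.rng ▸ hx)

theorem one_of {a : Γ} (ha : φ a ∈ C[A]) : a = 1 :=
  h.base.eq_one fun x => h.inj (by rw [map_mul, map_mul, h.kc ha])

theorem split {x : G} {α : MulAut Γ} (hα : ∀ a, φ (α a) = x * φ a * x⁻¹) {c : Γ}
    (e : α = MulAut.conj c) : ∃ k ∈ C[A], x = φ c * k :=
  ⟨(φ c)⁻¹ * x, h.rng ▸ cent_of_conj fun a => by rw [← hα, e, MulAut.conj_apply], by group⟩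

theorem sq {a : Γ} {k : G} (hk : k ∈ C[A]) (e : φ a * k * (φ a * k) = 1) :
    a * a = 1 ∧ k * k = 1 := by
  have e1 : φ (a * a) * (k * k) = 1 := by
    rw [← e, map_mul, mul_assoc, mul_assoc, ← mul_assoc k, ← h.kc hk a]
    group
  have e2 : a * a = 1 := h.one_of (by
    rw [eq_inv_of_mul_eq_one_left e1]; exact inv_mem (mul_mem hk hk))
  exact ⟨e2, by simpa [e2] using e1⟩

theorem cM {a : Γ} {k : G} (hk : k ∈ C[A]) (hs : φ a * k ∈ P) (e : φ a * k * (φ a * k) = 1)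
    (e1 : φ a * k ≠ 1) {c : Γ} (hc : c * a = a * c) : φ c ∈ M := by
  refine h.cen _ hs e e1 _ ?_
  rw [← mul_assoc, ← map_mul, hc, map_mul, mul_assoc, h.kc hk, mul_assoc]

theorem fix {a : Γ} {k x : G} (hk : k ∈ C[A]) (hx : x ∈ N[A]) {α : MulAut Γ}
    (hα : ∀ a, φ (α a) = x * φ a * x⁻¹) (e : x * (φ a * k) = φ a * k * x) : α a = a := by
  have e1 : φ (a⁻¹ * α a) = k * (x * k * x⁻¹)⁻¹ := by
    rw [map_mul, map_inv, hα]
    calc (φ a)⁻¹ * (x * φ a * x⁻¹) = (φ a)⁻¹ * (x * (φ a * k)) * k⁻¹ * x⁻¹ := by group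
      _ = _ := by rw [e]; group
  have := h.one_of (a := a⁻¹ * α a) (by rw [e1]; exact mul_mem hk (inv_mem (C_conj hx hk)))
  exact (inv_mul_eq_one.1 this).symm

theorem x0 {z a : Γ} {Λ Z : Subgroup Γ} (r : RC z a Λ Z) {k : G} (hk : k ∈ C[A])
    (hs : φ a * k ∈ P) (e : φ a * k * (φ a * k) = 1) (e1 : φ a * k ≠ 1) :
    Λ ⊓ P.comap φ ≤ Z ∨ ∃ y, φ y ∈ P ∧ y * y = 1 ∧ y ≠ 1 ∧ IsConj z y ∧ ¬ IsConj z a := by
  haveI := h.base.fin
  have hN : Λ ≤ N[(Λ ⊓ P.comap φ : Subgroup Γ)] := fun l hl => mem_N_of fun n hn => by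
    refine ⟨Λ.mul_mem (Λ.mul_mem hl hn.1) (Λ.inv_mem hl), ?_⟩
    have := h.nrm _ (h.cM hk hs e e1 (mem_C.1 (r.ZC r.aZ) l hl)) _ hn.2
    simpa using this
  rcases r.nrm _ inf_le_left hN with k1 | ⟨y, hy, yy, y1, k1 | k1⟩
  · exact Or.inl k1
  · refine absurd (fun c => ?_) h.nle
    have : Cz a ⊔ Cz y ≤ M.comap φ := by
      refine sup_le (fun c hc => h.cM hk hs e e1 (mem_Cz.1 hc)) fun c hc => ?_
      refine h.cM (one_mem _) (by simpa using hy.2) (by rw [mul_one, ← map_mul, yy, map_one])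
        (fun e => y1 (h.inj (by simpa using e))) (mem_Cz.1 hc)
    exact this (k1 ▸ mem_top c)
  · exact Or.inr ⟨y, hy.2, yy, y1, k1⟩

theorem x1 {z a : Γ} {Λ Z : Subgroup Γ} (r : RC z a Λ Z) {k : G} (hk : k ∈ C[A])
    (hs : φ a * k ∈ P) (e : φ a * k * (φ a * k) = 1) (e1 : φ a * k ≠ 1)
    (hZ : Λ ⊓ P.comap φ ≤ Z) {x : G} (hx : x ∈ P ⊓ N[A]) (c : x * (φ a * k) = φ a * k * x) :
    (∀ l ∈ Λ, x * φ l = φ l * x) ∧ ∃ e ∈ Z, ∃ k ∈ C[A], x = φ e * k := by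
  obtain ⟨α, hα⟩ := h.aut hx.2
  have ha := h.fix hk hx.2 hα c
  have hu : ∀ l ∈ Λ, α l * l⁻¹ ∈ Λ ⊓ P.comap φ := fun l hl => by
    refine ⟨Λ.mul_mem (r.inv α ha l hl) (Λ.inv_mem hl), ?_⟩
    have := mul_mem hx.1
      (h.nrm _ (h.cM hk hs e e1 (mem_C.1 (r.ZC r.aZ) l hl)) _ (inv_mem hx.1))
    simpa [hα, mul_assoc] using this
  have hf : ∀ l ∈ Λ, α l = l := by
    have : ⁅Λ, Λ⁆ ≤ α.toMonoidHom.eqLocus (MonoidHom.id Γ) := by
      refine commutator_le.2 fun l hl m hm => ?_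
      have cu := mem_C.1 (r.ZC (hZ (hu l hl)))
      have cv := mem_C.1 (r.ZC (hZ (hu m hm)))
      have c1 := cu _ (r.inv α ha m hm)
      have c2 := cv l hl
      have c3 := cv m hm
      change α ⁅l, m⁆ = ⁅l, m⁆
      rw [map_commutatorElement]
      have el : α l = α l * l⁻¹ * l := by group
      have em : α m = α m * m⁻¹ * m := by group
      have c4 := cu l hl
      generalize α l * l⁻¹ = u at c1 el c4
      generalize α m * m⁻¹ = v at c2 c3 em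
      rw [el]
      have s1 : ⁅u * l, α m⁆ = ⁅l, α m⁆ := by
        have c5 : Commute u (α m) := c1.symm
        have c6 : Commute u l := c4.symm
        simp only [commutatorElement_def]
        have c7 := (c6.mul_right c5).mul_right c6.inv_right
        calc u * l * α m * (u * l)⁻¹ * (α m)⁻¹ = u * (l * α m * l⁻¹) * u⁻¹ * (α m)⁻¹ := by group
          _ = _ := by rw [c7.eq]; group
      rw [s1, em]
      simp only [commutatorElement_def]
      calc l * (v * m) * l⁻¹ * (v * m)⁻¹ = l * v * m * l⁻¹ * m⁻¹ * v⁻¹ := by group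
        _ = v * (l * m * l⁻¹ * m⁻¹) * v⁻¹ := by rw [c2]; group
        _ = _ := by
          have c5 : Commute v l := c2.symm
          have c6 : Commute v m := c3.symm
          rw [(((c5.mul_right c6).mul_right c5.inv_right).mul_right c6.inv_right).eq]
          group
    exact fun l hl => this (r.perf.ge hl)
  obtain ⟨e, he, k1⟩ := r.cen α ha hf
  refine ⟨fun l hl => ?_, e, he, h.split hα k1⟩
  have := hα l
  rw [hf l hl] at this
  calc x * φ l = x * φ l * x⁻¹ * x := by group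
    _ = _ := by rw [← this]

theorem two {T : Subgroup G} (hT : IsPGroup 2 T) (hle : T ≤ P ⊓ N[A]) {x : G} (hx : x ∈ T)
    (hk : x ∈ C[A]) : x = 1 := by
  obtain ⟨n, hn⟩ := hT ⟨x, hx⟩
  exact h.odd x (hle hx).1 hk ⟨n, congrArg Subtype.val hn⟩

variable [Finite G]

theorem root {z : Γ} (zz : z * z = 1) (r : RC z z (Cz z) (zpowers z)) {T : Subgroup G}
    (hT : IsPGroup 2 T) (hle : T ≤ P ⊓ N[A]) (h4 : 4 ∣ Nat.card T) {k : G} (hk : k ∈ C[A])
    (hs : φ z * k ∈ P) (e : φ z * k * (φ z * k) = 1) (e1 : φ z * k ≠ 1)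
    (c : ∀ x ∈ T, x * (φ z * k) = φ z * k * x) : False := by
  rcases h.x0 r hk hs e e1 with hZ | ⟨y, -, -, -, -, k1⟩
  · have d : ∀ x ∈ T, x ≠ 1 → ∃ k ∈ C[A], x = φ z * k := fun x hx x1 => by
      obtain ⟨-, e', he, k', hk', rfl⟩ := h.x1 r hk hs e e1 hZ (hle hx) (c x hx)
      rcases mem_zp_two zz he with rfl | rfl
      · exact absurd (h.two hT hle hx (by simpa using hk')) x1
      · exact ⟨k', hk', rfl⟩
    obtain ⟨x, hx, y, hy, x1, y1, xy⟩ := two_elts h4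
    have m := mul_mem hx hy
    obtain ⟨k1, m1, rfl⟩ := d x hx x1
    obtain ⟨k2, m2, rfl⟩ := d y hy y1
    refine xy (h.two hT hle m ?_)
    have : φ z * k1 * (φ z * k2) = k1 * k2 := by
      rw [h.kc m1 z, mul_assoc, ← mul_assoc (φ z), ← map_mul, zz, map_one, one_mul]
    rw [this]
    exact mul_mem m1 m2
  · exact k1 (IsConj.refl z)

theorem four {T : Subgroup G} (hT : IsSylowIn 2 T (P ⊓ N[A]))
    (h4 : 4 ∣ Nat.card (P ⊓ N[A] : Subgroup G)) : 4 ∣ Nat.card T := by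
  rw [card_eq_card_mul_relIndex hT.le] at h4
  exact Nat.Coprime.dvd_of_dvd_mul_right (Nat.Coprime.pow_left 2
    ((Nat.Prime.coprime_iff_not_dvd Nat.prime_two).2 hT.not_dvd)) h4

theorem root' {z : Γ} (zz : z * z = 1) (z1 : z ≠ 1) (r : RC z z (Cz z) (zpowers z))
    (h4 : 4 ∣ Nat.card (P ⊓ N[A] : Subgroup G)) (hz : φ z ∈ P) : False := by
  haveI : Fact (Nat.Prime 2) := ⟨Nat.prime_two⟩
  have e : φ z * φ z = 1 := by rw [← map_mul, zz, map_one]
  have e1 : φ z ≠ 1 := fun e => z1 (h.inj (by simpa using e))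
  obtain ⟨T, hT, hle⟩ := exists_isSylowIn_ge (p := 2) (H := P ⊓ N[A])
    (H10.isPGroup_zpowers_of_pow (x := φ z) (k := 1) (by rw [pow_one, pow_two, e]))
    (zpowers_le.2 ⟨hz, le_normalizer (h.mA z)⟩)
  have zT := hle (mem_zpowers _)
  obtain ⟨u, uT, uA, uu, u1, uc⟩ := central_inv (N := A) hT.isPGroup
    (fun x hx n hn => norm_conj (hT.le hx).2 hn) zT (h.mA z) e1
  rw [← h.rng] at uA
  obtain ⟨a, rfl⟩ := uA
  rcases h.x0 r (one_mem _) (by simpa using hz) (by simpa using e) (by simpa using e1) with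
    hZ | ⟨y, -, -, -, -, k1⟩
  · have : a ∈ zpowers z := hZ ⟨mem_Cz.2 (h.inj (by rw [map_mul, map_mul, uc _ zT])),
      (hT.le uT).1⟩
    rcases mem_zp_two zz this with rfl | rfl
    · exact u1 (map_one φ)
    · exact h.root zz r hT.isPGroup hT.le (h.four hT h4) (one_mem _) (by simpa using hz)
        (by simpa using e) (by simpa using e1) (by simpa using uc)
  · exact k1 (IsConj.refl z)

theorem pick {T : Subgroup G} (hT : IsPGroup 2 T) (hle : T ≤ P ⊓ N[A]) (h4 : 4 ∣ Nat.card T) :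
    ∃ a, ∃ k ∈ C[A], φ a * k ∈ T ∧ φ a * k * (φ a * k) = 1 ∧ φ a * k ≠ 1 ∧
      ∀ x ∈ T, x * (φ a * k) = φ a * k * x := by
  let I : Subgroup G :=
    { carrier := {x | ∃ a, ∃ k ∈ C[A], x = φ a * k}
      one_mem' := ⟨1, 1, one_mem _, by simp⟩
      mul_mem' := by
        rintro _ _ ⟨a, o, ho, rfl⟩ ⟨b, p, hp, rfl⟩
        refine ⟨a * b, o * p, mul_mem ho hp, ?_⟩
        rw [map_mul, mul_assoc, ← mul_assoc o, ← h.kc ho b]
        group
      inv_mem' := by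
        rintro _ ⟨a, o, ho, rfl⟩
        exact ⟨a⁻¹, o⁻¹, inv_mem ho, by rw [mul_inv_rev, ← map_inv, h.kc (inv_mem ho)]⟩ }
  have hw : ∃ w ∈ T, w ∈ I ∧ w ≠ 1 := by
    obtain ⟨x, hx, y, hy, x1, y1, xy⟩ := two_elts h4
    obtain ⟨α, hα⟩ := h.aut (hle hx).2
    obtain ⟨β, hβ⟩ := h.aut (hle hy).2
    rcases h.base.out α β with ⟨c, i⟩ | ⟨c, i⟩ | ⟨c, i⟩
    · exact ⟨x, hx, ⟨c, h.split hα i⟩, x1⟩
    · exact ⟨y, hy, ⟨c, h.split hβ i⟩, y1⟩
    · exact ⟨x * y, mul_mem hx hy, ⟨c, h.split (α := α * β)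
        (fun a => by rw [MulAut.mul_apply, hα, hβ]; group) i⟩, xy⟩
  obtain ⟨w, wT, wI, w1⟩ := hw
  obtain ⟨s, sT, ⟨a, k, hk, rfl⟩, ss, s1, sc⟩ := central_inv (N := I) hT (by
    rintro x hx _ ⟨a, k, hk, rfl⟩
    obtain ⟨α, hα⟩ := h.aut (hle hx).2
    exact ⟨α a, x * k * x⁻¹, C_conj (hle hx).2 hk, by rw [hα]; group⟩) wT wI w1
  exact ⟨a, k, hk, sT, ss, s1, sc⟩

theorem fin {z b : Γ} {Λ Z : Subgroup Γ} (r : RD z b Λ Z)
    (h4 : 4 ∣ Nat.card (P ⊓ N[A] : Subgroup G)) {T : Subgroup G} (hT : IsSylowIn 2 T (P ⊓ N[A]))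
    {k : G} (hk : k ∈ C[A]) (hs : φ b * k ∈ T) (e : φ b * k * (φ b * k) = 1) (e1 : φ b * k ≠ 1)
    (c : ∀ x ∈ T, x * (φ b * k) = φ b * k * x) :
    Nat.card T = 4 ∧ (∀ x ∈ T, ∀ l ∈ Λ, x * φ l = φ l * x) ∧ φ b ∈ T ∧
      ∀ e ∈ Z, ∃ k ∈ C[A], φ e * k ∈ T := by
  haveI := h.base.fin
  have sP := (hT.le hs).1
  rcases h.x0 r.rc hk sP e e1 with hZ | ⟨y, yP, yy, y1, zy, zb⟩
  swap
  · exfalso
    rcases r.rz with k1 | k1
    · exact zb (k1 ▸ IsConj.refl z)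
    · obtain ⟨d, rfl⟩ := isConj_iff.1 zy
      exact (h.tw d).root' r.zz (fun e => y1 (by simp [e])) k1 h4 yP
  have X := fun x : T => h.x1 r.rc hk sP e e1 hZ (hT.le x.2) (c x x.2)
  choose f hf κ hκ ef using fun x => (X x).2
  let F : T → Z := fun x => ⟨f x, hf x⟩
  have Fi : Function.Injective F := fun x y exy => by
    have e2 : f x = f y := congrArg Subtype.val exy
    have : (x : G)⁻¹ * y = 1 := h.two hT.isPGroup hT.le (mul_mem (inv_mem x.2) y.2) (by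
      rw [ef x, ef y, e2]
      simpa [mul_assoc] using mul_mem (inv_mem (hκ x)) (hκ y))
    exact Subtype.ext (inv_mul_eq_one.1 this)
  have c4 : Nat.card T = 4 := le_antisymm (r.card ▸ Nat.card_le_card_of_injective F Fi)
    (Nat.le_of_dvd Nat.card_pos (h.four hT h4))
  have Fs : Function.Surjective F :=
    ((Nat.bijective_iff_injective_and_card F).2 ⟨Fi, c4.trans r.card.symm⟩).2
  have all : ∀ e ∈ Z, ∃ k ∈ C[A], φ e * k ∈ T := fun e he => by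
    obtain ⟨x, ex⟩ := Fs ⟨e, he⟩
    have e2 : f x = e := congrArg Subtype.val ex
    exact ⟨κ x, hκ x, by rw [← e2, ← ef x]; exact x.2⟩
  refine ⟨c4, fun x hx => (X ⟨x, hx⟩).1, ?_, all⟩
  obtain ⟨e', he, d, db, ed⟩ := r.br
  obtain ⟨k1, m1, t1⟩ := all e' he
  have bP : φ b ∈ P := by
    have := mul_mem (h.nrm _ (h.cM hk sP e e1 db) _ (hT.le t1).1) (inv_mem (hT.le t1).1)
    have e2 : φ d * (φ e' * k1) * (φ d)⁻¹ * (φ e' * k1)⁻¹ = φ b := by
      rw [← ed]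
      simp only [map_mul, map_inv]
      have := h.kc m1 d⁻¹
      rw [map_inv] at this
      calc φ d * (φ e' * k1) * (φ d)⁻¹ * (φ e' * k1)⁻¹
          = φ d * φ e' * (k1 * (φ d)⁻¹) * k1⁻¹ * (φ e')⁻¹ := by group
        _ = _ := by rw [← this]; group
    rwa [e2] at this
  have : k = 1 := h.odd k (by simpa using mul_mem (inv_mem bP) sP) hk
    ⟨1, by rw [pow_one, pow_two, (h.sq hk e).2]⟩
  simpa [this] using hs

end Cfg

theorem red1 : Red1Stmt.{u} := by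
  intro Γ _ G _ _ φ hb hi hA z b Λ Z r g hg h4
  haveI : Fact (Nat.Prime 2) := ⟨Nat.prime_two⟩
  obtain ⟨h1, -, h3, h5⟩ := red_data hA hg
  have h : Cfg φ φ.range (MulAut.conj g • C[φ.range])
      N[(MulAut.conj g • φ.range : Subgroup G)] := by
    refine ⟨hb, hi, rfl, fun x hx hk ⟨n, hn⟩ => ?_, fun a ha x hx => ?_, fun s hs ss s1 c hc => ?_,
      fun k => ?_⟩
    · exact eq_one_of_odd_two (h1.of_dvd_nat (H10.orderOf_dvd_card_of_mem ⟨hx, hk⟩)) hn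
    · rw [← centralizer_conj_smul] at hx ⊢
      exact C_conj ha hx
    · exact h3 s hs (ord_of_sq ss s1) (mem_centralizer_singleton_iff.2 hc)
    · obtain ⟨s, hs, ho⟩ := H10.exists_mem_orderOf_eq (p := 2) (H := JJ φ g)
        (dvd_trans ⟨2, rfl⟩ h4)
      exact h5 s hs ho (by rintro _ ⟨a, rfl⟩; exact k a)
  obtain ⟨T, hT⟩ := exists_isSylowIn 2 (JJ φ g)
  have t4 := h.four hT h4
  obtain ⟨a, k, hk, sT, ss, s1, sc⟩ := h.pick hT.isPGroup hT.le t4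
  have aa := (h.sq hk ss).1
  have a1 : a ≠ 1 := by
    rintro rfl
    exact s1 (h.two hT.isPGroup hT.le sT (by simpa using hk))
  have ba : IsConj b a := by
    rcases r.cls a aa a1 with k1 | k1
    · rcases r.rz with k2 | k2
      · exact k2 ▸ k1
      · obtain ⟨d, rfl⟩ := isConj_iff.1 k1
        exact ((h.tw d).root r.zz k2 hT.isPGroup hT.le t4 hk (hT.le sT).1 ss s1 sc).elim
    · exact k1
  obtain ⟨c, rfl⟩ := isConj_iff.1 ba
  obtain ⟨k1, k2, k3, k4⟩ := (h.tw c).fin r h4 hT hk sT ss s1 sc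
  refine ⟨c, T, hT, k1, fun e => a1 (by simp [e]), ?_, k2, k3, k4⟩
  have : c⁻¹ * (c * b * c⁻¹ * (c * b * c⁻¹)) * c = b * b := by group
  rw [← this, aa]
  group

end Cfsg.Agent.H67.S95Red1
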