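import Cfsg.Agent.H37.FkTF
import Cfsg.Agent.S0245
import Cfsg.Agent.S0246
import Cfsg.Agent.S0270

/-!
# S5161, piece SPF: the frame of `PSp_{2m}(q)`
-/

set_option autoImplicit false

namespace Cfsg.Agent.H67.FkSpf

open Cfsg Subgroup Matrix Cfsg.Agent.H37.FK

/-! ### arithmetic -/

theorem val_prod {q : ℕ} (h1 : 1 < q) (hq : ¬ 2 ∣ q) (m : ℕ) :
    padicValNat 2 (∏ i ∈ Finset.range m, (q ^ (2 * (i + 1)) - 1)) =
      m * (padicValNat 2 (q - 1) + padicValNat 2 (q + 1)) + padicValNat 2 m.factorial := by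
  have hne : ∀ i : ℕ, q ^ (2 * (i + 1)) - 1 ≠ 0 := fun i =>
    Nat.sub_ne_zero_of_lt (Nat.one_lt_pow (by omega) h1)
  induction m with
  | zero => simp
  | succ m ih =>
    have h := padicValNat.pow_two_sub_one h1 hq (n := 2 * (m + 1)) (by omega) (even_two_mul _)
    rw [padicValNat.mul (by omega) (by omega), padicValNat.self (by omega)] at h
    rw [Finset.prod_range_succ, padicValNat.mul (Finset.prod_ne_zero_iff.2 fun i _ => hne i)
      (hne m), ih, Nat.factorial_succ, padicValNat.mul (by omega) (Nat.factorial_ne_zero m)]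
    nlinarith

theorem two_pow_dvd {q : ℕ} (h1 : 1 < q) (hq : ¬ 2 ∣ q) (m k : ℕ)
    (h : 2 ^ k ∣ q ^ (m ^ 2) * ∏ i ∈ Finset.range m, (q ^ (2 * (i + 1)) - 1)) :
    2 ^ k ∣ (q - 1) ^ m * (q + 1) ^ m * 2 ^ m.factorial.factorization 2 := by
  have hne : ∀ i : ℕ, q ^ (2 * (i + 1)) - 1 ≠ 0 := fun i =>
    Nat.sub_ne_zero_of_lt (Nat.one_lt_pow (by omega) h1)
  have hc : (2 ^ k).Coprime (q ^ (m ^ 2)) :=
    Nat.Coprime.pow _ _ ((Nat.Prime.coprime_iff_not_dvd Nat.prime_two).2 hq)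
  have h2 := hc.dvd_of_dvd_mul_left h
  rw [padicValNat_dvd_iff_le (Finset.prod_ne_zero_iff.2 fun i _ => hne i), val_prod h1 hq] at h2
  have a1 : q - 1 ≠ 0 := by omega
  have a2 : q + 1 ≠ 0 := by omega
  rw [padicValNat_dvd_iff_le (by positivity), padicValNat.mul (by positivity) (by positivity),
    padicValNat.mul (by positivity) (by positivity), padicValNat.pow, padicValNat.pow,
    padicValNat.prime_pow, Nat.factorization_def _ Nat.prime_two]
  nlinarith

/-! ### `SL₂` -/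

section SL

variable {F : Type} [Field F]

/-- the diagonal torus -/
def dgH : Fˣ →* SL2 F where
  toFun := dg
  map_one' := Subtype.ext (by ext i j; fin_cases i <;> fin_cases j <;> simp [dg])
  map_mul' a b := Subtype.ext (by
    rw [Matrix.SpecialLinearGroup.coe_mul]
    ext i j; fin_cases i <;> fin_cases j <;> simp [dg, mul_comm])

theorem dg_one : dg (1 : Fˣ) = 1 := (dgH (F := F)).map_one

theorem dg_neg_one : dg (-1 : Fˣ) = -1 :=
  Subtype.ext (by ext i j; fin_cases i <;> fin_cases j <;> simp [dg])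

theorem dg_inj {s t : Fˣ} (h : dg s = dg t) : s = t :=
  Units.ext (by simpa [dg] using congrArg (fun a : SL2 F => a.1 0 0) h)

theorem up_inj {s t : F} (h : up s = up t) : s = t := by
  simpa [up] using congrArg (fun a : SL2 F => a.1 0 1) h

theorem dg_up (t : Fˣ) (s : F) : dg t * up s * (dg t)⁻¹ = up (((t ^ 2 : Fˣ) : F) * s) := by
  rw [mul_inv_eq_iff_eq_mul]
  refine Subtype.ext ?_
  rw [Matrix.SpecialLinearGroup.coe_mul, Matrix.SpecialLinearGroup.coe_mul]
  ext i j; fin_cases i <;> fin_cases j <;> simp [dg, up]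
  field_simp

theorem dg_lo (t : Fˣ) (s : F) : dg t * lo s * (dg t)⁻¹ = lo ((((t ^ 2)⁻¹ : Fˣ) : F) * s) := by
  rw [mul_inv_eq_iff_eq_mul]
  refine Subtype.ext ?_
  rw [Matrix.SpecialLinearGroup.coe_mul, Matrix.SpecialLinearGroup.coe_mul]
  ext i j; fin_cases i <;> fin_cases j <;> simp [dg, lo]
  field_simp

theorem neg_one_ne (h2 : (2 : F) ≠ 0) : (-1 : SL2 F) ≠ 1 := fun e => by
  have := congrArg (fun a : SL2 F => a.1 0 0) e
  simp at this
  exact h2 (by linear_combination -this)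

theorem sq_eq_one (h2 : (2 : F) ≠ 0) {a : SL2 F} (h : a * a = 1) : a = 1 ∨ a = -1 := by
  have d := a.2
  rw [det_fin_two] at d
  have e : ∀ i j, (a.1 * a.1) i j = (1 : Matrix (Fin 2) (Fin 2) F) i j := fun i j => by
    rw [← Matrix.SpecialLinearGroup.coe_mul, h]; rfl
  have e0 := e 0 0
  have e1 := e 0 1
  have e2 := e 1 0
  simp [Matrix.mul_apply, Fin.sum_univ_two] at e0 e1 e2
  have ht : a.1 0 0 + a.1 1 1 ≠ 0 := fun ht => h2 (by
    linear_combination (-1 : F) * e0 - d + a.1 0 0 * ht)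
  have b0 : a.1 0 1 = 0 := mul_left_cancel₀ ht (by linear_combination e1)
  have c0 : a.1 1 0 = 0 := mul_left_cancel₀ ht (by linear_combination e2)
  rw [b0] at e0 d
  have : (a.1 0 0 - 1) * (a.1 0 0 + 1) = 0 := by linear_combination e0
  rcases mul_eq_zero.1 this with h1 | h1
  · have p : a.1 0 0 = 1 := by linear_combination h1
    have s : a.1 1 1 = 1 := by rw [p] at d; linear_combination d
    exact Or.inl (Subtype.ext (by ext i j; fin_cases i <;> fin_cases j <;> simp [p, s, b0, c0]))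
  · have p : a.1 0 0 = -1 := by linear_combination h1
    have s : a.1 1 1 = -1 := by rw [p] at d; linear_combination -d
    exact Or.inr (Subtype.ext (by ext i j; fin_cases i <;> fin_cases j <;> simp [p, s, b0, c0]))

end SL

/-! ### the product map -/

section D

variable {K : Type} [Group K] {F : Type} [Field F] {m : ℕ} (D : SpD K F m)

theorem pw : Pairwise fun i j => ∀ x y : SL2 F, Commute (D.φ i x) (D.φ j y) :=
  fun i j h a b => D.comm i j h a b

/-- the product map -/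
def Φ : (Fin m → SL2 F) →* K :=
  MonoidHom.noncommPiCoprod (N := fun _ => SL2 F) D.φ (pw D)

theorem Φ_single (i : Fin m) (a : SL2 F) : Φ D (Pi.mulSingle i a) = D.φ i a :=
  MonoidHom.noncommPiCoprod_mulSingle (N := fun _ => SL2 F) D.φ i a

theorem Φ_eq (a : Fin m → SL2 F) : (List.ofFn fun i => D.φ i (a i)).prod = Φ D a := by
  rw [Φ, MonoidHom.noncommPiCoprod_apply, List.ofFn_eq_map,
    ← Finset.noncommProd_toFinset (List.finRange m) (fun i => D.φ i (a i))
      (fun i _ j _ h => D.comm i j h _ _) (List.nodup_finRange m)]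
  exact Finset.noncommProd_congr (List.toFinset_finRange m) (fun _ _ => rfl) _

theorem Φ_mem (a : Fin m → SL2 F) {U : Subgroup K} (h : ∀ i, D.φ i (a i) ∈ U) : Φ D a ∈ U := by
  rw [← Φ_eq]
  refine list_prod_mem fun x hx => ?_
  obtain ⟨i, rfl⟩ := (List.mem_ofFn' _ _).1 hx
  exact h i

theorem Φ_conj (a : Fin m → SL2 F) (i : Fin m) (b : SL2 F) :
    Φ D a * D.φ i b * (Φ D a)⁻¹ = D.φ i (a i * b * (a i)⁻¹) := by
  rw [← Φ_single, ← Φ_single, ← map_inv, ← map_mul, ← map_mul]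
  congr 1
  funext j
  by_cases h : j = i
  · subst h; simp
  · simp [Pi.mulSingle_eq_of_ne h]

/-- the torus -/
def τ : (Fin m → Fˣ) →* K := (Φ D).comp (MonoidHom.compLeft dgH (Fin m))

theorem τ_apply (t : Fin m → Fˣ) : τ D t = Φ D fun i => dg (t i) := rfl

theorem τ_single (i : Fin m) (t : Fˣ) : τ D (Pi.mulSingle i t) = D.φ i (dg t) := by
  rw [τ_apply, ← Φ_single]
  congr 1
  funext j
  by_cases h : j = i
  · subst h; simp
  · simp [Pi.mulSingle_eq_of_ne h, dg_one]

theorem τ_acts (t : Fin m → Fˣ) (i : Fin m) : ActsAs (τ D t) (D.φ i) (t i ^ 2) :=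
  ⟨fun s => by rw [τ_apply, Φ_conj, dg_up], fun s => by rw [τ_apply, Φ_conj, dg_lo]⟩

theorem maps_w (π : Equiv.Perm (Fin m)) (i : Fin m) :
    Maps (D.w π) (D.φ i).range (D.φ (π i)).range := fun x => by
  constructor
  · rintro ⟨a, rfl⟩
    exact ⟨a, (D.conj π i a).symm⟩
  · rintro ⟨a, ha⟩
    rw [← D.conj] at ha
    exact ⟨a, mul_left_cancel (mul_right_cancel ha)⟩

theorem maps_swap (i j : Fin m) : Maps (D.w (Equiv.swap i j)) (D.φ i).range (D.φ j).range := by
  have := maps_w D (Equiv.swap i j) i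
  rwa [Equiv.swap_apply_left] at this

theorem w_τ (π : Equiv.Perm (Fin m)) {x : K} (hx : x ∈ (τ D).range) :
    D.w π * x * (D.w π)⁻¹ ∈ (τ D).range := by
  obtain ⟨t, rfl⟩ := hx
  refine Φ_mem D (U := (τ D).range.comap (MulAut.conj (D.w π)).toMonoidHom)
    (fun i => dg (t i)) fun i => ?_
  exact ⟨Pi.mulSingle (π i) (t i), by rw [τ_single, ← D.conj]; rfl⟩

theorem z_inj (hm : 3 ≤ m) (h2 : (2 : F) ≠ 0) {i j : Fin m} (h : D.φ i (-1) = D.φ j (-1)) :
    i = j := by
  by_contra hij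
  have e : Φ D (Pi.mulSingle i (-1) * Pi.mulSingle j (-1)) = 1 := by
    rw [map_mul, Φ_single, Φ_single, ← h, ← map_mul]; simp
  rw [← Φ_eq, D.ker] at e
  obtain ⟨k, hi, hj⟩ : ∃ k : Fin m, k ≠ i ∧ k ≠ j := by
    by_contra hk
    have : (Finset.univ : Finset (Fin m)) ⊆ {i, j} := fun k _ => by
      by_contra h'
      simp only [Finset.mem_insert, Finset.mem_singleton, not_or] at h'
      exact hk ⟨k, h'⟩
    have h3 := (Finset.card_le_card this).trans Finset.card_le_two
    simp at h3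
    omega
  rcases e with e | e
  · have := e i
    simp [Pi.mulSingle_eq_of_ne hij] at this
    exact neg_one_ne h2 this
  · have := e k
    simp [Pi.mulSingle_eq_of_ne hi, Pi.mulSingle_eq_of_ne hj] at this
    exact neg_one_ne h2 this.symm

theorem card_τ [Fintype F] : (Fintype.card F - 1) ^ m ∣ 2 * Nat.card (τ D).range := by
  classical
  have h1 : (τ D).ker ≤ zpowers (-1 : Fin m → Fˣ) := fun t ht => by
    rw [MonoidHom.mem_ker, τ_apply, ← Φ_eq, D.ker] at ht
    rcases ht with h | h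
    · have : t = 1 := funext fun i => dg_inj ((h i).trans dg_one.symm)
      rw [this]; exact one_mem _
    · have : t = -1 := funext fun i => dg_inj ((h i).trans dg_neg_one.symm)
      rw [this]; exact mem_zpowers _
  have h2 : Nat.card (τ D).ker ∣ 2 := (card_dvd_of_le h1).trans (by
    rw [Nat.card_zpowers]; exact orderOf_dvd_of_pow_eq_one (by simp))
  have h3 := card_mul_index (τ D).ker
  rw [index_ker, Nat.card_fun, Nat.card_units, Nat.card_eq_fintype_card (α := F),
    Nat.card_eq_fintype_card (α := Fin m), Fintype.card_fin] at h3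
  rw [← h3]
  exact Nat.mul_dvd_mul_right h2 _

theorem reachJ (i j : Fin m) (a : SL2 F) (h : Two (D.φ j a)) :
    Reach {x | x ∈ (D.φ i).range ∧ Two x} (D.φ j a) := by
  have e := D.conj (Equiv.swap i j) i a
  rw [Equiv.swap_apply_left] at e
  rw [← e]
  refine Reach.conj _ (Reach.base ⟨⟨a, rfl⟩, ?_⟩)
  have := h.conj (D.w (Equiv.swap i j))⁻¹
  rw [← e] at this
  simpa [mul_assoc] using this

theorem reachW (i : Fin m) (π : Equiv.Perm (Fin m)) (h : π * π = 1) :
    Reach {x | x ∈ (D.φ i).range ∧ Two x} (D.w π) := by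
  induction hn : π.support.card using Nat.strong_induction_on generalizing π with
  | _ n ih =>
    by_cases h1 : π = 1
    · rw [h1, map_one]; exact Reach.one
    obtain ⟨a, ha⟩ : ∃ a, π a ≠ a := by
      by_contra h'
      exact h1 (Equiv.ext fun a => by_contra fun e => h' ⟨a, e⟩)
    have hb : π (π a) = a := by rw [← Equiv.Perm.mul_apply, h]; rfl
    have c : Commute (Equiv.swap a (π a)) π := by
      rw [Commute, SemiconjBy, Equiv.mul_swap_eq_swap_mul, hb, Equiv.swap_comm]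
    have r := ih _ (hn ▸ Equiv.Perm.card_support_swap_mul ha) (Equiv.swap a (π a) * π) (by
      rw [mul_assoc, ← mul_assoc π, ← c.eq, mul_assoc, h, mul_one, Equiv.swap_mul_self]) rfl
    obtain ⟨g, hg⟩ := isConj_iff.1 (D.swap a (π a) ha.symm)
    have r2 : Reach {x | x ∈ (D.φ i).range ∧ Two x} (D.w (Equiv.swap a (π a))) := by
      rw [← hg]
      exact Reach.conj _ (reachJ D i a _ (Two.of_sq (by rw [← map_mul]; simp)))
    have := Reach.mul r2 r (((Commute.refl _).mul_right c).map D.w)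
    rwa [← map_mul, ← mul_assoc, Equiv.swap_mul_self, one_mul] at this

include D in
theorem hasD8 (hm : 3 ≤ m) (h2 : (2 : F) ≠ 0) : HasD8 K := by
  let i : Fin m := ⟨0, by omega⟩
  let j : Fin m := ⟨1, by omega⟩
  have hij : i ≠ j := by simp [i, j]
  have e := D.conj (Equiv.swap i j) i (-1)
  rw [Equiv.swap_apply_left] at e
  have b2 : D.w (Equiv.swap i j) * D.w (Equiv.swap i j) = 1 := by
    rw [← map_mul, Equiv.swap_mul_self, map_one]
  have z2 : ∀ k, D.φ k (-1) * D.φ k (-1) = 1 := fun k => by rw [← map_mul]; simp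
  refine ⟨D.φ i (-1), D.w (Equiv.swap i j), z2 i, b2, ⟨2, ?_⟩, fun h => hij (z_inj D hm h2 ?_)⟩
  · have : (D.φ i (-1) * D.w (Equiv.swap i j)) ^ 2 = D.φ i (-1) * D.φ j (-1) := by
      rw [← e, inv_eq_of_mul_eq_one_right b2, sq]; simp only [mul_assoc]
    rw [show 2 ^ 2 = 2 * 2 from rfl, pow_mul, this, sq, mul_assoc, ← mul_assoc (D.φ j _),
      ← D.comm i j hij, mul_assoc, z2, mul_one, z2]
  · rw [← e, ← h, mul_inv_cancel_right]

theorem mem_of_ind (h2 : (2 : F) ≠ 0) {P : Subgroup (Equiv.Perm (Fin m))}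
    {π : Equiv.Perm (Fin m)} (hP : π ∈ P) {s : K}
    (hi : ∀ i, Maps s (D.φ i).range (D.φ (π i)).range) :
    s ∈ (⨆ i, (D.φ i).range) ⊔ P.map D.w := by
  obtain ⟨a, ha⟩ := D.stab ((D.w π)⁻¹ * s) fun i => by
    obtain ⟨b, hb⟩ := (maps_w D π i ((D.w π)⁻¹ * s * D.φ i (-1) * ((D.w π)⁻¹ * s)⁻¹)).2 (by
      have h := (hi i (D.φ i (-1))).1 ⟨-1, rfl⟩
      simpa only [mul_assoc, _root_.mul_inv_rev, inv_inv, mul_inv_cancel_left, mul_inv_cancel,
        mul_one] using h)
    have b2 : b * b = 1 := D.inj i (by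
      rw [map_mul, hb, conj_mul, ← map_mul]; simp)
    rcases sq_eq_one h2 b2 with rfl | rfl
    · rw [map_one, eq_comm, conj_eq_one_iff] at hb
      rw [hb, mul_one, one_mul]
    · exact (eq_mul_inv_iff_mul_eq.1 hb).symm
  rw [Φ_eq, inv_mul_eq_iff_eq_mul] at ha
  rw [ha]
  exact mul_mem (mem_sup_right ⟨π, hP, rfl⟩)
    (mem_sup_left (Φ_mem D a fun i => mem_iSup_of_mem i ⟨a i, rfl⟩))

end D

section Fr

variable {K : Type} [Group K] {F : Type} [Field F] [Fintype F] {m : ℕ}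

theorem sylIn (P : Sylow 2 (Equiv.Perm (Fin m))) :
    H98.SylIn 2 (P : Subgroup (Equiv.Perm (Fin m))) (colStab fun _ : Fin m => ()) :=
  ⟨fun _ _ _ => rfl, P.isPGroup', fun _ _ hU h => P.is_maximal' hU h⟩

theorem closure_eq (sym : SymStmt.{0, 0}) (P : Sylow 2 (Equiv.Perm (Fin m))) :
    closure (Set.range fun k : {π : Equiv.Perm (Fin m) //
      π ∈ (P : Subgroup (Equiv.Perm (Fin m))) ∧ π * π = 1} => k.1) = P := by
  refine le_antisymm ((closure_le _).2 ?_) ((sym _ _ _ _ (sylIn P)).1.trans (closure_mono ?_))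
  · rintro _ ⟨k, rfl⟩
    exact k.2.1
  · exact fun π h => ⟨⟨π, h⟩, rfl⟩

/-- the frame -/
def frame (sym : SymStmt.{0, 0}) (hF : Odd (Fintype.card F)) (D : SpD K F m) [Finite K]
    (P : Sylow 2 (Equiv.Perm (Fin m)))
    (hK : 2 * Nat.card K = Fintype.card F ^ (m ^ 2) *
      ∏ i ∈ Finset.range m, (Fintype.card F ^ (2 * (i + 1)) - 1)) : Frame K where
  ι := Fin m
  F _ := F
  odd _ := hF
  φ := D.φ
  inj := D.inj
  comm := D.comm
  H := (τ D).range
  hab := by
    rintro _ ⟨s, rfl⟩ _ ⟨t, rfl⟩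
    rw [← map_mul, mul_comm, map_mul]
  hact := by
    rintro _ ⟨t, rfl⟩ i
    exact ⟨_, τ_acts D t i⟩
  hdg i t := ⟨_, τ_single D i t⟩
  hom := by
    rintro _ ⟨t, rfl⟩ - h
    refine Φ_mem D (fun i => dg (t i)) fun i => ?_
    have e := up_inj (D.inj i (((τ_acts D t i).1 1).symm.trans ((h i).1 1)))
    have e' : t i ^ 2 = 1 := Units.ext (by simpa using e)
    rcases Units.eq_or_eq_neg_of_sq_eq_sq (t i) 1 (by simpa using e') with h1 | h1
    · rw [h1, dg_one, map_one]
      exact one_mem _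
    · rw [h1, dg_neg_one]
      exact subset_closure ⟨i, rfl⟩
  κ := {π : Equiv.Perm (Fin m) // π ∈ (P : Subgroup (Equiv.Perm (Fin m))) ∧ π * π = 1}
  n k := D.w k.1
  σ k := k.1
  nJ k i := maps_w D k.1 i
  nH k := mem_normalizer_fintype fun x hx => w_τ D _ hx
  two := by rw [closure_eq sym]; exact P.isPGroup'
  card e he := by
    rw [closure_eq sym, P.card_eq_multiplicity, Nat.card_eq_fintype_card (α := Equiv.Perm _),
      Fintype.card_perm, Fintype.card_fin, Finset.prod_const, Finset.card_univ, Fintype.card_fin]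
    have h := two_pow_dvd Fintype.one_lt_card (Nat.not_even_iff_odd.2 hF ∘ even_iff_two_dvd.2)
      m (e + 1) (by rw [← hK, pow_succ']; exact Nat.mul_dvd_mul_left 2 he)
    refine Nat.dvd_of_mul_dvd_mul_left two_pos ?_
    rw [← pow_succ', ← mul_assoc, ← mul_assoc]
    exact h.trans (Nat.mul_dvd_mul_right (Nat.mul_dvd_mul_right (card_τ D) _) _)

theorem two_ne (hF : Odd (Fintype.card F)) : (2 : F) ≠ 0 := fun h => by
  have := FiniteField.even_card_of_char_two (F := F)
    (CharP.ringChar_of_prime_eq_zero Nat.prime_two (by exact_mod_cast h))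
  exact (Nat.odd_iff.1 hF ▸ this : (1 : ℕ) = 0).not_gt one_pos

theorem ok (sym : SymStmt.{0, 0}) (hF : Odd (Fintype.card F)) (hm : 3 ≤ m) (D : SpD K F m)
    [Finite K] (P : Sylow 2 (Equiv.Perm (Fin m))) (hK) : (frame sym hF D P hK).Ok where
  ne := ⟨(⟨0, by omega⟩ : Fin m)⟩
  cases := Or.inl ⟨fun i j h => z_inj D hm (two_ne hF) h,
    fun i j => ⟨_, maps_swap D i j⟩, (⟨0, by omega⟩ : Fin m), D.cz _⟩
  reachJ := reachJ D
  reachN i k := reachW D i k.1 k.2.2
  f3 π ho h := (sym _ _ _ _ (sylIn P)).2.1 π ho (by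
    rw [← closure_eq sym]; exact h) fun _ => rfl
  d8 := hasD8 D hm (two_ne hF)

end Fr

/-- **SPF** -/
theorem spf (sym : SymStmt.{0, 0}) (h0 : Fr0Stmt.{0}) (h1 : Fr1Stmt.{0}) (h4 : Fr4Stmt.{0})
    (h5 : Fr5Stmt.{0}) : SpfStmt := by
  intro F _ _ hF m hm D P
  have hK : 2 * Nat.card (PSp m F) = Fintype.card F ^ (m ^ 2) *
      ∏ i ∈ Finset.range m, (Fintype.card F ^ (2 * (i + 1)) - 1) := by
    have h3 := S0246.result (F := F) rfl m (by omega)
    rw [Nat.gcd_eq_left (even_iff_two_dvd.1 (Nat.Odd.sub_odd hF odd_one))] at h3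
    rw [← S0245.result (F := F) rfl m, ← h3, mul_comm, ← card_eq_card_quotient_mul_card_subgroup]
  have hN : NAS (PSp m F) := by
    refine ⟨S0270.result m (by omega) (by omega), fun hc => ?_⟩
    obtain ⟨a, b, -, -, -, h⟩ := hasD8 D hm (two_ne hF)
    exact h (hc.1.1 a b)
  have hok := ok sym hF hm D P hK
  obtain ⟨S, hS⟩ := h0 _ (frame sym hF D P hK)
  have hS2 := h1 _ _ S hS
  refine ⟨h4 _ hN _ S hS hS2 hok, fun h => ns_of_one S fun g hg ho => ?_, S, fun s hs => ?_,
    fun g hg ho i => (h5 _ _ S hS hS2 hok g hg ho).1 i⟩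
  · obtain ⟨-, a, b⟩ := h5 _ _ S hS hS2 hok g hg ho
    exact a (b (Or.inr fun _ => h))
  · obtain ⟨π, hπ, hi⟩ := hS.perm s hs
    have hP : π ∈ (P : Subgroup (Equiv.Perm (Fin m))) := closure_eq sym P ▸ hπ
    exact mem_of_ind D (two_ne hF) hP hi

end Cfsg.Agent.H67.FkSpf
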