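import Cfsg.Agent.H42.HtDefs
import Cfsg.Agent.H95.AutAlt
import Cfsg.Agent.H44.AnNat
import Cfsg.Agent.H86.Alt3

/-!
Embeddings of `A₈` in `S₁₀` are natural.
-/

set_option autoImplicit false

namespace Cfsg.Agent.H67.HtF1

open Equiv Equiv.Perm Subgroup Cfsg.Agent.H78 Cfsg.Agent.H95.AutAlt Cfsg.Agent.H42.HT

variable {α : Type*} [Fintype α] [DecidableEq α]

theorem exists_mem_notMem {X s : Finset α} (h : s.card < X.card) : ∃ x ∈ X, x ∉ s := by
  by_contra hc
  push Not at hc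
  have := Finset.card_le_card (show X ⊆ s from hc)
  omega

/-- An embedding that keeps three-cycles is induced by a permutation. -/
theorem conj_of_three {X : Finset α} (h4 : 4 ≤ X.card) (φ : altOn X →* Perm α)
    (inj : Function.Injective φ) (t3 : ∀ g : altOn X, IsThreeCycle g.1 → IsThreeCycle (φ g)) :
    ∃ p : Perm α, ∀ σ, φ σ = p * σ * p⁻¹ := by
  obtain ⟨u, uX, -⟩ := exists_mem_notMem (X := X) (s := ∅) (by simp only [Finset.card_empty]; omega)
  obtain ⟨v, vX, hv⟩ := exists_mem_notMem (X := X) (s := {u}) (by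
    simp only [Finset.card_singleton]; omega)
  obtain ⟨i, iX, hi⟩ := exists_mem_notMem (X := X) (s := {u, v}) (by
    have := Finset.card_le_two (a := u) (b := v); omega)
  obtain ⟨j, jX, hj⟩ := exists_mem_notMem (X := X) (s := {u, v, i}) (by
    have := Finset.card_le_three (a := u) (b := v) (c := i); omega)
  simp only [Finset.mem_insert, Finset.mem_singleton, not_or] at hv hi hj
  have huv : u ≠ v := Ne.symm hv
  let e : (x : X) → x.1 ≠ u → altOn X := fun x hx => ⟨c3 x u v, c3_mem_altOn x.2 uX vX hx huv⟩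
  have h3 : ∀ x (hx : x.1 ≠ u), x.1 ≠ v → IsThreeCycle (φ (e x hx)) :=
    fun x hx hx' => t3 _ (isThreeCycle_c3 hx hx' huv)
  have hne : ∀ x (hx : x.1 ≠ u) y (hy : y.1 ≠ u), x.1 ≠ y.1 → e x hx ≠ e y hy := by
    intro x hx y hy hxy hc
    have := congrArg (fun g : altOn X => (g : Perm α) v) hc
    simp only [e, c3_apply_thd] at this
    exact hxy this
  have hedge : ∀ x (hx : x.1 ≠ u) y (hy : y.1 ≠ u), x.1 ≠ v → y.1 ≠ v → x.1 ≠ y.1 →
      ∃ a, φ (e x hx) a = φ (e y hy) a ∧ φ (e x hx) a ≠ a := by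
    intro x hx y hy hx' hy' hxy
    apply exists_edge (h3 x hx hx') (h3 y hy hy')
    · have : (e x hx * e y hy) ^ 2 = 1 := Subtype.ext (c3_mul_c3_sq huv hx hx' hy hy' hxy)
      rw [← map_mul, ← map_pow, this, map_one]
    · intro hc
      rw [← map_mul, map_eq_one_iff φ inj] at hc
      have := congrArg (fun g : altOn X => (g : Perm α) u) hc
      simp only [e, Subgroup.coe_mul, Perm.mul_apply, c3_apply_snd hy' huv, c3_apply_thd,
        OneMemClass.coe_one, Perm.one_apply] at this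
      exact hx this
  obtain ⟨a, ha, ha'⟩ := hedge ⟨i, iX⟩ hi.1 ⟨j, jX⟩ hj.1 hi.2 hj.2.1 (Ne.symm hj.2.2)
  set b := φ (e ⟨i, iX⟩ hi.1) a with hb
  have hab : a ≠ b := Ne.symm ha'
  obtain ⟨c, hca, hcb, hc⟩ := eq_c3_of_apply (h3 ⟨i, iX⟩ hi.1 hi.2) hab hb.symm
  obtain ⟨d, hda, hdb, hd⟩ := eq_c3_of_apply (h3 ⟨j, jX⟩ hj.1 hj.2.1) hab ha.symm
  have hcd : c ≠ d := by
    rintro rfl
    exact hne ⟨i, iX⟩ hi.1 ⟨j, jX⟩ hj.1 (Ne.symm hj.2.2) (inj (hc.trans hd.symm))
  have hall : ∀ x (hx : x.1 ≠ u), x.1 ≠ v → ∃ y, y ≠ a ∧ y ≠ b ∧ φ (e x hx) = c3 y a b := by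
    rintro ⟨x, xX⟩ hx hx'
    by_cases e1 : x = i
    · subst e1; exact ⟨c, hca, hcb, hc⟩
    by_cases e2 : x = j
    · subst e2; exact ⟨d, hda, hdb, hd⟩
    refine eq_c3_of_apply (h3 _ hx hx') hab
      (edge_of_edges (h3 _ hx hx') hab hca hcb hda hdb hcd ?_ ?_)
    · rw [← hc]; exact hedge ⟨i, iX⟩ hi.1 _ hx hi.2 hx' (Ne.symm e1)
    · rw [← hd]; exact hedge ⟨j, jX⟩ hj.1 _ hx hj.2.1 hx' (Ne.symm e2)
  choose f hf using hall
  let F : X → α := fun x => if hx : x.1 = u then a else if hx' : x.1 = v then b else f x hx hx'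
  have Fu : ∀ x : X, x.1 = u → F x = a := fun x h => by simp [F, h]
  have Fv : ∀ x : X, x.1 = v → F x = b := fun x h => by simp [F, h, hv]
  have Fx : ∀ x (hx : x.1 ≠ u) (hx' : x.1 ≠ v), F x = f x hx hx' := by
    intro x hx hx'; simp [F, hx, hx']
  have hF : Function.Injective F := by
    intro x y hxy
    refine Subtype.ext ?_
    by_cases x1 : x.1 = u
    · by_cases y1 : y.1 = u
      · rw [x1, y1]
      by_cases y2 : y.1 = v
      · rw [Fu x x1, Fv y y2] at hxy; exact absurd hxy hab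
      · rw [Fu x x1, Fx y y1 y2] at hxy; exact absurd hxy.symm (hf y y1 y2).1
    by_cases x2 : x.1 = v
    · by_cases y1 : y.1 = u
      · rw [Fv x x2, Fu y y1] at hxy; exact absurd hxy.symm hab
      by_cases y2 : y.1 = v
      · rw [x2, y2]
      · rw [Fv x x2, Fx y y1 y2] at hxy; exact absurd hxy.symm (hf y y1 y2).2.1
    by_cases y1 : y.1 = u
    · rw [Fu y y1, Fx x x1 x2] at hxy; exact absurd hxy (hf x x1 x2).1
    by_cases y2 : y.1 = v
    · rw [Fv y y2, Fx x x1 x2] at hxy; exact absurd hxy (hf x x1 x2).2.1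
    rw [Fx x x1 x2, Fx y y1 y2] at hxy
    by_contra hne'
    exact hne x x1 y y1 hne' (inj (by rw [(hf x x1 x2).2.2, (hf y y1 y2).2.2, hxy]))
  obtain ⟨ρ, hρ⟩ := Equiv.Perm.exists_extending_pair (f := (Subtype.val : X → α)) (g := F)
    Subtype.val_injective hF
  let H : Subgroup (altOn X) :=
    MonoidHom.eqLocus φ ((MulAut.conj ρ).toMonoidHom.comp (altOn X).subtype)
  have hH : altOn X ≤ H.map (altOn X).subtype := by
    apply altOn_le_of_c3 huv
    intro x xX hx hx'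
    refine ⟨e ⟨x, xX⟩ hx, ?_, rfl⟩
    show φ (e ⟨x, xX⟩ hx) = ρ * c3 x u v * ρ⁻¹
    rw [c3_conj, (hf _ hx hx').2.2, hρ ⟨x, xX⟩, hρ ⟨u, uX⟩, hρ ⟨v, vX⟩, Fu ⟨u, uX⟩ rfl, Fv ⟨v, vX⟩ rfl,
      Fx _ hx hx']
  refine ⟨ρ, fun g => ?_⟩
  obtain ⟨g', hg', e'⟩ := hH g.2
  obtain rfl : g' = g := Subtype.ext e'
  exact hg'

theorem three_of_five {g k : P} (h3 : orderOf g = 3) (h5 : orderOf k = 5) (c : Commute g k) :
    IsThreeCycle g := by
  obtain ⟨n, hn⟩ := cycleType_prime_order (σ := g) (by rw [h3]; exact Nat.prime_three)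
  rw [h3] at hn
  have s := g.sum_cycleType_le
  rw [hn, Multiset.sum_replicate, smul_eq_mul, Fintype.card_fin] at s
  have d : 5 ∣ Nat.card (centralizer {g}) :=
    h5 ▸ orderOf_dvd_natCard _ (mem_centralizer_singleton_iff.2 c.symm.eq)
  rw [nat_card_centralizer, hn] at d
  have : n ≤ 2 := by omega
  interval_cases n
  · exact hn
  all_goals exact absurd d (by decide)

theorem three {X : Finset (Fin 10)} (h8 : 8 ≤ X.card) (φ : altOn X →* P)
    (inj : Function.Injective φ) (g : altOn X) (hg : IsThreeCycle g.1) : IsThreeCycle (φ g) := by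
  have := Fact.mk (show Nat.Prime 5 by norm_num)
  have c : 5 ≤ (X \ g.1.support).card := by
    have := Finset.le_card_sdiff g.1.support X
    rw [hg.card_support] at this
    omega
  obtain ⟨k, hk⟩ := exists_prime_orderOf_dvd_card' (G := altOn (X \ g.1.support)) 5
    ((Nat.Coprime.dvd_mul_left (by norm_num)).1 (two_mul_card_altOn (X := X \ g.1.support) (by omega) ▸
      Nat.dvd_factorial (by norm_num) c))
  refine three_of_five (k := φ ⟨k, altOn_mono Finset.sdiff_subset k.2⟩)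
    (by rw [orderOf_injective φ inj, ← orderOf_coe, hg.orderOf])
    (by rw [orderOf_injective φ inj, ← orderOf_coe]; exact (orderOf_coe k).trans hk) (Commute.map ?_ φ)
  exact Subtype.ext (commute_of_mem_symOn Finset.disjoint_sdiff
    (mem_symOn_iff_support.2 subset_rfl) k.2.1).eq

theorem f1 : F1 where
  a8 i j h φ inj := by
    have c : ({i, j}ᶜ : Finset (Fin 10)).card = 8 := by
      rw [Finset.card_compl, Finset.card_pair h, Fintype.card_fin]
    exact conj_of_three (by omega) φ inj (three c.ge φ inj)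
  iso8 := H86.nonempty_altOn_equiv ({2, 3}ᶜ : Finset (Fin 10))
  simp _ h := H44.AnNat.simple_altOn h

end Cfsg.Agent.H67.HtF1
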