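import Cfsg.Agent.H46.L40Defs
import Cfsg.Agent.H10.Std1

/-! Project L40 (row S3140), piece R2A: an involution of `K^g ∩ N(K)` can be chosen inner. -/

set_option autoImplicit false

namespace Cfsg.Agent.H67.L40R2a

open Subgroup Cfsg.Agent.H83 Cfsg.Agent.H46.L40

universe u

/-- base-3 digit -/
def dg (n k : ℕ) : ZMod 3 := ((n / 3 ^ k % 3 : ℕ) : ZMod 3)

/-- decode a matrix -/
def mat (n : ℕ) : Matrix (Fin 3) (Fin 3) (ZMod 3) :=
  !![dg n 0, dg n 1, dg n 2; dg n 3, dg n 4, dg n 5; dg n 6, dg n 7, dg n 8]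

/-- encode a matrix -/
def cd (a b c d e f g h i : ZMod 3) : ℕ :=
  a.val + 3 * b.val + 9 * c.val + 27 * d.val + 81 * e.val + 243 * f.val + 729 * g.val + 2187 * h.val +
    6561 * i.val

/-- table lookup -/
def lk (n : ℕ) : List (ℕ × ℕ) → ℕ
  | [] => 0
  | p :: t => if p.1 = n then p.2 else lk n t

def tA : List (ℕ × ℕ) := [(900,7806), (1170,7824), (1440,7815), (1638,8292), (1935,8310), (2151,8301), (2432,8796), (2444,9282),
  (2456,9039), (3090,9993), (3188,9525), (3562,9759), (3831,10479), (3944,10254), (4252,10731), (4862,10974),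
  (4877,11460), (4883,11217), (5280,12180), (5476,11955), (5645,11703), (6015,12666), (6226,12927), (6347,12432),
  (6725,13152), (6734,13395), (6743,13638), (6968,13161), (6977,13404), (6986,13647), (7211,13170), (7220,13413),
  (7229,13656), (7454,13881), (7751,13890), (7967,13899), (8183,14610), (8453,14619), (8723,14628), (8912,15339),
  (8927,15582), (8933,15825), (9641,16068), (9876,16563), (10006,16329), (10370,16797), (10572,17049), (10768,17301),
  (11099,17526), (11111,17769), (11123,18012), (11828,18255), (11974,18507), (12282,18759), (12557,18984), (12688,19479),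
  (13026,19245), (13152,6030), (13182,5220), (13205,2223), (13208,2304), (13211,2385), (13232,3681), (13259,2952),
  (13285,1548), (13288,3735), (13291,5922), (13294,8109), (13297,10296), (13300,12483), (13303,14670), (13306,16857),
  (13309,19044), (13312,1575), (13339,927), (13404,19152), (13443,18342), (13448,15345), (13463,15507), (13469,15426),
  (13475,16803), (13502,16074), (13573,14697), (13591,14049), (13656,12591), (13677,11781), (13691,8784), (13703,8865),
  (13715,8946), (13718,10242), (13745,9513), (13807,8136), (13843,7488), (14014,1002), (14041,1020), (14068,1011),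
  (14743,1974), (14770,1983), (14797,1992), (15392,2226), (15395,2712), (15398,2469), (16068,3450), (16175,2955),
  (16207,3189), (16827,3936), (16877,3684), (16933,4161), (17579,4422), (17582,4665), (17585,4908), (18285,5628),
  (18335,5151), (18391,5376), (18984,6114), (19091,5880), (19123,6348)]

def tB : List (ℕ × ℕ) := [(900,12034), (901,18820), (902,5221), (930,18352), (931,5455), (932,12268), (960,5716), (961,11773),
  (962,18586), (1638,10810), (1639,17119), (1640,3772), (1668,16885), (1669,4240), (1670,10576), (1698,4006),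
  (1699,10315), (1700,17380), (2432,18597), (2462,11793), (2492,5718), (2513,12261), (2543,5457), (2573,18336),
  (2594,5223), (2624,18831), (2654,12027), (3170,16329), (3199,9525), (3228,3450), (3250,16068), (3279,9993),
  (3311,3189), (3330,16563), (3362,9759), (3391,2955), (3908,17301), (3936,3936), (3967,10254), (3988,16797),
  (4019,4161), (4047,10479), (4068,17049), (4099,3684), (4130,10731), (4862,17373), (4892,10326), (4922,4008),
  (4943,10560), (4973,4242), (5003,16878), (5024,3774), (5054,17139), (5084,10821), (5600,18507), (5628,5628),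
  (5659,11703), (5680,18255), (5711,5376), (5739,12180), (5760,18759), (5791,5151), (5822,11955), (6338,19479),
  (6367,12432), (6396,6114), (6418,18984), (6447,12666), (6479,6348), (6498,19245), (6530,12927), (6559,5880),
  (6643,1548), (6674,3735), (6704,5922), (6725,5220), (6754,3681), (6784,2952), (7382,8109), (7410,10296),
  (7440,12483), (7461,18828), (7493,10728), (7523,16560), (8120,14670), (8148,16857), (8178,19044), (8199,12024),
  (8231,17046), (8261,9756), (8993,12267), (9022,16803), (9052,16074), (9154,2034), (9185,17343), (9215,12969),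
  (9731,9999), (9759,5463), (9791,4167), (9891,19530), (9923,8595), (9951,4221), (10469,10485), (10499,3195),
  (10527,18342), (10629,10782), (10659,6408), (10691,15156), (11423,18585), (11452,10242), (11482,9513), (11584,1791),
  (11615,10539), (11645,19287), (12161,17289), (12191,3438), (12219,11781), (12321,17100), (12351,6165), (12383,8352),
  (12899,16317), (12927,5706), (12959,3924), (13059,12726), (13091,14913), (13119,3978), (13152,4252), (13153,10639),
  (13154,6355), (13182,18661), (13183,16390), (13184,5626), (13205,8292), (13233,10641), (13263,12747), (13285,1308),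
  (13314,3495), (13344,5682), (13890,18424), (13891,9991), (13892,12262), (13920,12511), (13921,17281), (13922,10408),
  (13942,13881), (13973,18417), (14003,16149), (14022,7869), (14054,10056), (14084,12243), (14628,16975), (14629,12664),
  (14630,10561), (14658,9604), (14659,18496), (14660,11875), (14680,14610), (14711,16959), (14741,19065), (14760,14430),
  (14792,16617), (14822,18804), (15554,8301), (15582,16968), (15612,16158), (15634,2028), (15663,19524), (15693,10776),
  (15744,18823), (15745,16957), (15746,19477), (15774,11866), (15775,12502), (15776,18748), (16292,10650), (16322,19074),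
  (16351,13890), (16373,12963), (16403,4215), (16431,15150), (16452,10648), (16453,16552), (16454,4000), (16482,9595),
  (16483,4159), (16484,18679), (17030,12756), (17059,14619), (17090,18426), (17111,17337), (17139,8589), (17171,6402),
  (17190,16408), (17191,11935), (17192,10399), (17250,18433), (17251,6103), (17252,17374), (17984,8310), (18012,18435),
  (18042,19083), (18064,1056), (18093,16365), (18123,11991), (18174,17122), (18175,18415), (18176,12916), (18204,10417),
  (18205,9586), (18206,12187), (18722,12765), (18751,13899), (18782,16977), (18803,18552), (18831,7617), (18863,3243),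
  (18882,16399), (18883,10720), (18884,11857), (18942,16966), (18943,3430), (18944,10813), (19460,10659), (19490,16167),
  (19519,14628), (19541,9804), (19571,5430), (19599,14178), (19620,10657), (19621,19225), (19622,5701), (19650,12520),
  (19651,5374), (19652,18670)]

set_option synthInstance.maxSize 4000 in
set_option synthInstance.maxHeartbeats 400000 in
theorem fa : ∀ a b c d g : ZMod 3, a * a + b * d + c * g = 1 → ∀ e h : ZMod 3, a * b + b * e + c * h = 0 →
    ∀ f i : ZMod 3, a * c + b * f + c * i = 0 → d * a + e * d + f * g = 0 → d * b + e * e + f * h = 1 →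
    d * c + e * f + f * i = 0 → g * a + h * d + i * g = 0 → g * b + h * e + i * h = 0 →
    g * c + h * f + i * i = 1 →
    a * e * i - a * f * h - b * d * i + b * f * g + c * d * h - c * e * g = 1 →
    !![a, b, c; d, e, f; g, h, i] = 1 ∨ ((mat (lk (cd a b c d e f g h i) tA)).det = 1 ∧
      mat (lk (cd a b c d e f g h i) tA) * !![a, b, c; d, e, f; g, h, i] =
        z0.1 * mat (lk (cd a b c d e f g h i) tA)) := by
  decide +kernel

theorem fb : ∀ a b c e f i : ZMod 3,
    a * e * i - a * f * f - b * b * i + b * f * c + c * b * f - c * e * c = 1 →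
    (mat (lk (cd a b c b e f c f i) tB)).det = 1 ∧
      mat (lk (cd a b c b e f c f i) tB) * !![a, b, c; b, e, f; c, f, i] *
        (mat (lk (cd a b c b e f c f i) tB)).transpose = 1 := by
  decide +kernel

theorem tr_mul (a b : S3) : tr (a * b) = tr a * tr b := by
  apply Subtype.ext
  change ((a * b)⁻¹ : S3).1.transpose = (a⁻¹ : S3).1.transpose * (b⁻¹ : S3).1.transpose
  rw [mul_inv_rev, Matrix.SpecialLinearGroup.coe_mul, Matrix.transpose_mul]

theorem tr_one : tr 1 = 1 := by
  have := tr_mul 1 1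
  rw [mul_one] at this
  exact left_eq_mul.mp this

theorem tr_inv (a : S3) : tr a⁻¹ = (tr a)⁻¹ := by
  rw [eq_inv_iff_mul_eq_one, ← tr_mul, inv_mul_cancel, tr_one]

theorem tr_inv_val (a : S3) : (tr a⁻¹).1 = a.1.transpose := by
  unfold tr
  rw [inv_inv]
  rfl

theorem tr_tr (a : S3) : tr (tr a) = a := by
  apply Subtype.ext
  rw [← inv_inv (tr a), tr_inv_val, ← tr_inv, tr_inv_val, Matrix.transpose_transpose]

theorem cen (m : S3) (h : ∀ x, m * x * m⁻¹ = x) : m = 1 := by
  have hm : m ∈ center S3 := mem_center_iff.mpr fun x => by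
    conv_lhs => rw [← h x]
    rw [inv_mul_cancel_right]
  obtain ⟨r, hr, e⟩ := Matrix.SpecialLinearGroup.mem_center_iff.mp hm
  have h1 : ∀ r : ZMod 3, r ^ Fintype.card (Fin 3) = 1 → r = 1 := by decide
  apply Subtype.ext
  rw [← e, h1 r hr, map_one]
  rfl

theorem invol (m : S3) (h2 : m * m = 1) (h1 : m ≠ 1) : ∃ l : S3, l * m = z0 * l := by
  obtain ⟨M, hM⟩ := m
  have e2 : M * M = 1 := congrArg Subtype.val h2
  have e (i j : Fin 3) : M i 0 * M 0 j + M i 1 * M 1 j + M i 2 * M 2 j = (1 : Matrix (Fin 3) (Fin 3) (ZMod 3)) i j := by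
    rw [← e2, Matrix.mul_apply, Fin.sum_univ_three]
  rcases fa (M 0 0) (M 0 1) (M 0 2) (M 1 0) (M 2 0) (e 0 0) (M 1 1) (M 2 1) (e 0 1) (M 1 2) (M 2 2) (e 0 2)
    (e 1 0) (e 1 1) (e 1 2) (e 2 0) (e 2 1) (e 2 2) (by rw [← Matrix.det_fin_three]; exact hM) with h | ⟨h, h'⟩
  · rw [← Matrix.eta_fin_three] at h
    exact (h1 (Subtype.ext h)).elim
  · rw [← Matrix.eta_fin_three M] at h'
    exact ⟨⟨_, h⟩, Subtype.ext h'⟩

theorem symm (m : S3) (h : m * tr m = 1) : ∃ l : S3, l * m * (tr l)⁻¹ = 1 := by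
  have h1 : tr m⁻¹ = m := by rw [tr_inv, eq_comm, eq_inv_iff_mul_eq_one, h]
  have h2 : m.1.transpose = m.1 := by rw [← tr_inv_val, h1]
  have key : ∀ M : Matrix (Fin 3) (Fin 3) (ZMod 3), M.det = 1 → M.transpose = M →
      ∃ l : Matrix (Fin 3) (Fin 3) (ZMod 3), l.det = 1 ∧ l * M * l.transpose = 1 := by
    intro M hM h2
    have e (i j : Fin 3) : M i j = M j i := congrFun (congrFun h2 j) i
    have e0 : M = !![M 0 0, M 0 1, M 0 2; M 0 1, M 1 1, M 1 2; M 0 2, M 1 2, M 2 2] := by
      conv_lhs => rw [Matrix.eta_fin_three M, e 1 0, e 2 0, e 2 1]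
    obtain ⟨h3, h4⟩ := fb (M 0 0) (M 0 1) (M 0 2) (M 1 1) (M 1 2) (M 2 2) (by
      rw [← hM, Matrix.det_fin_three, e 1 0, e 2 0, e 2 1])
    rw [← e0] at h4
    exact ⟨_, h3, h4⟩
  obtain ⟨l, h3, h4⟩ := key m.1 m.2 h2
  have key2 : ∀ l : S3, l.1 * m.1 * l.1.transpose = 1 → l * m * (tr l)⁻¹ = 1 := fun l h => by
    apply Subtype.ext
    rw [← tr_inv]
    rw [← tr_inv_val] at h
    exact h
  exact ⟨⟨l, h3⟩, key2 _ h4⟩

theorem chk2 : tr w0 = w0 ∧ tr q0⁻¹ = q0 ∧ tr z0 = z0 ∧ z0 * z0 = 1 := by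
  refine ⟨?_, ?_, ?_, ?_⟩
  · have : w0 = (w0 * z0)⁻¹ := by rw [eq_inv_iff_mul_eq_one]; decide +kernel
    apply Subtype.ext
    conv_lhs => rw [this, tr_inv_val]
    decide +kernel
  · apply Subtype.ext
    rw [tr_inv_val]
    decide +kernel
  · have : z0 = z0⁻¹ := by rw [eq_inv_iff_mul_eq_one]; decide +kernel
    apply Subtype.ext
    conv_lhs => rw [this, tr_inv_val]
    decide +kernel
  · decide +kernel

variable {G : Type u} [Group G] {φ : S3 →* G}

local notation "K" => centralizer (φ.range : Set G)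
local notation "N" => normalizer (φ.range : Set G)

theorem mem_K {k : G} : k ∈ K ↔ ∀ x, k * φ x * k⁻¹ = φ x := by
  constructor
  · intro h x
    rw [← h (φ x) ⟨x, rfl⟩, mul_inv_cancel_right]
  · rintro h _ ⟨x, rfl⟩
    conv_lhs => rw [← h x]
    rw [inv_mul_cancel_right]

theorem phi_N (x : S3) : φ x ∈ N := le_normalizer (show φ x ∈ φ.range from ⟨x, rfl⟩)

theorem act (au : AutS) (hφ : Function.Injective φ) {n : G} (hn : n ∈ N) :
    ∃ m, (∀ x, n * φ x * n⁻¹ = φ (m * x * m⁻¹)) ∨ (∀ x, n * φ x * n⁻¹ = φ (m * tr x * m⁻¹)) := by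
  let e : S3 ≃* φ.range := MonoidHom.ofInjective hφ
  let ψ : S3 ≃* S3 := e.trans ((φ.range.normalizerMonoidHom ⟨n, hn⟩).trans e.symm)
  have h : ∀ x, φ (ψ x) = n * φ x * n⁻¹ := fun x => by
    have : φ (ψ x) = (e (ψ x) : G) := rfl
    rw [this]
    simp only [ψ, MulEquiv.trans_apply, MulEquiv.apply_symm_apply]
    rfl
  obtain ⟨m, h1 | h1⟩ := au ψ
  · exact ⟨m, Or.inl fun x => by rw [← h, h1]⟩
  · exact ⟨m, Or.inr fun x => by rw [← h, h1]⟩

theorem sq_inn (au : AutS) (hφ : Function.Injective φ) {n : G} (hn : n ∈ N) :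
    ∃ m, ∀ x, n * n * φ x * (n * n)⁻¹ = φ (m * x * m⁻¹) := by
  obtain ⟨m, h | h⟩ := act au hφ hn
  · refine ⟨m * m, fun x => ?_⟩
    calc n * n * φ x * (n * n)⁻¹ = n * (n * φ x * n⁻¹) * n⁻¹ := by group
      _ = _ := by rw [h, h]; simp only [map_mul, map_inv]; group
  · refine ⟨m * tr m, fun x => ?_⟩
    calc n * n * φ x * (n * n)⁻¹ = n * (n * φ x * n⁻¹) * n⁻¹ := by group
      _ = _ := by rw [h, h, tr_mul, tr_mul, tr_tr, tr_inv]; simp only [map_mul, map_inv]; group

variable [Finite G]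

/-- the inner case -/
theorem inn (hφ : Function.Injective φ) (hs : Cfsg.IsStandardSubgroup φ.range) {g u : G} (hg : g ∉ N)
    (hu : orderOf u = 2) (huK : u ∈ cj g K) {m : S3} (h : ∀ x, u * φ x * u⁻¹ = φ (m * x * m⁻¹)) :
    ∃ g k : G, g ∉ N ∧ k ∈ K ∧ k * k = 1 ∧ φ z0 * k ∈ cj g K := by
  have u2 : u * u = 1 := by rw [← pow_two, ← hu, pow_orderOf_eq_one]
  have hk : (φ m)⁻¹ * u ∈ K := mem_K.mpr fun x => by
    calc (φ m)⁻¹ * u * φ x * ((φ m)⁻¹ * u)⁻¹ = (φ m)⁻¹ * (u * φ x * u⁻¹) * φ m := by group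
      _ = φ x := by rw [h, map_mul, map_mul, map_inv]; group
  have m2 : m * m = 1 := cen _ fun x => hφ (by
    calc φ (m * m * x * (m * m)⁻¹) = φ (m * (m * x * m⁻¹) * m⁻¹) := by simp only [map_mul, map_inv]; group
      _ = u * u * φ x * (u * u)⁻¹ := by rw [← h, ← h]; group
      _ = φ x := by rw [u2]; group)
  have m1 : m ≠ 1 := by
    rintro rfl
    rw [map_one, inv_one, one_mul] at hk
    exact hg (inv_mem_iff.mp (H10.Std.norm_of_conj_mem hs hu hk (g := g⁻¹)
      (by rw [inv_inv]; exact mem_cj.mp huK)))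
  obtain ⟨l, hl⟩ := invol m m2 m1
  refine ⟨φ l * g, (φ m)⁻¹ * u, fun hn => hg ?_, hk, ?_, ?_⟩
  · have := mul_mem (inv_mem (phi_N l)) hn
    rwa [inv_mul_cancel_left] at this
  · calc (φ m)⁻¹ * u * ((φ m)⁻¹ * u) = (φ m)⁻¹ * (u * φ m⁻¹ * u⁻¹) * (u * u) := by rw [map_inv]; group
      _ = φ (m * m)⁻¹ := by rw [h, u2]; simp only [map_mul, map_inv]; group
      _ = 1 := by rw [m2, inv_one, map_one]
  · rw [cj_mul]
    have h1 := conj_mem_cj (g := φ l) huK
    have h2 := mem_K.mp hk l⁻¹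
    have h3 : φ z0 = φ l * φ m * (φ l)⁻¹ := by rw [← map_mul, hl, map_mul, mul_inv_cancel_right]
    rw [map_inv] at h2
    have h4 : φ z0 * ((φ m)⁻¹ * u) = φ l * u * (φ l)⁻¹ := by
      calc φ z0 * ((φ m)⁻¹ * u)
          = φ l * φ m * ((φ m)⁻¹ * u * (φ l)⁻¹ * ((φ m)⁻¹ * u)⁻¹) * ((φ m)⁻¹ * u) := by rw [h2, h3]
        _ = _ := by group
    rw [h4]
    exact h1

/-- the case of the graph automorphism `tr` -/
theorem out (au : AutS) (hφ : Function.Injective φ) (hs : Cfsg.IsStandardSubgroup φ.range) {g u : G}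
    (hg : g ∉ N) (hu : orderOf u = 2) (huK : u ∈ cj g K) (h : ∀ x, u * φ x * u⁻¹ = φ (tr x)) :
    ∃ g k : G, g ∉ N ∧ k ∈ K ∧ k * k = 1 ∧ φ z0 * k ∈ cj g K := by
  obtain ⟨c1, c2, c3, c4⟩ := chk2
  have hsK : g⁻¹ * u * g ∈ K := mem_cj.mp huK
  have hso : orderOf (g⁻¹ * u * g) = 2 := by
    have := (SemiconjBy.conj_mk g⁻¹ u).orderOf_eq
    rw [inv_inv] at this
    rw [← this, hu]
  have hw : g⁻¹ * φ w0 * g ∈ N := H10.Std.norm_of_conj_mem hs hso hsK (by
    have h1 := h w0
    rw [c1] at h1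
    have : g⁻¹ * φ w0 * g * (g⁻¹ * u * g) * (g⁻¹ * φ w0 * g)⁻¹ = g⁻¹ * u * g := by
      calc g⁻¹ * φ w0 * g * (g⁻¹ * u * g) * (g⁻¹ * φ w0 * g)⁻¹
          = g⁻¹ * (u * φ w0 * u⁻¹) * g * (g⁻¹ * u * g) * (g⁻¹ * φ w0 * g)⁻¹ := by rw [h1]
        _ = _ := by group
    rw [this]
    exact hsK)
  obtain ⟨m, hm⟩ := sq_inn au hφ hw
  have e1 : g⁻¹ * φ w0 * g * (g⁻¹ * φ w0 * g) = g⁻¹ * φ z0 * g := by
    rw [← chk.1, map_mul]; group
  rw [e1] at hm
  have e2 : φ z0 * u = (φ q0)⁻¹ * u * φ q0 := by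
    have h1 := h q0
    have h2 : tr q0 = q0⁻¹ := by rw [← c2, tr_tr, c2]
    have h3 : z0 = (q0 * q0)⁻¹ := by rw [chk.2.1, eq_inv_iff_mul_eq_one, c4]
    rw [h2] at h1
    calc φ z0 * u = (φ q0)⁻¹ * φ q0⁻¹ * u := by rw [h3]; simp only [map_mul, map_inv]; group
      _ = _ := by rw [← h1]; group
  have e3 : g⁻¹ * φ z0 * g * (g⁻¹ * u * g) ∈ cj (g⁻¹ * (φ q0)⁻¹ * g) K := by
    rw [mem_cj]
    have : (g⁻¹ * (φ q0)⁻¹ * g)⁻¹ * (g⁻¹ * φ z0 * g * (g⁻¹ * u * g)) * (g⁻¹ * (φ q0)⁻¹ * g) =
        g⁻¹ * u * g := by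
      calc _ = g⁻¹ * φ q0 * (φ z0 * u) * (φ q0)⁻¹ * g := by group
        _ = _ := by rw [e2]; group
    rw [this]
    exact hsK
  by_cases hq : g⁻¹ * (φ q0)⁻¹ * g ∈ N
  · refine ⟨g, 1, hg, one_mem _, one_mul 1, ?_⟩
    rw [hs.2.2.2] at hq
    rw [cj_eq_self hq] at e3
    rw [mul_one, mem_cj]
    have := mul_mem e3 (inv_mem hsK)
    rwa [mul_inv_cancel_right] at this
  · refine inn hφ hs hq ?_ e3 (m := m) fun x => ?_
    · have : g⁻¹ * φ z0 * g * (g⁻¹ * u * g) = (g⁻¹ * (φ q0)⁻¹) * u * (g⁻¹ * (φ q0)⁻¹)⁻¹ := by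
        calc _ = g⁻¹ * (φ z0 * u) * g := by group
          _ = _ := by rw [e2]; group
      rw [this, ← hu, ← (SemiconjBy.conj_mk _ u).orderOf_eq]
    · rw [← hm]
      conv_rhs => rw [← mem_K.mp hsK x]
      group

theorem r2a : R2aS.{u} := by
  intro au G _ _ φ hφ hs g u hg hu huK huN
  obtain ⟨m, h | h⟩ := act au hφ huN
  · exact inn hφ hs hg hu huK h
  have u2 : u * u = 1 := by rw [← pow_two, ← hu, pow_orderOf_eq_one]
  have m2 : m * tr m = 1 := cen _ fun x => hφ (by
    calc φ (m * tr m * x * (m * tr m)⁻¹) = φ (m * tr (m * tr x * m⁻¹) * m⁻¹) := by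
          rw [tr_mul, tr_mul, tr_tr, tr_inv]; simp only [map_mul, map_inv]; group
      _ = u * u * φ x * (u * u)⁻¹ := by rw [← h, ← h]; group
      _ = φ x := by rw [u2]; group)
  obtain ⟨l, hl⟩ := symm m m2
  refine out au hφ hs (g := φ l * g) (u := φ l * u * (φ l)⁻¹) (fun hn => hg ?_) ?_ ?_ fun x => ?_
  · have := mul_mem (inv_mem (phi_N l)) hn
    rwa [inv_mul_cancel_left] at this
  · rw [← hu, ← (SemiconjBy.conj_mk _ u).orderOf_eq]
  · rw [cj_mul]
    exact conj_mem_cj huK
  · calc φ l * u * (φ l)⁻¹ * φ x * (φ l * u * (φ l)⁻¹)⁻¹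
        = φ l * (u * φ (l⁻¹ * x * l) * u⁻¹) * (φ l)⁻¹ := by simp only [map_mul, map_inv]; group
      _ = φ ((l * m * (tr l)⁻¹) * tr x * (l * m * (tr l)⁻¹)⁻¹) := by
        rw [h, tr_mul, tr_mul, tr_inv]; simp only [map_mul, map_inv]; group
      _ = _ := by rw [hl, one_mul, inv_one, mul_one]

end Cfsg.Agent.H67.L40R2a
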