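import Cfsg.Agent.H56.ZCBk

/-! Blocks which never meet: no good element exists. -/

set_option autoImplicit false

namespace Cfsg.Agent.H67.ZcUb

open Subgroup Cfsg.Agent.H56.FS Cfsg.Agent.H56.ZC
open scoped commutatorElement

universe u

variable {G : Type*} [Group G] [Finite G] {p : ℕ} {D : Set (Subgroup G)}

omit [Finite G] in
theorem uniq (n : ¬ Two D) {ζ ζ' : G} (h1 : Gz D ζ) (h2 : Gz D ζ') {A : Subgroup G} (hA : A ∈ D)
    (k1 : A ≤ Ce ζ) (k2 : A ≤ Ce ζ') : Bk D ζ = Bk D ζ' :=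
  by_contra fun e => n ⟨A, hA, ζ, ζ', h1, h2, k1, k2, e⟩

omit [Finite G] in
theorem norm_of (h : Fx p D) (n : ¬ Two D) {ζ g : G} (hζ : Gz D ζ) {Y : Subgroup G} (hY : Y ∈ D)
    (k1 : Y ≤ Ce ζ) (k2 : cj g Y ≤ Ce ζ) : g ∈ normalizer (Bk D ζ : Set G) :=
  cj_eq_iff.1 (by
    rw [← Bk_cj h.inv]
    exact uniq n (gz_cj h.inv g hζ) hζ (h.inv Y hY g) ((H56.FS.cj_mono g k1).trans (cj_Ce g ζ).le) k2)

theorem dn (h : Fx p D) (n : ¬ Two D) {d ζ : G} (hd : Gz D d) (hζ : Gz D ζ) :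
    d ∈ normalizer (Bk D ζ : Set G) := by
  obtain ⟨A, hA, Ad⟩ := exists_pt hd
  by_cases c : ∀ Y ∈ D, Y ≤ Ce ζ → Y ≤ Ce d
  · obtain ⟨B, hB, k⟩ := exists_pt hζ
    rw [uniq n hζ hd hB k (c B hB k)]
    exact le_normalizer (mem_Bk hd)
  push Not at c
  obtain ⟨Y, hY, k1, k2⟩ := c
  have dd : d * d ∈ center G := by rw [h.toMc.gz_sq hd]; exact one_mem _
  have hY' := h.inv Y hY d
  obtain ⟨u, hu, u1, hc, -, e, -⟩ := h.toMc.dd dd hY k2
  refine norm_of h n hζ hY k1 ?_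
  by_cases c : ∃ e ∈ ZZ D (Y ⊔ cj d Y), e ∉ center G
  · obtain ⟨e, he, e1⟩ := c
    have l := LL_le_Ce_of_Z he
    rw [LL_pair hY hY'] at l
    exact ((le_LL hY' (le_sup_right.trans l)).trans
      (uniq n (gz_of_Z he e1) hζ hY (le_sup_left.trans l) k1).le).trans (LL_le _)
  push Not at c
  have uu := c _ (h.sq _ (h.toMc.sv_pair hY hY') u hu)
  have l := le_Ce_iff.2 hc
  have e' : u = d * (u⁻¹ * d)⁻¹ := by group
  generalize u⁻¹ * d = t at e l e'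
  have tt : t * t ∈ center G := by
    have := mul_mem (inv_mem uu) dd
    rwa [e, inv_mul_cancel_left] at this
  have t1 : t ∉ center G := fun m => u1 (h.fpf Y hY _ hY' u hu A hA
    ((h.toMc.le_Ce_iff_fix hA).1 (by rw [e', Ce_mul_center (inv_mem m)]; exact Ad)))
  have tY := le_sup_left.trans l
  exact ((le_LL hY' (le_sup_right.trans l)).trans (h.fix_le hζ hY k1 t1 tt tY (norm_of h n hζ hY k1
    (((h.toMc.le_Ce_iff_fix hY).1 tY).le.trans k1)))).trans (LL_le _)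

theorem ub (s : SubStmt.{u}) : UbStmt.{u} := by
  intro G _ _ p D h n d hd
  let K : Subgroup G := ⨅ ζ : {ζ // Gz D ζ}, normalizer (Bk D ζ : Set G)
  have hK : K.Normal := ⟨fun g hg x => mem_iInf.2 fun ζ => cj_eq_iff.1 (by
    have := cj_eq_iff.2 (mem_iInf.1 hg ⟨_, gz_cj h.inv x⁻¹ ζ.2⟩)
    rw [Bk_cj h.inv] at this
    rw [← H56.FS.cj_cj, ← H56.FS.cj_cj, this, H56.FS.cj_cj_inv])⟩
  obtain ⟨A, hA, Ad⟩ := exists_pt hd
  have e := s G p D h.toMc K hK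
    (fun k => hd.1 (h.cz K hK k (mem_iInf.2 fun ζ => dn h n hd ζ.2))) A hA
  have nb : (Bk D d).Normal := normalizer_eq_top_iff.1 (top_le_iff.1 (e.ge.trans
    (sup_le (iInf_le _ (⟨d, hd⟩ : {ζ // Gz D ζ})) ((le_LL hA Ad).trans le_normalizer))))
  exact hd.1 (h.cz _ nb (h.toMc.sv_Ce hd.1) (mem_Bk hd))

end Cfsg.Agent.H67.ZcUb
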