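import Cfsg.Agent.H58.Q4K
import Cfsg.Agent.H5.Semiregular

/-! Frobenius complements of odd order. -/

set_option autoImplicit false

namespace Cfsg.Agent.H67.Q4Cp

open Subgroup Cfsg.Agent.H58.Q4 Cfsg.Agent.H5
open scoped commutatorElement

universe u

section

variable {X V : Type*} [Group X] [Group V] [MulDistribMulAction X V] [Finite X] [Finite V]
  [Nontrivial V] (h : Semireg X V) [IsZGroup X] {x : X} (hx : (orderOf x).Prime)

include h hx

theorem conj_mem (g : X) : g * x * g⁻¹ ∈ zpowers x := by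
  have c := h.commute_commutator_of_isZGroup hx
    (commutator_mem_commutator (mem_top g) (mem_top x))
  have e : g * x * g⁻¹ = ⁅g, x⁆ * x := by rw [commutatorElement_def, inv_mul_cancel_right]
  refine h.mem_zpowers_of_commute hx (orderOf_conj' g x) rfl ?_
  rw [e]
  exact (c.mul_right (Commute.refl x)).symm

theorem uniq {y : X} (hy : y ^ orderOf x = 1) : y ∈ zpowers x := by
  rcases (Nat.dvd_prime hx).1 (orderOf_dvd_of_pow_eq_one hy) with e | e
  · exact orderOf_eq_one_iff.1 e ▸ one_mem _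
  · refine h.mem_zpowers_of_commute hx e rfl (h.commute_of_prime_order (e ▸ hx) ?_)
    refine mem_Nm_of_finite ?_
    rintro _ ⟨i, rfl⟩
    simp only [← conj_zpow]
    exact zpow_mem (conj_mem h hx y) i

end

variable {G : Type u} [Group G] [Finite G] {H K : Subgroup G}

theorem cen {c g : G} (hc : (orderOf c).Prime) (hg : g ∈ Nm (zpowers c))
    (h : (orderOf g).Coprime (orderOf c - 1)) : Commute g c := by
  have e : (zpowers c).normalizerMonoidHom ⟨g, hg⟩ = 1 := by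
    refine orderOf_eq_one_iff.1 (Nat.eq_one_of_dvd_coprimes h ?_ ?_)
    · exact (orderOf_map_dvd _ _).trans (orderOf_mk g hg).dvd
    · rw [← Nat.totient_prime hc, ← Nat.card_zpowers c, ← IsCyclic.card_mulAut]
      exact orderOf_dvd_natCard _
  have := (normalizerMonoidHom_ker (zpowers c)).le e
  exact (this c (mem_zpowers c)).symm

theorem conj_of_fpf (h : Fr H K) {a : G} (ha : a ∈ H) (haK : a ∉ K) {k : G} (hk : k ∈ K) :
    ∃ j ∈ K, j * a * j⁻¹ = k * a := by
  let f : K → K := fun j => ⟨j * (a * (j : G)⁻¹ * a⁻¹), mul_mem j.2 (h.nrm a ha _ (inv_mem j.2))⟩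
  have : Function.Injective f := fun i j e => by
    have e' : (i : G) * (a * (i : G)⁻¹ * a⁻¹) = j * (a * (j : G)⁻¹ * a⁻¹) := congrArg Subtype.val e
    have := h.fpf a ha haK _ (mul_mem (inv_mem j.2) i.2) (by
      change a * ((j : G)⁻¹ * i) = (j : G)⁻¹ * i * a
      calc a * ((j : G)⁻¹ * i) = (j : G)⁻¹ * (j * (a * (j : G)⁻¹ * a⁻¹)) * a * i := by group
        _ = _ := by rw [← e']; group)
    exact Subtype.ext (inv_mul_eq_one.1 this).symm
  obtain ⟨j, hj⟩ := Finite.surjective_of_injective this ⟨k, hk⟩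
  refine ⟨j, j.2, ?_⟩
  rw [← show (j : G) * (a * (j : G)⁻¹ * a⁻¹) = k from congrArg Subtype.val hj]
  group

/-- A complement. -/
structure Cm (H K A : Subgroup G) : Prop where
  le : A ≤ H
  inf : ∀ a ∈ A, a ∈ K → a = 1
  dec : ∀ g ∈ H, ∃ a ∈ A, g * a⁻¹ ∈ K
  card : Nat.card A = K.relIndex H

theorem Cm.conj (h : Fr H K) {A : Subgroup G} (hA : Cm H K A) {g : G} (hg : g ∈ H) (hK : g ∉ K) :
    ∃ k ∈ K, k * g * k⁻¹ ∈ A := by
  obtain ⟨a, ha, e⟩ := hA.dec g hg
  obtain ⟨j, hj, e'⟩ := conj_of_fpf h (hA.le ha)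
    (fun h' => hK (by simpa using mul_mem e h')) e
  refine ⟨j⁻¹, inv_mem hj, ?_⟩
  rw [inv_mul_cancel_right] at e'
  rw [← e']
  simpa [mul_assoc] using ha

theorem exists_cm (h : Fr H K) (hc : (Nat.card K).Coprime (K.relIndex H)) {c : G} (hH : c ∈ H)
    (hK : c ∉ K) : ∃ A, Cm H K A ∧ c ∈ A := by
  have : (K.subgroupOf H).Normal := ⟨fun k hk g => h.nrm g g.2 k hk⟩
  obtain ⟨B, hB⟩ := exists_right_complement'_of_coprime (N := K.subgroupOf H)
    (by rwa [Nat.card_congr (subgroupOfEquivOfLe h.le).toEquiv])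
  have h0 : Cm H K (B.map H.subtype) := by
    refine ⟨map_subtype_le B, ?_, fun g hg => ?_, ?_⟩
    · rintro _ ⟨a, ha, rfl⟩ ha'
      exact congrArg Subtype.val (disjoint_def.1 hB.disjoint ha' ha)
    · obtain ⟨⟨k, a⟩, e⟩ := hB.2 ⟨g, hg⟩
      refine ⟨_, mem_map_of_mem _ a.2, ?_⟩
      have : (k.1 : G) * (a.1 : G) = g := congrArg Subtype.val e
      rw [← this, coe_subtype, mul_inv_cancel_right]
      exact k.2
    · rw [card_map_of_injective H.subtype_injective, ← hB.symm.index_eq_card]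
      rfl
  obtain ⟨k, hk, e⟩ := h0.conj h hH hK
  have hk' := h.le hk
  refine ⟨(B.map H.subtype).map (MulAut.conj k⁻¹).toMonoidHom, ⟨?_, ?_, fun g hg => ?_, ?_⟩,
    _, e, by simp [mul_assoc]⟩
  · rintro _ ⟨a, ha, rfl⟩
    exact mul_mem (mul_mem (inv_mem hk') (h0.le ha)) (inv_mem (inv_mem hk'))
  · rintro _ ⟨a, ha, rfl⟩ ha'
    rw [h0.inf a ha (by simpa [mul_assoc] using h.nrm k hk' _ ha'), map_one]
  · obtain ⟨a, ha, e⟩ := h0.dec _ (mul_mem (mul_mem hk' hg) (inv_mem hk'))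
    exact ⟨_, mem_map_of_mem _ ha, by simpa [mul_assoc] using h.nrm _ (inv_mem hk') _ e⟩
  · rw [card_map_of_injective (MulAut.conj k⁻¹).injective, h0.card]

theorem cp (fr : FrStmt.{u}) : CpStmt.{u} := by
  intro G _ _ H K h ho c hH hK hc
  obtain ⟨h1, h2, -⟩ := fr G H K h
  obtain ⟨A, hA, hcA⟩ := exists_cm h h1 hH hK
  have hn : A ≤ normalizer (K : Set G) := fun a ha => mem_Nm_of_finite (h.nrm a (hA.le ha))
  let _ := conjAction A K hn
  have s : Semireg A K := semireg_conjAction hn fun a ha h1 => eq_bot_iff.2 fun k hk =>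
    h.fpf a (hA.le ha) (fun e => h1 (hA.inf a ha e)) k hk.1 (mem_Ce.1 hk.2).symm
  have : Nontrivial K := (nontrivial_iff_ne_bot K).2 h.ne_bot
  have z := s.isZGroup_of_odd (by rw [hA.card]; exact ho.not_two_dvd_nat)
  have hc' : (orderOf (⟨c, hcA⟩ : A)).Prime := by rwa [orderOf_mk]
  have un : ∀ d ∈ A, d ^ orderOf c = 1 → d ∈ zpowers c := fun d hd e => by
    obtain ⟨i, hi⟩ := uniq s hc' (y := ⟨d, hd⟩) (Subtype.ext (by rwa [orderOf_mk]))
    exact ⟨i, congrArg Subtype.val hi⟩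
  have i1 : ∀ k ∈ Nm (zpowers c), k ∈ K → k = 1 := fun k hk hk' => by
    refine h.fpf c hH hK k hk' (commutatorElement_eq_one_iff_commute.1 (hA.inf _ ?_ ?_)).symm
    · exact zpowers_le.2 hcA (mul_mem (conj_mem_of_Nm hk (mem_zpowers c)) (inv_mem (mem_zpowers c)))
    · rw [commutatorElement_def, mul_assoc, mul_assoc, ← mul_assoc c]
      exact mul_mem hk' (h.nrm c hH _ (inv_mem hk'))
  have l : A ≤ Nm (zpowers c) := fun a ha => mem_Nm_of_finite fun x hx =>
    un _ (mul_mem (mul_mem ha (zpowers_le.2 hcA hx)) (inv_mem ha)) (by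
      obtain ⟨i, rfl⟩ := hx
      rw [conj_pow, ← zpow_natCast, ← zpow_mul, mul_comm i, zpow_mul, zpow_natCast,
        pow_orderOf_eq_one, one_zpow, mul_one, mul_inv_cancel])
  have e : Nm (zpowers c) ⊓ H = A := by
    refine le_antisymm (fun g hg => ?_) (le_inf l hA.le)
    obtain ⟨a, ha, e⟩ := hA.dec g hg.2
    rwa [mul_inv_eq_one.1 (i1 _ (mul_mem hg.1 (inv_mem (l ha))) e)]
  refine ⟨eq_bot_iff.2 fun k hk => i1 k hk.1.1 hk.2, e ▸ hA.card, e ▸ z, fun d hd ed => ?_,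
    e ▸ un, fun m g hg => cen hc hg.1 ?_⟩
  · obtain ⟨k, hk, e⟩ := hA.conj h hd fun hd' => hc.one_lt.ne' (Nat.eq_one_of_dvd_coprimes h1
      (ed ▸ (orderOf_mk d hd').symm ▸ orderOf_dvd_natCard (⟨d, hd'⟩ : K)) (h2 c hH hK))
    exact ⟨k, hk, un _ e (by rw [← ed, ← orderOf_conj' k d, pow_orderOf_eq_one])⟩
  · have d : orderOf g ∣ K.relIndex H := by
      rw [← hA.card, ← orderOf_mk g (e.le hg)]
      exact orderOf_dvd_natCard _
    refine Nat.coprime_of_dvd fun p hp p1 p2 => ?_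
    have := Nat.minFac_le_of_dvd hp.two_le (p1.trans d)
    have := Nat.le_of_dvd (by have := hc.two_le; omega) p2
    have := hc.two_le
    omega

end Cfsg.Agent.H67.Q4Cp
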