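import Cfsg.Agent.H6.TIDefs
import Cfsg.Agent.H92.LxK
import Cfsg.Agent.H69.Hd3
import Cfsg.Agent.H69.Out2
import Cfsg.Agent.H83.LxE2

/-! The extraspecial ending for weakly closed TI-subgroups. -/

set_option autoImplicit false
set_option maxRecDepth 100000
set_option exponentiation.threshold 30000

namespace Cfsg.Agent.H67.TiHe

open Cfsg Subgroup
open scoped Cfsg.Agent.H63 commutatorElement

universe u

section Model

open Cfsg.Agent.H11.Hd Cfsg.Agent.H89.TG Cfsg.Agent.H89.Rec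

/-- A pattern. -/
def pE' : PS := ⟨nat_lit 0x10fffff, [nat_lit 0x100000, nat_lit 0x200000, nat_lit 0x400000,
  nat_lit 0x800000], by decide +kernel⟩

theorem bad : ∀ k, k < 9 → rep k = 1 ∨ rep k = z ∨ rep k = x 0 3 ∨ rep k = x 1 4 ∨
    ∃ c : M, rep k * (c * rep k * c⁻¹) * (rep k * (c * rep k * c⁻¹)) ≠ 1 := by mdec [cd_rep]

theorem bad4 : ∃ c : M, x 0 3 * x 1 4 * (c * (x 0 3 * x 1 4) * c⁻¹) *
    (x 0 3 * x 1 4 * (c * (x 0 3 * x 1 4) * c⁻¹)) ≠ 1 := by md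

theorem cj1 : ∀ c : M, c⁻¹ * x 0 3 * c ∈ E := by md
theorem cj2 : ∀ c : M, c⁻¹ * x 1 4 * c ∈ pE'.sub := by md
theorem ex1 : (∃ c : M, c * x 0 3 * c⁻¹ = x 0 1) ∧ ∃ c : M, c * x 0 3 * c⁻¹ = x 0 2 := by md
theorem ex2 : (∃ c : M, c * x 1 4 * c⁻¹ = x 3 4) ∧ ∃ c : M, c * x 1 4 * c⁻¹ = x 2 4 := by md
theorem tv1 : ∀ u ∈ E, u ≠ x 1 3 ∧ (Commute (u * x 0 1) (x 1 3) ↔ ¬ Commute u (x 1 3)) ∧
    x 0 2 ≠ u * x 1 3 * u⁻¹ * (x 1 3)⁻¹ := by md
theorem tv2 : ∀ u ∈ pE'.sub, u ≠ x 1 3 ∧ (Commute (u * x 3 4) (x 1 3) ↔ ¬ Commute u (x 1 3)) ∧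
    x 2 4 ≠ u * x 1 3 * u⁻¹ * (x 1 3)⁻¹ := by md

theorem cls4 {A : Subgroup M} (hn : A.Normal) (sq : ∀ u ∈ A, u * u = 1) {u : M} (hu : u ∈ A) :
    u = 1 ∨ u = z ∨ (∃ c : M, c * u * c⁻¹ = x 0 3) ∨ ∃ c : M, c * u * c⁻¹ = x 1 4 := by
  obtain ⟨c, hc⟩ := exists_conj_T (sq u hu)
  have h1 := hn.conj_mem u hu c
  obtain ⟨h2, h3⟩ := (cls_spec _ hc).resolve_right fun a => a.2 (sq _ h1)
  obtain ⟨d, k, hk, e⟩ : ∃ d k, k < 9 ∧ d * u * d⁻¹ = rep k :=
    ⟨el (wit (cd (c * u * c⁻¹))) * c, _, Nat.lt_succ_of_le (Nat.le_of_ble_eq_true h2), by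
      rw [← h3, mul_inv_rev]; simp only [mul_assoc]⟩
  have h4 : rep k ∈ A := e ▸ hn.conj_mem u hu d
  rcases bad k hk with a | a | a | a | ⟨c, a⟩
  · exact .inl (conj_eq_one_iff.1 (e.trans a))
  · refine .inr (.inl ?_)
    rw [a, mul_inv_eq_iff_eq_mul, ← (zc d).eq] at e
    exact mul_left_cancel e
  · exact .inr (.inr (.inl ⟨d, e.trans a⟩))
  · exact .inr (.inr (.inr ⟨d, e.trans a⟩))
  · exact absurd (sq _ (mul_mem h4 (hn.conj_mem _ h4 c))) a

theorem key {A : Subgroup M} (hn : A.Normal) (sq : ∀ u ∈ A, u * u = 1) {v : M} (hv : v ∈ A)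
    (h1 : v ≠ 1) (h2 : v ≠ z) : ∃ a0 ∈ A, ∃ a ∈ A, x 1 3 * a ∈ T ∧ dB 430 (cd (x 1 3 * a)) = true ∧
      ∀ u ∈ A, u ≠ x 1 3 ∧ (Commute (u * a0) (x 1 3) ↔ ¬ Commute u (x 1 3)) ∧
        a ≠ u * x 1 3 * u⁻¹ * (x 1 3)⁻¹ := by
  have no : x 0 3 ∈ A → x 1 4 ∉ A := fun a b =>
    let ⟨c, e⟩ := bad4
    e (sq _ (mul_mem (mul_mem a b) (hn.conj_mem _ (mul_mem a b) c)))
  rcases cls4 hn sq hv with a | a | ⟨c, a⟩ | ⟨c, a⟩
  · exact absurd a h1
  · exact absurd a h2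
  · have h3 : x 0 3 ∈ A := a ▸ hn.conj_mem v hv c
    obtain ⟨⟨c1, e1⟩, c2, e2⟩ := ex1
    refine ⟨_, e1 ▸ hn.conj_mem _ h3 c1, _, e2 ▸ hn.conj_mem _ h3 c2, by md, by md,
      fun u hu => tv1 u ?_⟩
    rcases cls4 hn sq hu with rfl | rfl | ⟨d, b⟩ | ⟨d, b⟩
    · exact one_mem _
    · md
    · simpa [← b, mul_assoc] using cj1 d
    · exact absurd (b ▸ hn.conj_mem u hu d) (no h3)
  · have h3 : x 1 4 ∈ A := a ▸ hn.conj_mem v hv c
    obtain ⟨⟨c1, e1⟩, c2, e2⟩ := ex2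
    refine ⟨_, e1 ▸ hn.conj_mem _ h3 c1, _, e2 ▸ hn.conj_mem _ h3 c2, by md, by md,
      fun u hu => tv2 u ?_⟩
    rcases cls4 hn sq hu with rfl | rfl | ⟨d, b⟩ | ⟨d, b⟩
    · exact one_mem _
    · md
    · exact absurd h3 (no (b ▸ hn.conj_mem u hu d))
    · simpa [← b, mul_assoc] using cj2 d

variable {G : Type u} [Group G] [Finite G] {ι : M →* G}

theorem not430 (hP : Pat ι 430) {A : Subgroup G} {n : ℕ} (h : H6.TI.Xs (ι z) A n)
    (h0 : A ≠ zpowers (ι z)) : False := by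
  have e := hP.emb
  have hr : ∀ a ∈ A, ∃ u, ι u = a := fun a ha => e.cent a (H69.Hd3.comm_of_sq h.sq ha h.mem)
  have hN : ∀ c : M, ι c ∈ N[A] := fun c => h.nrm (mem_centralizer_singleton_iff.2 (e.commute c))
  have hn : (A.comap ι).Normal := ⟨fun u hu c => by
    rw [mem_comap, map_mul, map_mul, map_inv]
    exact (mem_normalizer_iff.1 (hN c) _).1 hu⟩
  obtain ⟨y, hy, hy'⟩ := SetLike.exists_of_lt (lt_of_le_of_ne (zpowers_le.2 h.mem) h0.symm)
  obtain ⟨v, rfl⟩ := hr y hy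
  obtain ⟨a0, ha0, a, ha, h1, h2, h3⟩ := key hn
    (fun u hu => e.inj (by rw [map_mul, map_one]; exact h.sq _ hu)) (v := v) hy
    (fun a => hy' (by rw [a, map_one]; exact one_mem _)) fun a => hy' (a ▸ mem_zpowers _)
  have cj : ∀ u ∈ T, dB 430 (cd u) = true → IsConj (ι z) (ι u) := fun u hu hd =>
    let ⟨g, hg⟩ := (hP.iff u hu).2 hd
    (isConj_iff.2 ⟨g, hg⟩).symm
  have cm : ∀ u : M, ι u ∈ C1[ι (x 1 3)] ↔ Commute u (x 1 3) := fun u => by
    rw [mem_centralizer_singleton_iff, ← map_mul, ← map_mul, e.inj.eq_iff, commute_iff_eq]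
  obtain ⟨a', ha', e'⟩ := h.hx (ι (x 1 3)) (hN _) (fun a => (h3 _ a).1 rfl)
    (cj _ (by md) (by md)) (index_eq_two_iff.2 ⟨⟨ι a0, ha0⟩, fun y => by
      obtain ⟨y, hy⟩ := y
      obtain ⟨u, rfl⟩ := hr y hy
      change Xor (ι u * ι a0 ∈ C1[ι (x 1 3)]) (ι u ∈ C1[ι (x 1 3)])
      rw [← map_mul, cm, cm, (h3 u hy).2.1]
      by_cases c : Commute u (x 1 3) <;> simp [Xor, c]⟩) (ι a) ha (map_mul ι _ _ ▸ cj _ h1 h2)
  obtain ⟨u, rfl⟩ := hr a' ha'
  exact (h3 u ha').2.2 (e.inj (by simpa only [map_mul, map_inv, commutatorElement_def] using e'))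

theorem lin5 (e : G ≃* SL5) : H6.TI.Lin G := by
  refine ⟨ZMod 2, inferInstance, inferInstance, 5, inferInstance, by norm_num, ⟨e.trans ?_⟩⟩
  have e : center SL5 = ⊥ := by
    refine eq_bot_iff.2 fun A hA => ?_
    obtain ⟨r, hr, hA⟩ := Matrix.SpecialLinearGroup.mem_center_iff.1 hA
    have : r = 1 := (by decide : ∀ r : ZMod 2, r ^ 5 = 1 → r = 1) r hr
    exact Subtype.ext (by rw [← hA, this, map_one]; rfl)
  exact ((QuotientGroup.quotientMulEquivOfEq e).trans QuotientGroup.quotientBot).symm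

theorem three [IsSimpleGroup G] {t : G} {A : Subgroup G} {n : ℕ} (hx : H6.TI.Xs t A n)
    (h0 : A ≠ zpowers t)
    (e : (centralizer {t} : Subgroup G) ≃* (centralizer {s0} : Subgroup SL5)) :
    H6.TI.Lin G ∨ Spor.IsoM24 G := by
  have ht := hx.ord
  obtain ⟨ι, h, rfl⟩ := exists_emb ht e
  obtain ⟨u, h1, hu⟩ := h.exists_inD (fun N hN ho => hN.eq_bot_or_eq_top.resolve_right fun a => by
    have := orderOf_dvd_natCard (ι z)
    rw [a, card_top] at ho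
    exact absurd (ht ▸ this) ho.not_two_dvd_nat) fun a => by
    have h2 : ι z ∈ center G := mem_center_iff.2 fun g => by
      obtain ⟨u, rfl⟩ := a.ge (mem_top g)
      exact h.commute u
    rcases (inferInstance : (center G).Normal).eq_bot_or_eq_top with b | b
    · exact h.z1 (h.inj ((b.le h2).trans (map_one ι).symm))
    · exact absurd (h.inj ((map_mul ι _ _).trans ((mem_center_iff.1
        (b.ge (mem_top (ι (x 1 2)))) (ι (x 0 1))).trans (map_mul ι _ _).symm))) (by md)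
  obtain ⟨π, hπ, hP⟩ := exists_pat h
  simp only [List.mem_cons, List.not_mem_nil, or_false] at hπ
  rcases hπ with rfl | rfl | rfl | rfl | rfl | rfl | rfl
  · exact absurd (not_two hP hu) h1
  · exact absurd ‹IsSimpleGroup G› (not_simple hP)
  · obtain ⟨ι', hP'⟩ := hP.swap (π' := 6) (by decide)
    exact absurd ‹IsSimpleGroup G› (not_simple hP')
  · exact .inl (lin5 (equiv5 hP).some)
  · exact .inr (equiv24 hP)
  · obtain ⟨ι', hP'⟩ := hP.swap (π' := 174) (by decide)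
    exact .inr (equiv24 hP')
  · exact (not430 hP hx h0).elim

end Model

theorem he : H6.TI.HEStmt.{u} := by
  intro G _ _ _ z A n h
  have hn := h.three
  have hz1 : z ≠ 1 := (H49.orderOf_two_iff.1 h.ord).1
  obtain ⟨hl, hO⟩ := H49.LX.of_fstar hz1 rfl
    ((H49.isExtraspecial_map_iff (Subgroup.subtype_injective _)).2 h.ext)
  have hc : Nat.card (H49.O2C z) = 2 ^ (2 * n + 1) := by
    rw [← h.card, H49.O2C, ← hO, Subgroup.card_map_of_injective (Subgroup.subtype_injective _)]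
  have hl' : H49.LX (H49.O2C z) z := by rw [H49.O2C, ← hO]; exact hl
  have big : 128 ≤ Nat.card (H49.O2C z) := by
    rw [hc]
    exact le_trans (by norm_num) (Nat.pow_le_pow_right (by norm_num) (show 7 ≤ 2 * n + 1 by omega))
  have h0 : A ≠ zpowers z := fun e => by
    have := h.cardA
    rw [e, Nat.card_zpowers, h.ord] at this
    have := Nat.pow_right_injective le_rfl ((pow_one 2).trans this)
    omega
  rcases H92.Lx.reduce hl' hn hc (fun Y a b c => H69.Out.c1_exists big a b c)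
    (fun hw d W hW => H69.Out.wc_irr big hw d hW) (A := A) h.mem
    (fun a ha => by
      rw [H49.O2C, ← hO]
      exact ⟨⟨a, mem_centralizer_singleton_iff.2 (H69.Hd3.comm_of_sq h.sq ha h.mem)⟩, h.le ha, rfl⟩)
    (fun c hc => fun a ha =>
      (mem_normalizer_iff.1 (h.nrm (mem_centralizer_singleton_iff.2 hc)) a).1 ha) h0
    (fun e => by
      have := Nat.pow_right_injective le_rfl (h.cardA.symm.trans (e ▸ hc))
      omega) with ⟨rfl, Y, Y', k⟩ | ⟨Y, Y', k⟩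
  · exact three h h0 (H69.Hd3.held k H11.Hd.s0 rfl).some
  · obtain ⟨F, _, _, hF, e⟩ := H83.LxE.psl k
    refine .inl ⟨F, inferInstance, inferInstance, n + 2, ?_, by omega, e⟩
    exact (CharP.charP_iff_prime_eq_zero Nat.prime_two).2 (hF ▸ FiniteField.cast_card_eq_zero F)

end Cfsg.Agent.H67.TiHe
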