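import Cfsg.Agent.H6.TIDefs
import Cfsg.Agent.H52.Fitting
import Cfsg.Agent.S5044

/-! Weakly closed TI-subgroups without edges. -/

set_option autoImplicit false

namespace Cfsg.Agent.H67.TiNoe

open Cfsg Subgroup Cfsg.Agent.H6.TI
open Cfsg.Agent.H83 (cj)
open scoped Cfsg.Agent.H63

universe u

variable {G : Type u} [Group G] {Ω : Set (Subgroup G)}

/-- a reflection of a dihedral group is conjugate to one of the generators -/
theorem refl_conj {a b : G} (ha : a * a = 1) (hb : b * b = 1) (m : ℕ) :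
    ∃ g, a * (a * b) ^ m = g * a * g⁻¹ ∨ a * (a * b) ^ m = g * b * g⁻¹ := by
  have h1 : SemiconjBy a (a * b) (a * b)⁻¹ := by
    rw [SemiconjBy, mul_inv_rev, inv_eq_of_mul_eq_one_right ha, inv_eq_of_mul_eq_one_right hb,
      ← mul_assoc, ha, one_mul, mul_assoc, ha, mul_one]
  have h2 : SemiconjBy b (a * b) (a * b)⁻¹ := by
    rw [SemiconjBy, mul_inv_rev, inv_eq_of_mul_eq_one_right ha, inv_eq_of_mul_eq_one_right hb,
      mul_assoc]
  obtain ⟨k, rfl | rfl⟩ := Nat.even_or_odd' m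
  · refine ⟨((a * b) ^ k)⁻¹, .inl ?_⟩
    rw [two_mul, pow_add, ← mul_assoc, (h1.pow_right k).eq, inv_inv, inv_pow]
  · refine ⟨((a * b) ^ k)⁻¹, .inr ?_⟩
    rw [pow_succ', ← mul_assoc, ← mul_assoc, ha, one_mul, two_mul, pow_add, ← mul_assoc,
      (h2.pow_right k).eq, inv_inv, inv_pow]

theorem inD_conj (h : TI Ω) {d : G} (hd : InD Ω d) (g : G) : InD Ω (g * d * g⁻¹) :=
  let ⟨h1, P, hP, hd⟩ := hd
  ⟨fun e => h1 (conj_eq_one_iff.1 e), _, h.conj P hP g, H83.conj_mem_cj hd⟩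

theorem same (ba : BA Ω) (ne : ¬ HasEd Ω) {P R : Subgroup G} (hP : P ∈ Ω) (hR : R ∈ Ω) {a c : G}
    (ha : a ∈ P) (hc : c ∈ R) (a1 : a ≠ 1) (c1 : c ≠ 1) (e : a * c = c * a) : P = R := by
  by_contra hn
  exact ne ⟨P, R, hP, hR, hn, fun h =>
    a1 (mem_bot.1 (h ▸ mem_ax.2 ⟨ha, ba.cent R hR c hc c1 a e⟩))⟩

theorem mem_of (h : TI Ω) (ba : BA Ω) (ne : ¬ HasEd Ω) {P Q : Subgroup G} (hP : P ∈ Ω)
    (hQ : Q ∈ Ω) {a b : G} (ha : a ∈ P) (hb : b ∈ Q) (a1 : a ≠ 1) (b1 : b ≠ 1) (m : ℕ)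
    (e : a * (a * b) ^ m = (a * b) ^ m * a) : (a * b) ^ m ∈ P := by
  have h1 : InD Ω (a * (a * b) ^ m) := by
    obtain ⟨g, e | e⟩ := refl_conj (h.sq P hP a ha) (h.sq Q hQ b hb) m
    · exact e ▸ inD_conj h ⟨a1, P, hP, ha⟩ g
    · exact e ▸ inD_conj h ⟨b1, Q, hQ, hb⟩ g
  obtain ⟨h2, R, hR, h3⟩ := h1
  obtain rfl := same ba ne hP hR ha h3 a1 h2 (by rw [mul_assoc, ← e])
  exact (mul_mem_cancel_left ha).1 h3

theorem odd_mul [Finite G] (h : TI Ω) (ba : BA Ω) (ne : ¬ HasEd Ω) {P Q : Subgroup G} (hP : P ∈ Ω)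
    (hQ : Q ∈ Ω) (hn : P ≠ Q) {a b : G} (ha : a ∈ P) (hb : b ∈ Q) (a1 : a ≠ 1) (b1 : b ≠ 1) :
    Odd (orderOf (a * b)) := by
  refine Nat.not_even_iff_odd.1 ?_
  rintro ⟨m, hm⟩
  have a2 := h.sq P hP a ha
  have b2 := h.sq Q hQ b hb
  have h0 := orderOf_pos (a * b)
  have h1 : (a * b) ^ m ≠ 1 := pow_ne_one_of_lt_orderOf (by omega) (by omega)
  have h2 : ((a * b) ^ m)⁻¹ = (a * b) ^ m :=
    inv_eq_of_mul_eq_one_right (by rw [← pow_add, ← hm, pow_orderOf_eq_one])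
  have h3 : (a * b)⁻¹ = b * a := by
    rw [mul_inv_rev, inv_eq_of_mul_eq_one_right a2, inv_eq_of_mul_eq_one_right b2]
  have h4 : (b * a) ^ m = (a * b) ^ m := by rw [← h3, inv_pow, h2]
  have h5 : SemiconjBy a (b * a) (a * b) := (mul_assoc a b a).symm
  have h6 : SemiconjBy b (a * b) (b * a) := (mul_assoc b a b).symm
  have h7 := mem_of h ba ne hP hQ ha hb a1 b1 m (by simpa only [h4] using (h5.pow_right m).eq)
  have h8 := mem_of h ba ne hQ hP hb ha b1 a1 m (by simpa only [h4] using (h6.pow_right m).eq)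
  exact hn (ba.eq P hP Q hQ _ h7 (h4 ▸ h8) h1)

theorem exists_two {P : Subgroup G} (h : 4 ≤ Nat.card P) :
    ∃ a ∈ P, ∃ b ∈ P, a ≠ 1 ∧ b ≠ 1 ∧ a ≠ b := by
  have : Finite P := Nat.finite_of_card_ne_zero (by omega)
  let _ := Fintype.ofFinite P
  classical
  rw [Nat.card_eq_fintype_card] at h
  obtain ⟨a, ha, b, hb, e⟩ := Finset.one_lt_card.1
    (show 1 < (Finset.univ.erase (1 : P)).card by
      rw [Finset.card_erase_of_mem (Finset.mem_univ _), Finset.card_univ]; omega)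
  exact ⟨a, a.2, b, b.2, fun e => Finset.ne_of_mem_erase ha (Subtype.ext e),
    fun e => Finset.ne_of_mem_erase hb (Subtype.ext e), fun e' => e (Subtype.ext e')⟩

theorem noe : NOEStmt.{u} := by
  intro G _ _ Ω K h ba hf ne
  have hD : IsRootInvolutionSet {d | InD Ω d} := by
    refine ⟨fun d ⟨h1, P, hP, hd⟩ => ?_, eq_top_iff.2 (h.gen ▸ sSup_le fun P hP a ha => ?_),
      fun d hd g => inD_conj h.toTI hd g, ?_⟩
    · have : Fact (Nat.Prime 2) := ⟨Nat.prime_two⟩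
      exact orderOf_eq_prime (by rw [sq, h.sq P hP d hd]) h1
    · by_cases h1 : a = 1
      · exact h1 ▸ one_mem _
      · exact subset_closure ⟨h1, P, hP, ha⟩
    · rintro a ⟨a1, P, hP, ha⟩ b ⟨b1, Q, hQ, hb⟩
      by_cases hn : P = Q
      · exact .inl (ba.mul_comm P hP a ha b (hn ▸ hb))
      · exact .inr (.inl (odd_mul h.toTI ba ne hP hQ hn ha hb a1 b1))
  obtain ⟨P, hP, Q, hQ, hn⟩ := hf.nontriv
  obtain ⟨a, ha, b, hb, a1, b1, hab⟩ := exists_two (h.four P hP)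
  obtain ⟨c, hc, -, -, c1, -⟩ := exists_two (h.four Q hQ)
  have ab1 : a * b ≠ 1 := fun e => hab (mul_left_cancel ((h.sq P hP a ha).trans e.symm))
  have hDD : ({d | InD Ω d} ∩ commutingProducts {d | InD Ω d}).Nonempty :=
    ⟨a * b, ⟨ab1, P, hP, mul_mem ha hb⟩, a, ⟨a1, P, hP, ha⟩, b, ⟨b1, P, hP, hb⟩,
      ba.mul_comm P hP a ha b hb, ab1, rfl⟩
  have hc' : ¬ IsConnectedSet (CommAdj {d | InD Ω d}) {d | InD Ω d} := fun hc' => by
    have key : ∀ x, Relation.ReflTransGen (CommAdj {d | InD Ω d}) a x → x ∈ P := fun x hx => by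
      induction hx with
      | refl => exact ha
      | tail _ e ih =>
        obtain ⟨⟨y1, -⟩, ⟨x1, R, hR, hx⟩, -, e⟩ := e
        exact same ba ne hP hR ih hx y1 x1 e ▸ hx
    exact hn (ba.eq P hP Q hQ c (key c (hc' a ⟨a1, P, hP, ha⟩ c ⟨c1, Q, hQ, hc⟩)) hc c1)
  have h2 : pCore 2 G = ⊥ := hf.two _ inferInstance H52.pCore_isPGroup
  have hz : twoZCore G = ⊥ := h.ab _ inferInstance fun x hx y _ => by
    have h3 := mem_center_iff.1 (show (x : G ⧸ pCore 2 G) ∈ center _ from hx) (y : G ⧸ pCore 2 G)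
    rw [← QuotientGroup.mk_mul, ← QuotientGroup.mk_mul, QuotientGroup.eq, h2, mem_bot,
      inv_mul_eq_one] at h3
    exact h3.symm
  let e : G ≃* G ⧸ twoZCore G :=
    QuotientGroup.quotientBot.symm.trans (QuotientGroup.quotientMulEquivOfEq hz.symm)
  obtain ⟨x, hx, y, hy, hxy⟩ := H36.exists_not_comm_of_not_connected hc'
  have := (H36.dc_setup hD (H36.hasProd_of hDD) hc' hx hy hxy).1
  refine ⟨e.isSimpleGroup, ?_⟩
  rcases S5044.result hD hDD with k | ⟨F, _, _, k1, k2, ⟨k⟩⟩ | ⟨F, _, _, m, k1, k2, ⟨k⟩⟩ |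
    ⟨F, _, _, q, k1, k2, k3, ⟨k⟩⟩
  · exact absurd k hc'
  · exact .inl ⟨F, _, _, k1, k2, ⟨e.trans k⟩⟩
  · exact .inr (.inl ⟨F, _, _, m, k1, k2, ⟨e.trans k⟩⟩)
  · exact .inr (.inr ⟨F, _, _, q, k1, k2, k3, ⟨e.trans k⟩⟩)

end Cfsg.Agent.H67.TiNoe
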