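import Cfsg.Agent.H67.T3H
import Cfsg.Agent.S3376

/-! The 3-local characterisation of McL: a group with a monomial `3³`. -/

set_option autoImplicit false
set_option linter.unusedVariables false

namespace Cfsg.Agent.H67.T3

open Subgroup Equiv Cfsg Cfsg.Agent.H63 Cfsg.Agent.H67

universe u

/-- The statement of row 3343. -/
def S3343Stmt : Prop := ∀ {G : Type u} [Group G] [Finite G]
    (x : G) (hx : orderOf x = 3)
    (eC : Subgroup.centralizer ({x} : Set G) ≃*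
      Subgroup.centralizer ({Equiv.swap (0 : Fin 9) 1 * Equiv.swap 1 2 * Equiv.swap 3 4 * Equiv.swap 4 5 * Equiv.swap 6 7 * Equiv.swap 7 8} : Set (Equiv.Perm (Fin 9))))
    (J : Subgroup G) (hJC : J ≤ Subgroup.centralizer ({x} : Set G)) (hJcomm : IsMulCommutative J)
    (hJexp : ∀ j ∈ J, j ^ 3 = 1) (hJcard : Nat.card J = 27)
    (hJsig : ∀ K : Subgroup G, (Nat.card K).Coprime 3 → (∀ j ∈ J, K.map (MulAut.conj j).toMonoidHom = K) → K = ⊥),
    J.Normal ∨ Nonempty (G ≃* Equiv.Perm (Fin 9))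

/-- Vectors of length three. -/
abbrev V3 : Type := ZMod 3 × ZMod 3 × ZMod 3

variable {X : Type u} [Group X]

/-- The element with coordinates `p`. -/
def E3 (u v w : X) (p : V3) : X := u ^ p.1.val * E v w p.2

/-- `u, v, w` is a basis of the elementary abelian group `A` of order 27. -/
structure Bas3 (A : Subgroup X) (u v w : X) : Prop where
  cu : u ^ 3 = 1
  cv : v ^ 3 = 1
  cw : w ^ 3 = 1
  uv : u * v = v * u
  uw : u * w = w * u
  vw : v * w = w * v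
  inj : ∀ p, E3 u v w p = 1 → p = 0
  mem : ∀ g, g ∈ A ↔ ∃ p, E3 u v w p = g

theorem E3_add {u v w : X} (cu : u ^ 3 = 1) (cv : v ^ 3 = 1) (cw : w ^ 3 = 1) (uv : u * v = v * u)
    (uw : u * w = w * u) (vw : v * w = w * v) (p q : V3) :
    E3 u v w (p + q) = E3 u v w p * E3 u v w q := by
  have hc : Commute (u ^ q.1.val) (E v w p.2) :=
    ((Commute.pow_right uv _).mul_right (Commute.pow_right uw _)).pow_left _
  simp only [E3, Prod.fst_add, Prod.snd_add, pow_val_add cu, E_add cv cw vw]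
  rw [mul_assoc, mul_assoc, ← mul_assoc (u ^ q.1.val), hc.eq, mul_assoc]

theorem E3_zero (u v w : X) : E3 u v w 0 = 1 := by simp [E3]

theorem E3_conj (g u v w : X) (p : V3) :
    g * E3 u v w p * g⁻¹ = E3 (g * u * g⁻¹) (g * v * g⁻¹) (g * w * g⁻¹) p := by
  simp only [E3, E, conj_pow]; group

theorem inv_pow_val {u : X} (h : u ^ 3 = 1) (i : ZMod 3) : u⁻¹ ^ i.val = u ^ (-i).val := by
  rw [inv_pow]
  exact inv_eq_of_mul_eq_one_right (by rw [← pow_val_add h, add_neg_cancel]; simp)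

section bas
variable {A : Subgroup X} {u v w g g' : X}

theorem Bas3.add (h : Bas3 A u v w) (p q : V3) : E3 u v w (p + q) = E3 u v w p * E3 u v w q :=
  E3_add h.cu h.cv h.cw h.uv h.uw h.vw p q

theorem Bas3.neg (h : Bas3 A u v w) (p : V3) : E3 u v w (-p) = (E3 u v w p)⁻¹ :=
  eq_inv_of_mul_eq_one_left (by rw [← h.add, neg_add_cancel, E3_zero])

theorem Bas3.injE (h : Bas3 A u v w) {p q : V3} (e : E3 u v w p = E3 u v w q) : p = q :=
  sub_eq_zero.1 (h.inj _ (by rw [sub_eq_add_neg, h.add, h.neg, e, mul_inv_cancel]))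

theorem Bas3.memE (h : Bas3 A u v w) (p : V3) : E3 u v w p ∈ A := (h.mem _).2 ⟨p, rfl⟩

theorem Bas3.cube (h : Bas3 A u v w) (hg : g ∈ A) : g ^ 3 = 1 := by
  obtain ⟨p, rfl⟩ := (h.mem g).1 hg
  have : ∀ p : V3, p + p + p = 0 := by decide
  rw [pow_succ, sq, ← h.add, ← h.add, this, E3_zero]

theorem Bas3.commute (h : Bas3 A u v w) (hg : g ∈ A) (hg' : g' ∈ A) : g * g' = g' * g := by
  obtain ⟨p, rfl⟩ := (h.mem g).1 hg
  obtain ⟨q, rfl⟩ := (h.mem g').1 hg'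
  rw [← h.add, ← h.add, add_comm]

theorem Bas3.le_cent (h : Bas3 A u v w) : A ≤ C[A] := fun _ ha _ hb => h.commute hb ha

theorem Bas3.card (h : Bas3 A u v w) : Nat.card A = 27 := by
  rw [← Nat.card_congr (Equiv.ofBijective (fun p : V3 => (⟨E3 u v w p, h.memE p⟩ : A))
    ⟨fun p q e => h.injE (congrArg Subtype.val e), fun g => by
      obtain ⟨p, hp⟩ := (h.mem g).1 g.2
      exact ⟨p, Subtype.ext hp⟩⟩)]
  simp

theorem exists_bas3 (cu : u ^ 3 = 1) (cv : v ^ 3 = 1) (cw : w ^ 3 = 1) (uv : u * v = v * u)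
    (uw : u * w = w * u) (vw : v * w = w * v) (inj : ∀ p, E3 u v w p = 1 → p = 0) :
    ∃ A, Bas3 A u v w :=
  ⟨⟨⟨⟨{g | ∃ p, E3 u v w p = g}, by
    rintro _ _ ⟨p, rfl⟩ ⟨q, rfl⟩
    exact ⟨p + q, E3_add cu cv cw uv uw vw p q⟩⟩, 0, E3_zero u v w⟩, by
    rintro _ ⟨p, rfl⟩
    exact ⟨-p, eq_inv_of_mul_eq_one_left
      (by rw [← E3_add cu cv cw uv uw vw, neg_add_cancel, E3_zero])⟩⟩,
    cu, cv, cw, uv, uw, vw, inj, fun _ => Iff.rfl⟩

end bas

/-- A word in the three coordinate operations. -/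
def wd (i : Fin 3) (b c : Bool) (p : V3) : V3 :=
  (fun p : V3 => if c then (-p.1, p.2.1, -p.2.2) else p)
    ((fun p : V3 => if b then (p.1, -p.2.1, -p.2.2) else p)
      ((fun p : V3 => (p.2.2, p.1, p.2.1))^[i.val] p))

/-- Vectors with exactly two nonzero coordinates. -/
def Edge (p : V3) : Prop := p ≠ 0 ∧ (p.1 = 0 ∧ p.2.1 ≠ 0 ∧ p.2.2 ≠ 0 ∨
  p.1 ≠ 0 ∧ p.2.1 = 0 ∧ p.2.2 ≠ 0 ∨ p.1 ≠ 0 ∧ p.2.1 ≠ 0 ∧ p.2.2 = 0)

instance : DecidablePred Edge := fun _ => inferInstanceAs (Decidable (_ ∧ _))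

theorem wd_good : ∀ p : V3, p ≠ 0 → ¬ Edge p → ∃ i b c, p = wd i b c (1, 0, 0) ∨
    p = wd i b c (1, 1, 1) ∨ -p = wd i b c (1, 1, 1) := by decide +kernel

theorem wd_edge : ∀ p : V3, Edge p → ∀ q : V3, Edge q → ∃ i b c, q = wd i b c p := by
  decide +kernel

theorem two_edge : ∀ p q : V3, p ≠ 0 → q ≠ 0 → q ≠ p → q ≠ -p → (¬ Edge p ∨ ¬ Edge q) ∨
    (p + q ≠ 0 ∧ ¬ Edge (p + q)) ∨ (p + -q ≠ 0 ∧ ¬ Edge (p + -q)) := by decide +kernel

/-- The three standard 3-cycles. -/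
def c9 (i : Fin 3) : Perm (Fin 9) :=
  if i = 0 then swap 0 1 * swap 1 2 else if i = 1 then swap 3 4 * swap 4 5 else swap 6 7 * swap 7 8

theorem c9_supp : ∀ p : V3, (E3 (c9 0) (c9 1) (c9 2) p).support.card = 3 → p ≠ 0 ∧ ¬ Edge p ∧
    (p.1 = 0 ∨ p.2.1 = 0 ∨ p.2.2 = 0) := by decide +kernel

theorem c9_key : ∀ p q : V3, (p ≠ 0 ∧ ¬ Edge p ∧ (p.1 = 0 ∨ p.2.1 = 0 ∨ p.2.2 = 0)) →
    (q ≠ 0 ∧ ¬ Edge q ∧ (q.1 = 0 ∨ q.2.1 = 0 ∨ q.2.2 = 0)) →
    (p + q ≠ 0 ∧ ¬ Edge (p + q) ∧ ((p + q).1 = 0 ∨ (p + q).2.1 = 0 ∨ (p + q).2.2 = 0)) →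
    p = q := by decide +kernel

/-- A monomial `3³` inside `X`. -/
structure X9 (J S : Subgroup X) (e1 e2 e3 s T A : X) : Prop where
  bas : Bas3 J e1 e2 e3
  s1 : s * e1 * s⁻¹ = e2
  s2 : s * e2 * s⁻¹ = e3
  s3 : s * e3 * s⁻¹ = e1
  T1 : T * e1 * T⁻¹ = e1
  T2 : T * e2 * T⁻¹ = e2⁻¹
  T3 : T * e3 * T⁻¹ = e3⁻¹
  A1 : A * e1 * A⁻¹ = e1⁻¹
  A2 : A * e2 * A⁻¹ = e2
  A3 : A * e3 * A⁻¹ = e3⁻¹
  g1 : C1[e1] ≤ N[J]
  g2 : C1[e1 * (e2 * e3)] ≤ N[J]
  cent : C[J] ≤ S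
  cC : Nat.card C1[e1 * (e2 * e3)] = 162
  cS : Nat.card S = 81
  syl : IsSyl 3 S ⊤
  JS : J ≤ S
  sS : s ∈ S
  SC : S ≤ C1[e1 * (e2 * e3)]

namespace X9

variable [Finite X] {J S : Subgroup X} {e1 e2 e3 s T A : X} (h : X9 J S e1 e2 e3 s T A)
include h

omit [Finite X] in
theorem rot (p : V3) : s * E3 e1 e2 e3 p * s⁻¹ = E3 e1 e2 e3 (p.2.2, p.1, p.2.1) := by
  have c : Commute (e1 ^ p.2.2.val) (e2 ^ p.1.val * e3 ^ p.2.1.val) :=
    ((Commute.pow_right h.bas.uv _).mul_right (Commute.pow_right h.bas.uw _)).pow_left _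
  rw [E3_conj, h.s1, h.s2, h.s3]
  simp only [E3, E]
  rw [c.eq, mul_assoc]

theorem word (i : Fin 3) (b c : Bool) :
    ∃ g ∈ N[J], ∀ p, g * E3 e1 e2 e3 p * g⁻¹ = E3 e1 e2 e3 (wd i b c p) := by
  have key : ∀ g (φ : V3 → V3), (∀ p, g * E3 e1 e2 e3 p * g⁻¹ = E3 e1 e2 e3 (φ p)) →
      ∃ g ∈ N[J], ∀ p, g * E3 e1 e2 e3 p * g⁻¹ = E3 e1 e2 e3 (φ p) := fun g φ H =>
    ⟨g, mem_normalizer_of_cj_le (cj_le_iff.2 fun y hy => by
      obtain ⟨p, rfl⟩ := (h.bas.mem y).1 hy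
      rw [H]; exact h.bas.memE _), H⟩
  have a1 : ∀ k : ℕ, ∀ p, s ^ k * E3 e1 e2 e3 p * (s ^ k)⁻¹ =
      E3 e1 e2 e3 ((fun p : V3 => (p.2.2, p.1, p.2.1))^[k] p) := fun k => by
    induction k with
    | zero => simp
    | succ k ih =>
      intro p
      rw [Function.iterate_succ_apply', ← h.rot, ← ih, pow_succ']; group
  have a2 : ∀ p, (if b then T else 1) * E3 e1 e2 e3 p * (if b then T else 1)⁻¹ =
      E3 e1 e2 e3 (if b then (p.1, -p.2.1, -p.2.2) else p) := fun p => by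
    cases b
    · simp
    · simp only [if_true, E3_conj, h.T1, h.T2, h.T3]
      simp only [E3, E, inv_pow_val h.bas.cv, inv_pow_val h.bas.cw]
  have a3 : ∀ p, (if c then A else 1) * E3 e1 e2 e3 p * (if c then A else 1)⁻¹ =
      E3 e1 e2 e3 (if c then (-p.1, p.2.1, -p.2.2) else p) := fun p => by
    cases c
    · simp
    · simp only [if_true, E3_conj, h.A1, h.A2, h.A3]
      simp only [E3, E, inv_pow_val h.bas.cu, inv_pow_val h.bas.cw]
  refine key ((if c then A else 1) * ((if b then T else 1) * s ^ i.val)) _ fun p => ?_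
  rw [wd, ← a3, ← a2, ← a1]; group

omit h [Finite X] in
theorem E100 : E3 e1 e2 e3 (1, 0, 0) = e1 := by simp [E3, E, ZMod.val_one]

omit h [Finite X] in
theorem E111 : E3 e1 e2 e3 (1, 1, 1) = e1 * (e2 * e3) := by simp [E3, E, ZMod.val_one]

theorem good {p : V3} (h1 : p ≠ 0) (h2 : ¬ Edge p) : C1[E3 e1 e2 e3 p] ≤ N[J] := by
  obtain ⟨i, b, c, e⟩ := wd_good p h1 h2
  obtain ⟨g, hg, H⟩ := h.word i b c
  have key : ∀ q, C1[E3 e1 e2 e3 q] ≤ N[J] → C1[E3 e1 e2 e3 (wd i b c q)] ≤ N[J] := fun q hq => by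
    rw [← H, ← cj_centralizer_singleton]
    exact cj_le_of_mem hg hq
  rcases e with e | e | e
  · exact e ▸ key _ (by rw [E100]; exact h.g1)
  · exact e ▸ key _ (by rw [E111]; exact h.g2)
  · have := key _ (by rw [E111]; exact h.g2 : C1[E3 e1 e2 e3 (1, 1, 1)] ≤ _)
    rwa [← e, h.bas.neg, ← centralizer_zpowers, zpowers_inv, centralizer_zpowers] at this

theorem z1 : e1 * (e2 * e3) ≠ 1 := fun e =>
  absurd (h.bas.inj (1, 1, 1) (E111.trans e)) (by decide)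

theorem zJ : e1 * (e2 * e3) ∈ J := E111 (e1 := e1) ▸ h.bas.memE _

theorem sup_eq {B : Subgroup X} (h1 : B ≤ S) (h2 : ¬ B ≤ J) : J ⊔ B = S := by
  have a1 := card_lt_of_lt (lt_of_le_of_ne le_sup_left fun e => h2 (le_sup_right.trans e.ge) :
    J < J ⊔ B)
  have a2 := card_dvd_of_le' (sup_le h.JS h1)
  refine eq_of_le_of_card_ge (sup_le h.JS h1) ?_
  rw [h.cS] at a2 ⊢
  rw [h.bas.card] at a1
  obtain ⟨j, hj, e⟩ := (Nat.dvd_prime_pow Nat.prime_three (m := 4)).1 a2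
  rw [e] at a1 ⊢
  interval_cases j <;> simp_all

theorem ZS : Z[S] = zpowers (e1 * (e2 * e3)) := by
  refine le_antisymm (fun c hc => ?_) (zpowers_le.2 ⟨h.JS h.zJ, mem_centralizer_iff_le.2 h.SC⟩)
  have fx : ∀ p, s * E3 e1 e2 e3 p = E3 e1 e2 e3 p * s → (p.2.2, p.1, p.2.1) = p := fun p e =>
    h.bas.injE (by rw [← h.rot, e, mul_inv_cancel_right])
  have cJ : c ∈ J := by
    by_contra hn
    have := h.sup_eq (zpowers_le.2 hc.1) (by rwa [zpowers_le])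
    have h1 : S ≤ C[J] := this ▸ sup_le h.bas.le_cent (zpowers_le.2 (centralizer_anti h.JS hc.2))
    exact absurd (fx (1, 0, 0) (h1 h.sS _ (h.bas.memE _)).symm) (by decide)
  obtain ⟨p, rfl⟩ := (h.bas.mem c).1 cJ
  rcases (by decide : ∀ p : V3, (p.2.2, p.1, p.2.1) = p → p = 0 ∨ p = (1, 1, 1) ∨ p = -(1, 1, 1)) p
    (fx p (hc.2 s h.sS)) with rfl | rfl | rfl
  · rw [E3_zero]; exact one_mem _
  · rw [E111]; exact mem_zpowers _
  · rw [h.bas.neg, E111]; exact inv_mem (mem_zpowers _)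

theorem cZ : Nat.card (zpowers (e1 * (e2 * e3))) = 3 := by
  rw [Nat.card_zpowers, orderOf_eq_prime (h.bas.cube h.zJ) h.z1]

theorem uniq {B : Subgroup X} (h1 : B ≤ S) (h2 : B ≤ C[B]) (h3 : Nat.card B = 27) : B = J := by
  refine eq_of_le_of_card_ge ?_ (by rw [h3, h.bas.card])
  by_contra hn
  have a1 := card_sup_mul_card_inf (h1.trans (h.SC.trans h.g2))
  have a2 : B ⊓ J ≤ zpowers (e1 * (e2 * e3)) := by
    rw [← h.ZS]
    refine le_inf (inf_le_left.trans h1) ?_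
    rw [← h.sup_eq h1 hn, centralizer_sup]
    exact le_inf (inf_le_right.trans h.bas.le_cent) (inf_le_left.trans h2)
  have a3 := card_le_of_le a2
  rw [sup_comm, h.sup_eq h1 hn, h.cS, h3, h.bas.card] at a1
  rw [h.cZ] at a3
  omega

theorem sig {K : Subgroup X} (h1 : (Nat.card K).Coprime 3) (h2 : J ≤ N[K]) : K = ⊥ := by
  have : IsMulCommutative J := ⟨⟨fun g g' => Subtype.ext (h.bas.commute g.2 g'.2)⟩⟩
  have tr : ∀ P : Subgroup X, IsPGroup 3 P → K ⊓ P = ⊥ := fun P hP => by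
    obtain ⟨k, hk⟩ := IsPGroup.iff_card.1 hP
    exact (Subgroup.disjoint_of_coprime_natCard (hk ▸ h1.pow_right k)).eq_bot
  refine eq_bot_iff.2 (H4.le_of_centralizer_cocyclic_le h2
    (by rw [h.bas.card]; exact (h1.symm.pow_left 3 :)) fun B hB ⟨a, ha, e⟩ => ?_)
  have c9 : 9 ≤ Nat.card B := by
    have a1 := card_sup_mul_card_inf (hB.trans (le_normalizer_of_le_centralizer
      (h.bas.le_cent.trans (centralizer_anti (zpowers_le.2 ha)))))
    have a2 : Nat.card (zpowers a) ≤ 3 := by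
      rw [Nat.card_zpowers]
      exact Nat.le_of_dvd (by norm_num) (orderOf_dvd_of_pow_eq_one (h.bas.cube ha))
    have a3 : 0 < Nat.card ↥(B ⊓ zpowers a) := Nat.card_pos
    rw [e, h.bas.card] at a1
    nlinarith
  obtain ⟨v, hv, v1⟩ := exists_ne_one_of_ne_bot (H := B) (by rintro rfl; simp at c9)
  obtain ⟨w, hw, hw'⟩ : ∃ w ∈ B, w ∉ zpowers v := by
    refine SetLike.not_le_iff_exists.1 fun e => ?_
    have := card_le_of_le e
    rw [Nat.card_zpowers, orderOf_eq_prime (h.bas.cube (hB hv)) v1] at this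
    omega
  obtain ⟨p, rfl⟩ := (h.bas.mem v).1 (hB hv)
  obtain ⟨q, rfl⟩ := (h.bas.mem w).1 (hB hw)
  have p0 : p ≠ 0 := by rintro rfl; exact v1 (E3_zero _ _ _)
  have q0 : q ≠ 0 := by rintro rfl; exact hw' (E3_zero e1 e2 e3 ▸ one_mem _)
  obtain ⟨v, hv, hC⟩ : ∃ v ∈ B, C1[v] ≤ N[J] := by
    rcases two_edge p q p0 q0 (by rintro rfl; exact hw' (mem_zpowers _))
      (by rintro rfl; exact hw' (h.bas.neg p ▸ inv_mem (mem_zpowers _))) with (e | e) | e | e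
    · exact ⟨_, hv, h.good p0 e⟩
    · exact ⟨_, hw, h.good q0 e⟩
    · exact ⟨_, h.bas.add p q ▸ mul_mem hv hw, h.good e.1 e.2⟩
    · exact ⟨_, by rw [h.bas.add, h.bas.neg]; exact mul_mem hv (inv_mem hw), h.good e.1 e.2⟩
  intro k hk
  refine (tr S (syl_isPGroup h.syl)).le ⟨hk.1, h.cent (mem_centralizer_iff.2 fun j hj => ?_)⟩
  have a1 := hC (centralizer_le_centralizer_singleton hv hk.2)
  have a2 : j * k * j⁻¹ * k⁻¹ ∈ K ⊓ J :=
    ⟨mul_mem (conj_mem_of_mem_normalizer (h2 hj) hk.1) (K.inv_mem hk.1), by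
      rw [mul_assoc, mul_assoc, ← mul_assoc k]
      exact mul_mem hj (conj_mem_of_mem_normalizer a1 (inv_mem hj))⟩
  rw [tr J (IsPGroup.of_card (n := 3) h.bas.card), mem_bot, mul_inv_eq_one,
    mul_inv_eq_iff_eq_mul] at a2
  exact a2

theorem not_s9 (ψ : X ≃* Perm (Fin 9)) : False := by
  obtain ⟨B, hB⟩ := exists_bas3 (u := c9 0) (v := c9 1) (w := c9 2) (by decide) (by decide)
    (by decide) (by decide) (by decide) (by decide) (by decide +kernel)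
  have cB : Nat.card (B.map ψ.symm.toMonoidHom) = 27 := by
    rw [Subgroup.card_map_of_injective ψ.symm.injective, hB.card]
  obtain ⟨κ, -, hκ⟩ := exists_cj_le_syl h.syl le_top (IsPGroup.of_card (n := 3) cB)
  have e := h.uniq hκ (by
    rw [← cj_centralizer]; exact cj_mono (map_le_centralizer_map _ hB.le_cent))
    (by rw [card_cj, cB])
  let θ : Perm (Fin 9) ≃* X := ψ.symm.trans (MulAut.conj κ)
  have hθ : ∀ σ, θ σ ∈ J ↔ σ ∈ B := fun σ => by
    rw [← e]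
    exact conj_mem_cj_iff.trans (mem_map_iff_mem ψ.symm.injective)
  have m0 : c9 0 ∈ B := E100 (e1 := c9 0) ▸ hB.memE _
  have m1 : c9 1 ∈ B := (by decide : E3 (c9 0) (c9 1) (c9 2) (0, 1, 0) = c9 1) ▸ hB.memE _
  obtain ⟨p, hp⟩ := (h.bas.mem _).1 ((hθ _).2 m0)
  have ep : Edge p := by
    by_contra hn
    have a1 := h.good (p := p) (by
      rintro rfl
      rw [E3_zero, eq_comm, map_eq_one_iff θ θ.injective] at hp
      exact absurd hp (by decide)) hn (x := θ (swap 3 6)) (by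
      rw [hp, mem_centralizer_singleton_iff, ← map_mul, ← map_mul]
      exact congrArg θ (by decide))
    have a2 := conj_mem_of_mem_normalizer a1 ((hθ _).2 m1)
    rw [← map_inv, ← map_mul, ← map_mul, hθ] at a2
    exact absurd (hB.commute a2 m1) (by decide)
  have key : ∀ q, Edge q → ∃ r, E3 e1 e2 e3 q = θ (E3 (c9 0) (c9 1) (c9 2) r) ∧
      (E3 (c9 0) (c9 1) (c9 2) r).support.card = 3 := fun q hq => by
    obtain ⟨i, b, c, rfl⟩ := wd_edge p ep q hq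
    obtain ⟨g, hg, H⟩ := h.word i b c
    obtain ⟨γ, rfl⟩ := θ.surjective g
    have a1 := h.bas.memE (wd i b c p)
    rw [← H, hp, ← map_inv, ← map_mul, ← map_mul] at a1 ⊢
    obtain ⟨r, hr⟩ := (hB.mem _).1 ((hθ _).1 a1)
    exact ⟨r, by rw [hr], by rw [hr, Perm.card_support_conj]; decide⟩
  obtain ⟨r1, a1, b1⟩ := key (1, 1, 0) (by decide)
  obtain ⟨r2, a2, b2⟩ := key (0, -1, 1) (by decide)
  obtain ⟨r3, a3, b3⟩ := key ((1, 1, 0) + (0, -1, 1)) (by decide)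
  rw [h.bas.add, a1, a2, ← map_mul, ← hB.add] at a3
  obtain rfl := hB.injE (θ.injective a3)
  obtain rfl := c9_key _ _ (c9_supp _ b1) (c9_supp _ b2) (c9_supp _ b3)
  exact absurd (h.bas.injE (a1.trans a2.symm)) (by decide)

theorem normal (H : S3343Stmt.{u}) : J.Normal := by
  have JC := h.JS.trans h.SC
  have hc : IsMulCommutative J := ⟨⟨fun g g' => Subtype.ext (h.bas.commute g.2 g'.2)⟩⟩
  obtain ⟨P, hP⟩ := exists_sylow_subgroupOf (hall_of_le h.syl h.SC le_top)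
  obtain ⟨R⟩ : Nonempty (Sylow 2 C1[e1 * (e2 * e3)]) := inferInstance
  have hn := NormalIn.normal_subgroupOf ⟨JC, h.g2⟩
  have hZ : (zpowers (e1 * (e2 * e3))).subgroupOf C1[e1 * (e2 * e3)] = Z[(P : Subgroup _)] := by
    rw [hP, centralizer_subgroupOf h.SC, ← h.ZS]; rfl
  have zC : zpowers (e1 * (e2 * e3)) ≤ C1[e1 * (e2 * e3)] :=
    zpowers_le.2 (mem_centralizer_singleton_self _)
  obtain ⟨eC⟩ := S3376.result h.cC P R (J.subgroupOf _) (isMulCommutative_subgroupOf hc _)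
    (fun a ha => Subtype.ext (h.bas.cube ha)) (by rw [card_subgroupOf JC, h.bas.card]) _ hZ
    (by rw [card_subgroupOf zC, h.cZ])
    (fun c hc r _ => Subtype.ext (comm_of_zp (mem_centralizer_singleton_iff.1 r.2) hc))
    fun e => by
      have a1 : (R : Subgroup C1[e1 * (e2 * e3)]) ≤ P := fun r hr => by
        rw [hP]
        exact h.cent fun j hj => congrArg Subtype.val
          ((e.ge (show (⟨j, JC hj⟩ : C1[e1 * (e2 * e3)]) ∈ (P : Subgroup _) from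
            hP ▸ h.JS hj)).2 r hr).symm
      have a2 := card_dvd_of_le' a1
      rw [R.card_eq_multiplicity, hP, card_subgroupOf h.SC, h.cS, h.cC] at a2
      exact absurd a2 (by decide +kernel)
  exact (H _ (orderOf_eq_prime (h.bas.cube h.zJ) h.z1) eC J JC hc (fun _ => h.bas.cube) h.bas.card
    fun K h1 h2 => h.sig h1 (le_normalizer_of_cj h2)).resolve_right fun ⟨ψ⟩ => h.not_s9 ψ

end X9

end Cfsg.Agent.H67.T3
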