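import Cfsg.Agent.H73.BdDefs
import Cfsg.Agent.H11.Inner
import Cfsg.Agent.H12.Values
import Cfsg.Agent.H13.Complete
import Cfsg.Agent.H11.Irr
import Cfsg.Agent.H21.Basic

/-! Project BD, piece CH: the lattice inequality for the principal block. -/

set_option autoImplicit false

namespace Cfsg.Agent.H67.BdCh

open Cfsg Cfsg.Agent.H76.K0 Cfsg.Agent.H73.Bd

universe u

theorem ch (r : RStmt.{u}) (ineq : IneqStmt.{u}) : ChStmt.{u} := by
  intro G _ _ p hp M hM P
  classical
  haveI : Finite (IrrCharacter G) := H13.finite_irrCharacter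
  haveI := Fintype.ofFinite G
  have h0 : (⟨fun _ => 1, H11.isIrrCharacter_one⟩ : IrrCharacter G) ∈ principalBlock M G := fun g =>
    ⟨0, 1, M.zero_mem, (Ideal.ne_top_iff_one M).1 hM.2.1.ne_top, by simp⟩
  refine ⟨inferInstance, ⟨_, h0⟩, by simp [charDegree], fun u n hn => ?_⟩
  let θ : G → ℂ := ∑ i : principalBlock M G, n i • (i.1 : G → ℂ)
  have inn : ∀ j : principalBlock M G, classInner θ (j.1 : G → ℂ) = n j := fun j => by
    rw [H11.classInner_sum_left, Finset.sum_eq_single j]
    · rw [H11.classInner_zsmul_left, H11.classInner_irr_self j.1.2, mul_one]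
    · intro i _ hij
      rw [H11.classInner_zsmul_left, H11.classInner_irr_of_ne i.1.2 j.1.2
        fun e => hij (Subtype.ext (Subtype.ext e)), mul_zero]
    · simp
  have gen : IsGeneralizedCharacter G θ :=
    H11.isGen_sum _ _ fun i _ => H11.isGen_zsmul (H11.isGen_of_irr i.1.2) _
  have c0 : ((Nat.card P : ℕ) : ℂ) ≠ 0 := Nat.cast_ne_zero.2 Nat.card_pos.ne'
  choose m hm using hn
  have int : ∀ g, IsIntegral ℤ (θ g / (Nat.card P : ℕ)) := fun g => by
    obtain ⟨α, h1, h2⟩ := r G p M hM P g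
    rw [← finsum_set_coe_eq_finsum_mem, finsum_eq_sum_of_fintype] at h2
    have e : θ g / (Nat.card P : ℕ) = u * α + ∑ i : principalBlock M G, m i * (i.1 : G → ℂ) g := by
      rw [div_eq_iff c0, add_mul, mul_assoc, mul_comm α, ← h2, Finset.mul_sum, Finset.sum_mul,
        ← Finset.sum_add_distrib]
      refine (Finset.sum_apply _ _ _).trans (Finset.sum_congr rfl fun i _ => ?_)
      have := congrArg (Int.cast : ℤ → ℂ) (hm i)
      push_cast at this
      rw [Pi.smul_apply, zsmul_eq_mul]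
      linear_combination (i.1 : G → ℂ) g * this
    rw [e]
    refine ((isIntegral_algebraMap (R := ℤ) (A := ℂ) (x := u)).mul h1).add
      (IsIntegral.sum _ fun i _ => (isIntegral_algebraMap (R := ℤ) (A := ℂ) (x := m i)).mul ?_)
    obtain ⟨k, ρ, -, e⟩ := i.1.2
    rw [← e]
    exact H12.isIntegral_character ρ g
  have key := (ineq G θ gen _ Nat.card_pos int).1
  have cG : (0 : ℝ) < Nat.card G := by exact_mod_cast Nat.card_pos
  have e1 : ∑ g, (θ g).re = Nat.card G * (n ⟨_, h0⟩ : ℝ) := by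
    have := H11.card_mul_classInner θ (fun _ => 1)
    rw [inn ⟨_, h0⟩] at this
    simpa using (congrArg Complex.re this).symm
  have e2 : ∑ g, ‖θ g‖ ^ 2 = Nat.card G * ∑ i, (n i : ℝ) ^ 2 := by
    have h1 : classInner θ θ = ∑ i, (n i : ℂ) ^ 2 := by
      conv_lhs => arg 2; unfold θ
      rw [H11.classInner_sum_right]
      exact Finset.sum_congr rfl fun i _ => by rw [H11.classInner_zsmul_right, inn, sq]
    rw [H11.classInner_self_eq] at h1
    have h2 : (Nat.card G : ℝ)⁻¹ * ∑ g, ‖θ g‖ ^ 2 = ∑ i, (n i : ℝ) ^ 2 := by exact_mod_cast h1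
    rw [← h2, mul_inv_cancel_left₀ cG.ne']
  rw [e1, e2, mul_left_comm] at key
  exact_mod_cast le_of_mul_le_mul_left key cG

end Cfsg.Agent.H67.BdCh
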