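import Cfsg.Agent.H74.CksDefs

/-! Chamber transitive subgroups in the types with a double bond. -/

set_option autoImplicit false

namespace Cfsg.Agent.H67.CksR3c

open Cfsg.Agent.H35 Cfsg.Agent.Lead.T3 Cfsg.Agent.H74.Cks

/-- The earlier statements that are used. -/
structure Hy : Prop where
  bas : Bas1Stmt
  tgen : TgenStmt
  lad : LadStmt
  plf : PlfStmt
  torq : TorqStmt
  qgen : QgenStmt
  qf1 : Qf1Stmt
  qf2 : Qf2Stmt
  qf3 : Qf3Stmt
  q24 : Q24Stmt
  tk3 : Tk3Stmt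
  qt : QtStmt
  minj : MinjStmt
  tf : TfStmt
  two : TwoStmt
  prod : ProdStmt

variable {G : Type} [Group G] [Finite G] [IsSimpleGroup G] {p n : ℕ} [Fact p.Prime]
  {S : Sys G p n} {H : Subgroup G} (y : Hy) (hs : S.Setup H)

include y

theorem q_eq (pl : S.Planes) {i j : Fin n} (h : S.m i j = 3) : S.q i = S.q j := by
  obtain ⟨F, _, _, ⟨D⟩⟩ := pl i j h
  have := y.torq S i j h F D
  exact this.1.trans this.2.1.symm

include hs

theorem mono {J K : Finset (Fin n)} (h : J ⊆ K) (f : S.Full H K) : S.Full H J :=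
  (y.lad S H hs).2.2.2.2.1 J K h f

theorem edge (pl : S.Planes) {i j : Fin n} (h : S.m i j = 3) (f : S.q i = 2 → S.Full H {j}) :
    S.Full H {i, j} := by
  obtain ⟨F, _, _, ⟨D⟩⟩ := pl i j h
  exact (y.plf S i j h F D H hs).resolve_right fun e => (y.lad S H hs).2.2.2.2.2.1 j
    (e.2.trans ((y.bas S).2.2.2.2.2.2.2.2.1 _ _ (by simp))) (f e.1)

theorem T_le (h0 : 0 < n) (h : ∀ i, S.Full H {i} ∨ S.T ⊓ S.L i = ⊥) : S.T ≤ H :=
  (y.tgen S h0).trans (iSup_le fun i => (h i).elim (fun f => le_trans (by simp)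
    ((y.lad S H hs).2.2.2.1 {i} f).2) fun e => e.le.trans bot_le)

theorem bond (pl : S.Planes) (qu : S.Quads) (nd : ¬ S.Deg) {i j k : Fin n} (h1 : S.m i j = 3)
    (h2 : S.m j k = 4) (h3 : S.m i k = 2) : S.Full H {i, j} ∧
    (S.Full H {j, k} ∨ (S.q j = 3 ∧ S.q k = 3 ∧ S.Kind j k ∧ ¬ S.Kind k j ∧
      ((∀ l, l ≠ j → l ≠ k → S.m l k = 2) → S.T ⊓ S.L k = ⊥))) ∧ 2 ≤ S.q j ∧
    (S.q j = 2 → S.q k = 4) ∧ (S.q j = 3 → S.q k = 3 ∨ S.q k = 9) ∧
    ((S.q j = 2 ∧ S.q k = 4) ∨ (S.q j = 3 ∧ S.q k = 9) →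
      ∃ t ∈ S.T ⊓ S.L k, ∀ y ∈ S.X k, t * y = y * t → y = 1) := by
  obtain ⟨F, _, _, ⟨D⟩⟩ := qu i j k h1 h2 h3
  obtain ⟨c, k1, k2, par, -⟩ := y.qgen S i j k h1 h2 h3 F D
  have sq : ∀ r, r ^ 2 ≠ 2 ∧ r ^ 2 ≠ 3 := fun r => by
    rcases Nat.lt_or_ge r 2 with h | h
    · interval_cases r <;> decide
    · have := Nat.pow_le_pow_left h 2
      omega
  have a2 : S.q j = 2 → S.q k = 4 := fun e => by
    rcases par with ⟨-, h | h⟩ | ⟨-, ⟨-, h⟩ | ⟨r, h, -⟩⟩
    · exact absurd ⟨j, k, h2, e, h.trans e⟩ nd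
    · rw [h, e]; rfl
    · exact absurd (e ▸ h) (by decide)
    · exact absurd (h.symm.trans e) (sq r).1
  have a3 : S.q j = 3 → S.q k = 3 ∨ S.q k = 9 := fun e => by
    rcases par with ⟨-, h | h⟩ | ⟨-, ⟨h, -⟩ | ⟨r, h, -⟩⟩
    · exact .inl (h.trans e)
    · exact .inr (by rw [h, e]; rfl)
    · exact .inl (h.trans e)
    · exact absurd (h.symm.trans e) (sq r).2
  have f2 : S.q j = 2 → S.Full H {j, k} := fun e =>
    y.q24 S i j k h1 h2 h3 F D (c.symm.trans e) (a2 e) H hs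
  have f := edge y hs pl h1 fun e => mono y hs (by simp) (f2 ((q_eq y pl h1).symm.trans e))
  have l : 2 ≤ S.q j := c ▸ Finite.one_lt_card
  refine ⟨f, ?_, l, a2, a3, fun h => y.qt S i j k h1 h2 h3 F D (c ▸ h)⟩
  by_cases z : ∀ t, D.d.z t = 1
  swap
  · exact .inl (y.qf2 S i j k h1 h2 h3 F D z H hs f)
  rcases (by omega : S.q j = 2 ∨ S.q j = 3 ∨ 4 ≤ S.q j) with e | e | e
  · exact .inl (f2 e)
  · rcases a3 e with e' | e'
    · refine .inr ⟨e, e', k1.2 z, fun h => ?_, y.tk3 S i j k h1 h2 h3 F D z (c.symm.trans e) e'⟩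
      have := Finite.one_lt_card_iff_nontrivial.1 (show 1 < S.q k by omega)
      obtain ⟨x, hx⟩ := exists_ne (1 : S.X k)
      have a := D.d.Q_sm (1 + 1) x
      rw [D.d.sm_add, z, D.d.sm_one, mul_one, D.d.Q_mul, k2.1 h, map_add, map_one] at a
      have := Fintype.ofFinite F
      have b := Nat.cast_card_eq_zero F
      rw [← Nat.card_eq_fintype_card, ← c, e] at b
      exact hx (D.d.Q_ne x (by push_cast at b; linear_combination a + D.d.Q x * b))
    · exact .inl (y.qf3 S i j k h1 h2 h3 F D z (c.symm.trans e) e' H hs f)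
  · exact .inl (y.qf1 S i j k h1 h2 h3 F D z (c ▸ e) H hs f)

omit hs in
theorem exists_min (g : S.Gen) (hT : S.T ≤ H) {K : Finset (Fin n)} (h : ¬ S.Full H K) :
    ∃ J ⊆ K, ∃ M, S.MinJ H J M := by
  obtain ⟨J, hJ, mn⟩ := wellFounded_lt.has_min {J | J ⊆ K ∧ ¬ S.Full H J} ⟨K, subset_rfl, h⟩
  exact ⟨J, hJ.1, y.minj S g H hT J hJ.2 fun L hL =>
    by_contra fun e => mn L ⟨hL.1.trans hJ.1, e⟩ hL⟩

omit hs in
theorem r3f : R3fStmt := by
  intro G _ _ _ p _ S g hm pl qu nd H hH hs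
  obtain ⟨f1, f2, -⟩ := bond y hs pl qu nd (hm 0 1) (hm 1 2) (hm 0 2)
  obtain ⟨f3, f4, -⟩ := bond y hs pl qu nd (hm 3 2) (hm 2 1) (hm 3 1)
  have f : S.Full H {1, 2} := f2.elim id fun a => f4.elim (mono y hs (by decide))
    fun b => absurd b.2.2.1 a.2.2.2.1
  have hT : S.T ≤ H := T_le y hs (by decide) fun i => .inl (by
    fin_cases i
    exacts [mono y hs (by decide) f1, mono y hs (by decide) f1, mono y hs (by decide) f3,
      mono y hs (by decide) f3])
  obtain ⟨J, -, M, h⟩ := exists_min y g hT fun e => hH.1 ((y.lad S H hs).2.2.2.2.2.2.1 e (by decide))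
  have t := y.tf S pl H J M h
  have e1 := q_eq y pl (hm 0 1)
  have e2 := q_eq y pl (hm 2 3)
  refine absurd ⟨1, 2, hm 1 2, ?_⟩ nd
  have : ∀ J : Finset (Fin 4), J ⊆ {0, 1} ∨ J ⊆ {1, 2} ∨ J ⊆ {3, 2} ∨ (0 ∈ J ∧ 2 ∈ J) ∨
      (1 ∈ J ∧ 3 ∈ J) ∨ (0 ∈ J ∧ 3 ∈ J) := by decide
  rcases this J with a | a | a | a | a | a
  · exact absurd (mono y hs a f1) h.nf
  · exact absurd (mono y hs a f) h.nf
  · exact absurd (mono y hs a f3) h.nf
  · have := (t 2 a.2 0 a.1).1 3 (hm 2 3) (hm 3 0)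
    have := (t 0 a.1 2 a.2).2.2.1 1 3 (hm 0 1) (hm 2 3)
    omega
  · have := (t 1 a.1 3 a.2).1 0 (hm 1 0) (hm 0 3)
    have := (t 1 a.1 3 a.2).2.2.1 0 2 (hm 1 0) (hm 3 2)
    omega
  · have := (t 0 a.1 3 a.2).1 1 (hm 0 1) (hm 1 3)
    have := (t 0 a.1 3 a.2).2.2.1 1 2 (hm 0 1) (hm 3 2)
    omega

omit hs in
theorem r3c : R3cStmt := by
  intro G _ _ _ p n _ S h3 g hm0 pl qu nd H hH hs
  have hm : ∀ a b : Fin n, (a.1 = b.1 ∧ S.m a b = 1) ∨
      ((a.1 + 1 = b ∨ b.1 + 1 = a) ∧ (a.1 + 1 = n ∨ b.1 + 1 = n) ∧ S.m a b = 4) ∨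
      ((a.1 + 1 = b ∨ b.1 + 1 = a) ∧ a.1 + 1 < n ∧ b.1 + 1 < n ∧ S.m a b = 3) ∨
      ((a.1 + 2 ≤ b ∨ b.1 + 2 ≤ a) ∧ S.m a b = 2) := fun a b => by
    have ha := a.2
    have hb := b.2
    rw [hm0, tm]
    split_ifs with h1 h2 h3 <;> rw [Fin.ext_iff] at h1
    · omega
    all_goals unfold parA at h2; omega
  have ex : ∀ c < n, ∃ a : Fin n, a.1 = c := fun c h => ⟨⟨c, h⟩, rfl⟩
  obtain ⟨i, hi⟩ := ex (n - 3) (by omega)
  obtain ⟨j, hj⟩ := ex (n - 2) (by omega)
  obtain ⟨k, hk⟩ := ex (n - 1) (by omega)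
  obtain ⟨f1, f2, l2, a2, a3, qt⟩ := bond y hs pl qu nd (i := i) (j := j) (k := k)
    (by have := hm i j; omega) (by have := hm j k; omega) (by have := hm i k; omega)
  have fq : ∀ d (a : Fin n), a.1 + d + 2 = n → S.Full H {a} ∧ S.q a = S.q j := fun d => by
    induction d with
    | zero => exact fun a h => (Fin.ext (by omega) : j = a) ▸ ⟨mono y hs (by simp) f1, rfl⟩
    | succ d ih =>
      intro a h
      obtain ⟨b, hb⟩ := ex (a + 1) (by omega)
      have m : S.m a b = 3 := by have := hm a b; omega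
      exact ⟨mono y hs (by simp) (edge y hs pl m fun _ => (ih b (by omega)).1),
        (q_eq y pl m).trans (ih b (by omega)).2⟩
  have fq' : ∀ a : Fin n, a ≠ k → S.Full H {a} ∧ S.q a = S.q j := fun a h =>
    fq (n - 2 - a) a (by have := Fin.ext_iff.not.1 h; omega)
  have fe : ∀ a b : Fin n, S.m a b = 3 → S.Full H {a, b} := fun a b m =>
    edge y hs pl m fun _ => (fq' b (by rintro rfl; have := hm a b; omega)).1
  have hT : S.T ≤ H := T_le y hs (by omega) fun a => by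
    by_cases e : a = k
    · exact e ▸ f2.imp (mono y hs (by simp)) fun h => h.2.2.2.2 fun l h1 h2 => by
        have := hm l k
        have := Fin.ext_iff.not.1 h1
        have := Fin.ext_iff.not.1 h2
        omega
    · exact .inl (fq' a e).1
  refine ⟨hT, ?_⟩
  by_cases o : S.q j = 3 ∧ S.q k = 3
  · refine .inr (.inr (.inr (.inl ⟨by omega, fun a => ?_⟩)))
    by_cases e : a = k
    · exact e ▸ o.2
    · exact (fq' a e).2.trans o.1
  have f := f2.resolve_right fun h => o ⟨h.1, h.2.1⟩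
  have key : ∀ J M, S.MinJ H J M → k ∉ J ∧ S.q j ≤ 3 ∧
      ∃ a ∈ J, ∃ b ∈ J, a.1 + 2 ≤ b ∧ ∀ l ∈ J, l ≤ b := fun J M h => by
    have ne : J.Nonempty := Finset.nonempty_iff_ne_empty.2 fun e =>
      h.nf (mono y hs (by simp [e]) f)
    obtain ⟨a, ha, ma⟩ := J.exists_min_image Fin.val ne
    obtain ⟨b, hb, mb⟩ := J.exists_max_image Fin.val ne
    have ab : a.1 + 2 ≤ b := by
      by_contra hc
      by_cases e : a.1 + 2 < n
      · obtain ⟨c, hc⟩ := ex (a + 1) (by omega)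
        refine h.nf (mono y hs (fun l hl => ?_) (fe a c (by have := hm a c; omega)))
        have := ma l hl
        have := mb l hl
        simp only [Finset.mem_insert, Finset.mem_singleton, Fin.ext_iff]
        omega
      · refine h.nf (mono y hs (fun l hl => ?_) f)
        have := ma l hl
        simp only [Finset.mem_insert, Finset.mem_singleton, Fin.ext_iff]
        omega
    obtain ⟨c, hc⟩ := ex (a + 1) (by omega)
    have q3 := (y.tf S pl H J M h a ha b hb).2.1 c (by have := hm a c; omega)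
      (by have := hm a b; omega)
    rw [(fq' a (by rintro rfl; omega)).2] at q3
    exact ⟨fun e => (y.tf S pl H J M h a ha k e).2.2.2.2 (by have := hm a k; omega)
      (qt (by omega)), q3, a, ha, b, hb, ab, mb⟩
  obtain ⟨J, -, M, h⟩ := exists_min y g hT fun e => hH.1 ((y.lad S H hs).2.2.2.2.2.2.1 e (by omega))
  obtain ⟨kJ, q3, a, ha, b, hb, ab, -⟩ := key J M h
  have bk : b.1 ≠ k := fun e => kJ (Fin.ext e ▸ hb)
  by_cases n4 : n = 4
  · refine .inr (.inr (.inr (.inr ⟨n4, by omega, S.q j, by omega, fun c => ?_⟩)))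
    rw [qC]
    split_ifs with e
    · rw [show c = k from Fin.ext (by omega)]
      rcases (by omega : S.q j = 2 ∨ S.q j = 3) with e | e <;> rw [e] <;> omega
    · exact (fq' c (by rintro rfl; omega)).2
  exfalso
  have qa := (fq' a (by rintro rfl; omega)).2
  have qb := (fq' b (by rintro rfl; omega)).2
  rcases (by omega : S.q j = 2 ∨ S.q j = 3) with e | e
  · have ind : ∀ J M, S.MinJ H J M → (∀ l ∈ J, S.q l = 2) ∧ ∀ l ∈ J, ∀ l' ∈ J, S.m l l' ≠ 3 :=
      fun J M h => by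
      have kJ := (key J M h).1
      have q2 : ∀ l ∈ J, S.q l = 2 := fun l hl => (fq' l (by rintro rfl; exact kJ hl)).2.trans e
      refine ⟨q2, y.two S g pl H J M hs hT h q2 fun l hl l' hl' => ?_⟩
      have := hm l l'
      have : l.1 ≠ k := fun e => kJ (Fin.ext e ▸ hl)
      have : l'.1 ≠ k := fun e => kJ (Fin.ext e ▸ hl')
      omega
    have jJ : ∀ J M, S.MinJ H J M → j ∈ J := fun J M h => by
      obtain ⟨kJ, -, -, -, b, hb, -, mb⟩ := key J M h
      by_contra hc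
      have : b.1 ≠ k := fun e => kJ (Fin.ext e ▸ hb)
      have : b.1 ≠ j := fun e => hc (Fin.ext e ▸ hb)
      obtain ⟨c, hc⟩ := ex (b + 1) (by omega)
      have m : S.m b c = 3 := by have := hm b c; omega
      refine y.prod S g pl H J M hs h (ind J M h).1 {b, c} b hb (by simp) c (by simp) m
        (fun l hl h1 x hx => ?_) (fe b c m)
      have := (ind J M h).2 l hl b hb
      have := hm l b
      have := hm l x
      have : l.1 ≤ b := mb l hl
      simp only [Finset.mem_insert, Finset.mem_singleton, Fin.ext_iff] at h1 hx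
      omega
    obtain ⟨c, hc⟩ := ex (if a.1 = 0 then 1 else a - 1) (by split_ifs <;> omega)
    have := (ind J M h).2 a ha j (jJ J M h)
    have := hm a j
    refine y.prod S g pl H J M hs h (ind J M h).1 (Finset.univ.filter fun l => l.1 + 4 ≤ n) a ha
      (by simp; omega) c (by simp; split_ifs at hc <;> omega) (by have := hm a c; split_ifs at hc <;> omega)
      (fun l hl h1 x hx => ?_) (by_contra fun e => ?_)
    · have := (ind J M h).2 l hl j (jJ J M h)
      have := hm l j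
      have := hm l x
      have : l.1 ≠ k := fun e => kJ (Fin.ext e ▸ hl)
      simp only [Finset.mem_filter, Finset.mem_univ, true_and] at h1 hx
      omega
    · obtain ⟨J, hJ, M, h⟩ := exists_min y g hT e
      have := (Finset.mem_filter.1 (hJ (jJ J M h))).2
      omega
  · have t : ∀ a ∈ J, ∀ b ∈ J, ∀ c, S.q a = 3 → S.m a c = 3 → S.m c b ≠ 2 :=
      fun a ha b hb c h1 h2 h3 => by
      have := (y.tf S pl H J M h a ha b hb).1 c h2 h3
      omega
    obtain ⟨c, hc⟩ := ex (a + 1) (by omega)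
    have := t a ha b hb c (by omega) (by have := hm a c; omega)
    have := hm c b
    by_cases a0 : a.1 = 0
    · obtain ⟨d, hd⟩ := ex 3 (by omega)
      exact t b hb a ha d (by omega) (by have := hm b d; omega) (by have := hm d a; omega)
    · obtain ⟨d, hd⟩ := ex (a - 1) (by omega)
      exact t a ha b hb d (by omega) (by have := hm a d; omega) (by have := hm d b; omega)

end Cfsg.Agent.H67.CksR3c
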