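import Cfsg.Agent.H7.HG5
import Cfsg.Agent.H91.SecRep
import Cfsg.Agent.H12.Burnside
import Cfsg.Agent.S2540

/-!
# Homogeneous groups in which the elements of order `p` commute
-/

set_option autoImplicit false

namespace Cfsg.Agent.H67.Hom1

open Subgroup Matrix Cfsg.Agent.H7.HG Cfsg.Agent.H7.CA

variable {G : Type*} [Group G]

theorem hm_char (h : Hm G) (N : Subgroup G) [N.Characteristic] : Hm N := fun A B e => by
  obtain ⟨α, hα⟩ := h.ext_inj (u := N.subtype.comp A.subtype)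
    (v := N.subtype.comp (B.subtype.comp e.toMonoidHom))
    (N.subtype_injective.comp A.subtype_injective)
    (N.subtype_injective.comp (B.subtype_injective.comp e.injective))
  exact ⟨MulAut.characteristic N α, fun a => Subtype.ext (hα a)⟩

theorem mem_of_order (h : Hm G) (N : Subgroup G) [hN : N.Characteristic] {x y : G} (hx : x ∈ N)
    (o : orderOf x = orderOf y) : y ∈ N := by
  obtain ⟨φ, rfl⟩ := h.elt o
  exact characteristic_iff_le_comap.1 hN φ hx

/-- The elements of order dividing `p`, if they commute. -/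
def Vp (p : ℕ) (hc : ∀ x y : G, x ^ p = 1 → y ^ p = 1 → Commute x y) : Subgroup G where
  carrier := {x | x ^ p = 1}
  one_mem' := one_pow p
  mul_mem' {a b} ha hb := by
    change (a * b) ^ p = 1
    rw [(hc a b ha hb).mul_pow, ha, hb, one_mul]
  inv_mem' {a} ha := by
    change a⁻¹ ^ p = 1
    rw [inv_pow, ha, inv_one]

theorem lift {H : Type*} [Group H] [Finite G] (σ : G →* H) {p : ℕ} (hp : p.Prime) (d : G)
    (hd : σ d ^ p = 1) : ∃ t, σ t = σ d ∧ ∃ k, orderOf t = p ^ k := by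
  obtain ⟨k, m, hm, e⟩ := Nat.exists_eq_pow_mul_and_not_dvd (orderOf_pos d).ne' p hp.ne_one
  obtain ⟨a, a1, a2⟩ := Nat.chineseRemainder ((Nat.Prime.coprime_iff_not_dvd hp).2 hm) 1 0
  refine ⟨d ^ a, ?_, ?_⟩
  · rw [map_pow, pow_eq_pow_of_modEq a1 hd, pow_one]
  · obtain ⟨b, rfl⟩ := (Nat.modEq_zero_iff_dvd).1 a2
    have : orderOf (d ^ (m * b)) ∣ p ^ k := orderOf_dvd_of_pow_eq_one (by
      rw [← pow_mul, show m * b * p ^ k = p ^ k * m * b by ring, ← e, pow_mul, pow_orderOf_eq_one,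
        one_pow])
    obtain ⟨j, -, hj⟩ := (Nat.dvd_prime_pow hp).1 this
    exact ⟨j, hj⟩

/-- The linear action. -/
structure Lin {p n : ℕ} (σ : G →* GL (Fin n) (ZMod p)) : Prop where
  all : ∀ g : GL (Fin n) (ZMod p), ∃ φ : G ≃* G, ∀ d, g * σ d * g⁻¹ = σ (φ d)
  aut : ∀ φ : G ≃* G, ∃ g : GL (Fin n) (ZMod p), ∀ d, g * σ d * g⁻¹ = σ (φ d)
  one : ∀ d, σ d = 1 → ∀ v : G, v ^ p = 1 → Commute d v
  neg : ∀ d, σ d = -1 → ∀ v : G, v ^ p = 1 → d * v * d⁻¹ = v⁻¹

theorem exists_lin [Finite G] (h : Hm G) {p : ℕ} [Fact p.Prime]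
    (hc : ∀ x y : G, x ^ p = 1 → y ^ p = 1 → Commute x y) :
    ∃ (n : ℕ) (σ : G →* GL (Fin n) (ZMod p)), Nat.card (Vp p hc) = p ^ n ∧ Lin σ := by
  have : (Vp p hc).Characteristic := characteristic_iff_le_comap.2 fun φ x hx => by
    change φ x ^ p = 1
    rw [← map_pow, show x ^ p = 1 from hx, map_one]
  have hV : ∀ a : Vp p hc, a ^ p = 1 := fun a => Subtype.ext a.2
  obtain ⟨n, hn⟩ := IsPGroup.iff_card.1 (show IsPGroup p (Vp p hc) from fun a => ⟨1, by
    rw [pow_one, hV]⟩)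
  obtain ⟨e, ρ, e1, e2⟩ := H91.exists_coord (X := MulAut G) (fun a b => Subtype.ext
    (hc _ _ a.2 b.2).eq) hV hn (fun φ => (MulAut.characteristic (Vp p hc) φ).toMonoidHom)
    (fun _ => rfl) fun _ _ _ => rfl
  have cj : ∀ (φ : MulAut G) d, ρ φ * ρ (MulAut.conj d) * (ρ φ)⁻¹ = ρ (MulAut.conj (φ d)) :=
    fun φ d => by
      rw [← map_inv, ← map_mul, ← map_mul]
      congr 1
      ext x
      simp
  have e0 : e 1 = 0 := by simpa using e1 1 1
  refine ⟨n, ρ.comp MulAut.conj, hn, fun g => ?_, fun φ => ⟨ρ φ, cj φ⟩, fun d hd v hv => ?_,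
    fun d hd v hv => ?_⟩
  · let f : Vp p hc ≃* Vp p hc :=
      { toFun := fun v => e.symm (g.1 *ᵥ e v)
        invFun := fun v => e.symm ((g⁻¹).1 *ᵥ e v)
        left_inv := fun v => by simp [mulVec_mulVec]
        right_inv := fun v => by simp [mulVec_mulVec]
        map_mul' := fun a b => e.injective (by simp [e1, mulVec_add]) }
    obtain ⟨φ, hφ⟩ := h _ _ f
    have : ρ φ = g := Units.ext (Matrix.ext_of_mulVec_single fun i => by
      obtain ⟨w, hw⟩ := e.surjective (Pi.single i 1)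
      rw [← hw, ← e2, show (MulAut.characteristic (Vp p hc) φ).toMonoidHom w = f w from
        Subtype.ext (hφ w)]
      exact e.apply_symm_apply _)
    exact ⟨φ, this ▸ cj φ⟩
  · have := e2 (MulAut.conj d) ⟨v, hv⟩
    rw [show ρ (MulAut.conj d) = 1 from hd, Units.val_one, one_mulVec] at this
    exact mul_inv_eq_iff_eq_mul.1 (congrArg Subtype.val (e.injective this))
  · have := e2 (MulAut.conj d) ⟨v, hv⟩
    rw [show ρ (MulAut.conj d) = -1 from hd, Units.val_neg, Units.val_one, neg_mulVec,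
      one_mulVec, neg_eq_of_add_eq_zero_right ((e1 _ (⟨v, hv⟩ : Vp p hc)⁻¹).symm.trans
        (by rw [mul_inv_cancel, e0]))] at this
    exact congrArg Subtype.val (e.injective this)

section

variable {p : ℕ} [hp : Fact p.Prime]

theorem unip {n : ℕ} (p2 : p ≠ 2) (g : GL (Fin (n + 1)) (ZMod p)) (h : (g.1 - 1) ^ 3 = 0) :
    g ^ p = 1 := Units.ext (by
  have h3 : 3 ≤ p := by have := hp.out.two_le; omega
  have := add_pow_char_of_commute p (Commute.one_left (g.1 - 1))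
  rw [add_sub_cancel, one_pow, pow_eq_zero_of_le h3 h, add_zero] at this
  rw [Units.val_pow_eq_pow_val, this, Units.val_one])

theorem Lin.two [Finite G] {σ : G →* GL (Fin 2) (ZMod p)} (L : Lin σ) (p2 : p ≠ 2)
    (hs : (SpecialLinearGroup.toGL : SpecialLinearGroup (Fin 2) (ZMod p) →* _).range ≤ σ.range) :
    False := by
  have : Fact (Nat.Prime 2) := ⟨Nat.prime_two⟩
  have h2 : (2 : ZMod p) ≠ 0 := fun e => p2 ((Nat.prime_dvd_prime_iff_eq hp.out Nat.prime_two).1
    ((ZMod.natCast_eq_zero_iff 2 p).1 (by exact_mod_cast e)))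
  let M : Subgroup G :=
    { carrier := {d | σ d = 1 ∨ σ d = -1}
      one_mem' := .inl (map_one σ)
      mul_mem' := by rintro a b (ha | ha) (hb | hb) <;> simp [ha, hb]
      inv_mem' := by rintro a (ha | ha) <;> simp [ha] }
  have : M.Normal := ⟨by rintro a (ha | ha) g <;> simp [M, ha]⟩
  obtain ⟨d, hd⟩ := hs ⟨-1, rfl⟩
  have hd' : σ d = -1 := hd.trans (Units.ext rfl)
  obtain ⟨z, z1, k, z2⟩ := lift σ Nat.prime_two d (by rw [hd']; simp)
  rw [hd'] at z1
  obtain ⟨S, hS⟩ := (show IsPGroup 2 (zpowers (⟨z, .inr z1⟩ : M)) from IsPGroup.of_card (n := k) (by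
    rw [Nat.card_zpowers, ← orderOf_coe, z2])).exists_le_sylow
  have zS : z ∈ (S : Subgroup M).map M.subtype := ⟨_, hS (mem_zpowers _), rfl⟩
  obtain ⟨t, ht⟩ := hs ⟨⟨!![1, 1; 0, 1], by simp [det_fin_two]⟩, rfl⟩
  have t1 : (σ t).1 = !![1, 1; 0, 1] := congrArg Units.val ht
  obtain ⟨y, hy, m, hm, rfl⟩ := mem_sup_of_normal_right.1 (S.normalizer_sup_eq_top.ge (mem_top t))
  have e : σ (y ^ 2) = σ (y * m) ^ 2 := by
    rcases hm with hm | hm <;> simp [hm]
  have o : orderOf (σ (y ^ 2)) = p := orderOf_eq_prime (by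
    rw [e, ← pow_mul, mul_comm, pow_mul, unip p2 _ (by
      rw [t1, one_fin_two]; ext i j; fin_cases i <;> fin_cases j <;> simp [pow_succ]), one_pow])
      fun k => by
    have := congrArg Units.val (e.symm.trans k)
    rw [Units.val_pow_eq_pow_val, t1, pow_two] at this
    exact h2 (by simpa [one_add_one_eq_two] using congrFun (congrFun this 0) 1)
  have o2 := orderOf_pow_orderOf_div (orderOf_pos (y ^ 2)).ne' (o ▸ orderOf_map_dvd σ (y ^ 2))
  have xN := pow_mem (pow_mem hy 2) (orderOf (y ^ 2) / p)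
  generalize (y ^ 2) ^ (orderOf (y ^ 2) / p) = x at o2 xN
  have xp : x ^ p = 1 := o2 ▸ pow_orderOf_eq_one x
  have m2 : x ^ 2 ∈ (S : Subgroup M).map M.subtype := by
    have := mul_mem ((mem_normalizer_iff.1 xN z).1 zS) (inv_mem zS)
    rwa [mul_assoc, mul_assoc, ← mul_assoc z, L.neg z z1 x⁻¹ (by rw [inv_pow, xp, inv_one]), inv_inv,
      ← pow_two] at this
  obtain ⟨j, hj⟩ := S.isPGroup'.map M.subtype ⟨_, m2⟩
  have : p ∣ 2 ^ (j + 1) := o2 ▸ orderOf_dvd_of_pow_eq_one (by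
    rw [pow_succ', pow_mul]; exact congrArg Subtype.val hj)
  exact p2 ((Nat.prime_dvd_prime_iff_eq hp.out Nat.prime_two).1 (hp.out.dvd_of_dvd_pow this))

theorem Lin.lt [Finite G] (h : Hm G) {n : ℕ} {σ : G →* GL (Fin n) (ZMod p)} (L : Lin σ) {t t' : G}
    {k k' : ℕ} (o : orderOf t = p ^ k) (o' : orderOf t' = p ^ k') (h1 : σ t ≠ 1)
    (h2 : σ t' ^ p = 1) : ¬ k < k' := fun l => by
  obtain ⟨j, rfl⟩ := Nat.exists_eq_add_of_lt l
  have : orderOf (t' ^ p ^ (j + 1)) = orderOf t := by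
    rw [orderOf_pow_of_dvd (pow_ne_zero _ hp.out.ne_zero) (o' ▸ pow_dvd_pow p (by omega)), o, o',
      add_assoc, pow_add, Nat.mul_div_cancel _ (pow_pos hp.out.pos _)]
  obtain ⟨φ, hφ⟩ := h.elt this
  obtain ⟨g, hg⟩ := L.aut φ
  refine h1 ?_
  rw [← hφ, ← hg, map_pow, pow_succ', pow_mul, h2, one_pow, mul_one, mul_inv_cancel]

theorem Lin.three [Finite G] (h : Hm G) {n : ℕ} {σ : G →* GL (Fin (n + 3)) (ZMod p)} (L : Lin σ)
    (p2 : p ≠ 2) (hs : (SpecialLinearGroup.toGL :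
      SpecialLinearGroup (Fin (n + 3)) (ZMod p) →* _).range ≤ σ.range) : False := by
  have n01 : (0 : Fin (n + 3)) ≠ 1 := by simp
  have n12 : (1 : Fin (n + 3)) ≠ 2 := by simp [Fin.ext_iff, Nat.mod_eq_of_lt]
  have n02 : (0 : Fin (n + 3)) ≠ 2 := by simp [Fin.ext_iff, Nat.mod_eq_of_lt]
  obtain ⟨a, ha⟩ := hs ⟨⟨transvection 0 1 1, det_transvection_of_ne _ _ n01 _⟩, rfl⟩
  obtain ⟨b, hb⟩ := hs ⟨⟨transvection 1 2 1, det_transvection_of_ne _ _ n12 _⟩, rfl⟩
  have a1 : (σ a).1 - 1 = single 0 1 1 := by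
    rw [show (σ a).1 = transvection 0 1 1 from congrArg Units.val ha, transvection, add_sub_cancel_left]
  have b1 : (σ (a * b)).1 - 1 = single 0 1 1 + single 1 2 1 + single 0 2 1 := by
    rw [map_mul, Units.val_mul, show (σ a).1 = transvection 0 1 1 from congrArg Units.val ha,
      show (σ b).1 = transvection 1 2 1 from congrArg Units.val hb, transvection, transvection,
      add_mul, mul_add, mul_add, single_mul_single_same]
    simp only [one_mul, mul_one]
    abel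
  have a2 : ((σ a).1 - 1) ^ 2 = 0 := by rw [a1, pow_two, single_mul_single_of_ne _ _ _ _ n01.symm]
  have b2 : ((σ (a * b)).1 - 1) ^ 2 = single 0 2 1 := by
    rw [b1, pow_two]
    simp only [add_mul, mul_add, single_mul_single_same, single_mul_single_of_ne _ _ _ _ n01.symm,
      single_mul_single_of_ne _ _ _ _ n12.symm, single_mul_single_of_ne _ _ _ _ n02.symm,
      add_zero, zero_add, mul_one]
  have b3 : ((σ (a * b)).1 - 1) ^ 3 = 0 := by
    rw [pow_succ, b2, b1]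
    simp only [mul_add, single_mul_single_of_ne _ _ _ _ n12.symm,
      single_mul_single_of_ne _ _ _ _ n02.symm, add_zero]
  have pa := unip p2 _ (pow_eq_zero_of_le (by norm_num : 2 ≤ 3) a2)
  have pb := unip p2 _ b3
  have ne : ∀ i j : Fin (n + 3), (single i j 1 : Matrix _ _ (ZMod p)) ≠ 0 := fun i j e => by
    simpa using congrFun (congrFun e i) j
  obtain ⟨t, t1, k, t2⟩ := lift σ hp.out a pa
  obtain ⟨u, u1, j, u2⟩ := lift σ hp.out _ pb
  have na : σ t ≠ 1 := fun e => ne 0 1 (by rw [← a1, ← t1, e, Units.val_one, sub_self])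
  have nb : σ u ≠ 1 := fun e => ne 0 2 (by
    rw [← b2, ← u1, e, Units.val_one, sub_self, zero_pow two_ne_zero])
  obtain rfl : k = j := le_antisymm (not_lt.1 (L.lt h u2 t2 nb (t1 ▸ pa)))
    (not_lt.1 (L.lt h t2 u2 na (u1 ▸ pb)))
  obtain ⟨φ, hφ⟩ := h.elt (t2.trans u2.symm)
  obtain ⟨g, hg⟩ := L.aut φ
  refine ne 0 2 ?_
  have : (σ (a * b)).1 - 1 = g.1 * ((σ a).1 - 1) * (g⁻¹).1 := by
    rw [← u1, ← hφ, ← hg, t1, mul_sub, sub_mul, mul_one, Units.mul_inv, Units.val_mul, Units.val_mul]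
  rw [← b2, this, Units.conj_pow, a2, mul_zero, zero_mul]

theorem central [Finite G] [Group.IsPerfect G] (h : Hm G)
    (hc : ∀ x y : G, x ^ p = 1 → y ^ p = 1 → Commute x y) (h4 : p = 2 → Nat.card (Vp p hc) ≤ 4)
    (d v : G) (hv : v ^ p = 1) : Commute d v := by
  obtain ⟨n, σ, hn, L⟩ := exists_lin h hc
  refine L.one d ?_ v hv
  have pf := Group.IsPerfect.range σ
  have sol : Group.IsSolvable σ.range → σ d = 1 := fun s => by
    have : Subsingleton σ.range := by
      by_contra k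
      have := not_subsingleton_iff_nontrivial.1 k
      exact Group.IsPerfect.not_isSolvable _ s
    exact congrArg Subtype.val (Subsingleton.elim (⟨_, d, rfl⟩ : σ.range) 1)
  have sc : (∀ g ∈ σ.range, ∃ c : ZMod p, g.1 = c • (1 : Matrix (Fin n) (Fin n) (ZMod p))) →
      σ d = 1 := fun k => sol (Group.isSolvable_of_comm fun a b => Subtype.ext (Units.ext (by
    obtain ⟨c, hc⟩ := k _ a.2
    change a.1.1 * b.1.1 = b.1.1 * a.1.1
    rw [hc]; simp)))
  by_cases n1 : n ≤ 1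
  · refine sc fun g _ => ?_
    interval_cases n
    · exact ⟨0, Subsingleton.elim _ _⟩
    · refine ⟨g.1 0 0, ?_⟩
      ext i j
      rw [Subsingleton.elim i 0, Subsingleton.elim j 0]
      simp
  by_cases ex : n = 2 ∧ Fintype.card (ZMod p) ≤ 3
  · obtain ⟨rfl, h3⟩ := ex
    have : Group.IsSolvable (GL (Fin 2) (ZMod p)) :=
      H12.isSolvable_of_card_dvd_pow_mul_pow (a := 4) (b := 1) Nat.prime_two Nat.prime_three (by
        rw [card_GL_field]
        have := Fintype.one_lt_card (α := ZMod p)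
        generalize Fintype.card (ZMod p) = q at h3 this
        interval_cases q <;> simp)
    exact sol inferInstance
  refine (S2540.result n (by omega) ex σ.range ?_).elim sc fun hs => False.elim ?_
  · rintro s _ ⟨x, rfl⟩
    obtain ⟨φ, hφ⟩ := L.all (SpecialLinearGroup.toGL s)
    exact ⟨_, (hφ x).symm⟩
  have p2 : p ≠ 2 := by
    rintro rfl
    have := h4 rfl
    rw [hn] at this
    have : n ≤ 2 := (Nat.pow_le_pow_iff_right (a := 2) (by norm_num)).1 this
    exact ex ⟨by omega, by simp⟩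
  by_cases n2 : n = 2
  · subst n2
    exact L.two p2 hs
  · obtain ⟨m, rfl⟩ : ∃ m, n = m + 3 := ⟨n - 3, by omega⟩
    exact L.three h p2 hs

end

end Cfsg.Agent.H67.Hom1
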