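import Cfsg.Agent.H67.LyE

/-! The double coset enumeration. -/

set_option autoImplicit false
set_option maxRecDepth 1000000
set_option Elab.async false

namespace Cfsg.Agent.H67.Ly

open Cfsg.Agent.H44 Cfsg.Agent.H46

/-- The facts. -/
noncomputable def ft : ℕ → Ft := nth ⟨false, 0, 0, [], []⟩ [
  ⟨true, 0, 1, [], []⟩,
  ⟨false, 1, 1, [11], []⟩,
  ⟨false, 1, 1, [15], []⟩,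
  ⟨false, 1, 1, [19], []⟩,
  ⟨false, 1, 1, [30], []⟩,
  ⟨false, 1, 1, [35], []⟩,
  ⟨false, 1, 1, [33], []⟩,
  ⟨false, 1, 1, [37], []⟩,
  ⟨true, 1, 0, [], []⟩,
  ⟨true, 1, 1, [21], [1, 21, 23, 37, 1, 8, 33]⟩,
  ⟨true, 1, 2, [4], []⟩,
  ⟨false, 2, 2, [26], []⟩,
  ⟨false, 2, 2, [11, 34], []⟩,
  ⟨false, 2, 2, [21, 1, 29], []⟩,
  ⟨false, 2, 2, [1, 21], []⟩,
  ⟨false, 2, 2, [11, 26, 35, 31], []⟩,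
  ⟨true, 2, 1, [], [4]⟩,
  ⟨true, 2, 1, [1, 16, 28, 37, 33], [9, 28, 33, 37, 35]⟩,
  ⟨true, 2, 2, [1, 9, 23, 34, 37, 9, 17], [1, 13, 27, 36, 37, 16]⟩,
  ⟨true, 2, 2, [2, 12, 16, 28, 35, 37, 16, 8, 38], [19, 8, 22, 32, 38, 16, 37]⟩,
  ⟨false, 2, 2, [1, 12, 19, 27, 35, 31], []⟩,
  ⟨true, 1, 3, [4, 3], []⟩,
  ⟨false, 3, 3, [26], []⟩,
  ⟨false, 3, 3, [18, 36, 31], []⟩,
  ⟨false, 3, 3, [35, 31], []⟩,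
  ⟨false, 3, 3, [33, 36, 31], []⟩,
  ⟨false, 3, 3, [4, 25, 26], []⟩,
  ⟨true, 3, 1, [], [4, 3]⟩,
  ⟨true, 3, 1, [15, 24, 3, 7, 26, 7], [2, 15, 28, 37, 1, 8, 34]⟩,
  ⟨true, 3, 2, [2, 33, 7, 26, 7, 33], [1, 8, 12, 16, 36, 7, 27, 7, 33]⟩,
  ⟨true, 2, 3, [19, 11, 21, 28, 31, 37, 34], [21, 1, 27, 37, 1]⟩,
  ⟨false, 3, 3, [12], []⟩,
  ⟨true, 3, 3, [1, 17, 8, 32, 7, 26, 7, 34], [4, 10, 3, 32, 7, 27, 7, 34]⟩,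
  ⟨true, 3, 3, [1, 11, 27, 6, 36, 31, 37, 12, 16], [19, 10, 21, 36, 30, 38, 12, 37]⟩,
  ⟨true, 1, 4, [7, 4, 3], []⟩,
  ⟨false, 4, 4, [26], []⟩,
  ⟨false, 4, 4, [12, 25, 27, 35], []⟩,
  ⟨false, 4, 4, [1, 21, 26, 33, 37, 15, 18], []⟩,
  ⟨true, 4, 1, [], [7, 4, 3]⟩,
  ⟨true, 4, 2, [13, 24, 33, 37, 1, 16, 9], [1, 8, 29, 32, 30, 37, 4, 6]⟩,
  ⟨true, 4, 3, [18, 21, 33, 30, 37, 9], [10, 14, 27, 36, 31, 38, 24, 3]⟩,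
  ⟨true, 4, 4, [14, 11, 27, 37, 1, 16, 9], [2, 17, 28, 35, 30, 37, 9, 34]⟩,
  ⟨true, 2, 4, [1, 16, 34, 2, 31, 37, 19, 10, 17], [15, 24, 23, 36, 7, 1, 4, 38, 16]⟩,
  ⟨false, 4, 4, [5, 32, 3, 18, 4, 7, 9, 37, 12, 18, 17], []⟩,
  ⟨true, 3, 4, [4, 13, 3, 21, 37, 8, 17], [2, 4, 6, 32, 7, 38, 1]⟩,
  ⟨true, 4, 4, [22, 32, 37, 19, 7, 33], [11, 22, 33, 7, 2, 33, 7, 2]⟩,
  ⟨true, 3, 3, [22, 3, 22, 36, 7, 18, 37, 9, 36], [1, 14, 19, 34, 7, 15, 4, 38, 8]⟩,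
  ⟨true, 4, 4, [1, 12, 27, 35, 7, 9, 33, 38, 9], [11, 24, 28, 7, 1, 15, 38]⟩,
  ⟨true, 4, 3, [29, 6, 36, 7, 12, 17, 7, 9], [9, 18, 4, 22, 7, 38, 3, 4, 27]⟩,
  ⟨true, 3, 4, [23, 32, 4, 5, 7, 37, 1, 4, 8, 11], [10, 4, 29, 6, 7, 9, 7, 2, 17, 37]⟩,
  ⟨true, 4, 4, [3, 17, 25, 16, 7, 37, 16, 9, 14], [14, 6, 12, 4, 36, 7, 29, 37, 3, 14, 16]⟩,
  ⟨true, 2, 3, [2, 12, 3, 33, 36, 7, 3, 13, 37, 17], [4, 26, 24, 7, 8, 12, 7, 13, 3]⟩,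
  ⟨true, 4, 4, [1, 3, 9, 24, 11, 7, 13, 7, 38, 25], [1, 3, 11, 28, 24, 7, 29, 37, 4]⟩,
  ⟨true, 3, 2, [3, 25, 5, 36, 7, 29, 38, 11, 3], [1, 4, 16, 29, 32, 7, 4, 3, 7, 15]⟩,
  ⟨true, 4, 4, [10, 12, 3, 25, 7, 33, 37, 19, 15], [13, 4, 5, 7, 14, 18, 7, 14, 19]⟩,
  ⟨true, 4, 3, [5, 16, 24, 35, 7, 16, 7, 19, 34], [4, 13, 9, 7, 3, 26, 25, 7, 26]⟩,
  ⟨true, 4, 4, [1, 6, 24, 35, 3, 31, 38, 9, 10, 17], [9, 25, 8, 28, 37, 8, 7, 4, 35]⟩,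
  ⟨true, 4, 4, [4, 13, 19, 7, 37, 8, 38, 12], [11, 15, 5, 35, 7, 15, 4, 7, 38]⟩,
  ⟨true, 4, 4, [9, 4, 32, 3, 14, 7, 1, 12, 7, 29, 6], [2, 25, 27, 3, 33, 37, 16, 5, 38, 25]⟩,
  ⟨true, 4, 4, [14, 18, 12, 6, 7, 23, 38, 19, 24, 27], [4, 36, 4, 28, 7, 9, 13, 7, 13, 28]⟩,
  ⟨true, 3, 4, [3, 6, 22, 35, 7, 27, 37, 3, 14, 8], [4, 14, 25, 27, 32, 38, 9, 7]⟩,
  ⟨true, 4, 4, [5, 18, 34, 2, 7, 3, 28, 7, 17, 7], [17, 4, 19, 36, 7, 10, 38, 18, 7, 37]⟩,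
  ⟨true, 4, 3, [4, 9, 29, 4, 7, 8, 7, 11, 36, 7], [1, 4, 18, 4, 32, 7, 12, 16, 7, 3, 34]⟩,
  ⟨true, 4, 4, [8, 10, 12, 37, 33, 7, 18, 10], [15, 29, 33, 7, 1, 9, 37, 4, 15]⟩,
  ⟨true, 4, 4, [1, 4, 28, 6, 32, 7, 8, 13, 37, 2], [2, 6, 24, 17, 28, 37, 35, 3, 4]⟩,
  ⟨true, 4, 4, [2, 4, 17, 36, 37, 5, 25, 3, 38], [9, 4, 14, 18, 35, 7, 18, 9, 38, 14]⟩,
  ⟨true, 4, 4, [1, 4, 5, 9, 36, 37, 9, 7, 4], [19, 12, 32, 3, 38, 14, 4, 23, 38]⟩,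
  ⟨true, 4, 4, [12, 5, 32, 34, 38, 10, 7, 5, 18], [11, 8, 19, 12, 7, 4, 24, 9, 38]⟩,
  ⟨true, 4, 4, [15, 24, 8, 7, 17, 37, 13, 11], [1, 10, 12, 7, 15, 7, 18, 26]⟩,
  ⟨true, 4, 4, [12, 25, 5, 18, 37, 6, 16, 7, 3], [5, 4, 9, 21, 36, 7, 16, 7, 37, 13, 17]⟩,
  ⟨true, 3, 4, [8, 6, 3, 18, 32, 7, 18, 9, 7, 13], [17, 9, 29, 32, 7, 11, 22, 38, 6]⟩,
  ⟨true, 2, 4, [15, 11, 21, 37, 4, 6, 7], [1, 5, 6, 21, 7, 3, 4, 7, 17, 22]⟩,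
  ⟨true, 3, 3, [15, 12, 27, 32, 31, 37, 3, 11], [2, 13, 21, 36, 7, 12, 29, 7, 1]⟩,
  ⟨true, 4, 2, [4, 19, 12, 5, 35, 38, 4, 7, 1, 3], [3, 18, 6, 13, 36, 7, 9, 7, 19, 29]⟩,
  ⟨true, 3, 3, [1, 32, 3, 4, 12, 37, 5, 14, 37, 8], [9, 24, 4, 8, 7, 3, 16, 38, 9]⟩,
  ⟨true, 4, 4, [11, 33, 22, 7, 11, 7, 37, 12, 38], [3, 6, 12, 10, 38, 17, 14, 37, 6]⟩,
  ⟨true, 4, 3, [9, 22, 25, 7, 9, 14, 37, 18], [3, 25, 3, 28, 31, 37, 5, 33, 7]⟩,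
  ⟨true, 3, 4, [6, 19, 16, 9, 7, 12, 37, 5, 24], [3, 9, 18, 22, 7, 8, 19, 38, 8, 11]⟩,
  ⟨true, 3, 4, [17, 18, 15, 35, 7, 2, 12, 5, 7, 17], [1, 14, 23, 6, 36, 7, 11, 37, 15, 25]⟩,
  ⟨true, 4, 3, [4, 3, 9, 25, 7, 2, 13, 7, 13, 26], [19, 16, 15, 23, 7, 3, 33, 7, 36, 4]⟩,
  ⟨true, 4, 3, [14, 16, 9, 7, 37, 12, 24, 3], [27, 5, 34, 3, 37, 4, 16, 37, 24]⟩,
  ⟨true, 3, 4, [4, 5, 14, 26, 35, 31, 37, 8, 11, 25], [5, 13, 3, 16, 7, 9, 13, 7, 4]⟩,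
  ⟨true, 4, 4, [5, 6, 12, 3, 36, 37, 6, 12, 18, 7], [1, 17, 25, 32, 7, 4, 3, 7, 15, 19]⟩,
  ⟨true, 4, 4, [1, 18, 13, 23, 35, 7, 15, 7, 38, 24, 26], [12, 19, 5, 21, 7, 9, 7, 37, 6, 19]⟩,
  ⟨true, 4, 4, [5, 17, 11, 23, 7, 1, 12, 7, 13, 10], [3, 11, 3, 26, 32, 7, 1, 10, 7, 2, 14]⟩,
  ⟨true, 4, 4, [1, 12, 19, 14, 36, 30, 37, 4, 3, 23], [14, 9, 27, 7, 8, 15, 37, 14]⟩,
  ⟨true, 4, 4, [14, 17, 14, 7, 15, 38, 17, 25], [13, 14, 16, 35, 7, 3, 14, 3, 37, 25]⟩,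
  ⟨true, 4, 4, [1, 17, 25, 32, 7, 4, 3, 7, 15, 19], [5, 6, 12, 3, 36, 37, 6, 12, 18, 7]⟩,
  ⟨true, 4, 2, [3, 19, 27, 3, 35, 7, 19, 37, 24, 25], [2, 9, 25, 26, 32, 7, 15, 8, 37, 16]⟩,
  ⟨true, 4, 4, [19, 10, 32, 2, 37, 9, 34], [1, 8, 25, 14, 7, 29, 7, 16]⟩,
  ⟨true, 2, 4, [5, 6, 3, 29, 36, 7, 3, 8, 38, 16, 5], [8, 28, 6, 3, 36, 7, 18, 3, 38, 17]⟩,
  ⟨true, 4, 4, [10, 21, 27, 7, 8, 37, 9, 7], [1, 15, 23, 36, 7, 19, 38, 17]⟩,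
  ⟨true, 3, 2, [5, 6, 32, 3, 15, 7, 37, 12, 5, 19], [1, 3, 13, 17, 32, 7, 14, 33, 7, 16, 27]⟩,
  ⟨true, 2, 3, [5, 17, 29, 3, 7, 37, 6, 24, 8], [15, 17, 25, 2, 36, 7, 38, 13, 6, 29]⟩]

/-- The reasons. -/
noncomputable def ct : ℕ → Ct := nth .D [
  .D,
  .C 0 ⟨[], 0, [10]⟩,
  .C 0 ⟨[], 0, [14]⟩,
  .C 0 ⟨[], 0, [18]⟩,
  .C 0 ⟨[], 0, [26]⟩,
  .C 0 ⟨[], 0, [33]⟩,
  .C 0 ⟨[], 0, [35]⟩,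
  .C 0 ⟨[], 0, [37]⟩,
  .S 0,
  .T 8 [26, 35, 37, 10, 15, 36, 29] ⟨[], 0, []⟩,
  .D,
  .C 10 ⟨[4], 10, [30]⟩,
  .C 10 ⟨[1, 5], 10, [10, 36]⟩,
  .C 10 ⟨[2, 5], 10, [10, 19, 10, 36]⟩,
  .C 10 ⟨[3, 5], 10, [10, 15, 10, 36]⟩,
  .C 10 ⟨[7, 1, 7, 1, 7, 6, 1], 10, [10, 26, 30, 33]⟩,
  .S 10,
  .T 9 [14, 11, 26, 38, 35] ⟨[5, 7], 10, [18, 31, 38, 35, 38]⟩,
  .T 16 [10, 38, 18, 11, 33, 35] ⟨[7], 10, [11, 37, 11, 37, 36, 38, 28]⟩,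
  .T 17 [38, 14, 33, 35, 38, 15, 28] ⟨[5, 7, 6], 10, [10, 15, 33, 37, 15, 37, 35, 29]⟩,
  .C 19 ⟨[12, 14, 12], 18, [10, 19, 10, 30, 35, 37, 34]⟩,
  .D,
  .C 21 ⟨[4], 21, [30]⟩,
  .C 21 ⟨[3, 1], 21, [19, 26, 34]⟩,
  .C 21 ⟨[3, 2], 21, [26, 33]⟩,
  .C 21 ⟨[3, 5], 21, [26, 33, 35]⟩,
  .C 21 ⟨[7, 1, 7, 1, 7, 6], 21, [11, 18, 30, 28]⟩,
  .S 21,
  .T 9 [11, 14, 38, 14, 18, 37, 18] ⟨[3, 1, 2, 5, 7], 21, [10, 37, 15, 37, 19, 14, 35]⟩,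
  .T 16 [11, 19, 26, 31, 35, 38, 33] ⟨[1, 1], 21, [10, 15, 10, 27, 30, 37, 35]⟩,
  .T 27 [26, 35, 38, 36] ⟨[1], 10, [18, 38, 11, 38, 15, 10]⟩,
  .C 30 ⟨[14, 20, 20], 30, [33, 38, 11, 37, 34]⟩,
  .T 27 [10, 15, 26, 31, 38, 35, 37] ⟨[1, 6, 3], 21, [15, 26, 30, 38, 34, 38, 28]⟩,
  .T 27 [18, 26, 37, 10, 14, 35, 28] ⟨[2, 2, 3, 7, 3], 21, [10, 30, 37, 18, 15, 34, 38]⟩,
  .D,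
  .C 34 ⟨[4], 34, [30]⟩,
  .C 34 ⟨[1, 5, 2, 6, 1], 34, [10, 15, 31, 33, 36, 29]⟩,
  .C 34 ⟨[5, 5, 7, 1, 3, 2, 7], 34, [15, 26, 38, 10, 19, 38]⟩,
  .S 34,
  .T 16 [10, 15, 35, 38, 10, 19, 37] ⟨[3, 1, 5, 7, 1, 2, 1], 34, [19, 14, 30, 38, 18, 35]⟩,
  .T 27 [15, 10, 35, 37, 10, 37, 34] ⟨[6, 3, 2, 7, 5], 34, [15, 18, 26, 37, 19, 29]⟩,
  .T 38 [18, 30, 38, 11, 33, 35, 37] ⟨[6, 3, 7, 3, 3, 1], 34, [19, 10, 31, 38, 18, 35]⟩,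
  .T 39 [26, 35, 38, 19, 10] ⟨[20, 13, 12], 18, [18, 15, 38, 19, 38, 34]⟩,
  .C 42 ⟨[13, 11, 20, 20, 15, 12], 42, [10, 18, 35, 37, 10, 37, 33, 37, 29]⟩,
  .T 40 [38, 10, 36, 37, 14, 11] ⟨[24], 32, [18, 31, 38, 19, 33, 35]⟩,
  .T 41 [10, 37, 15, 10, 38, 33, 37] ⟨[37, 37], 41, [10, 15, 18, 37, 15, 37, 10]⟩,
  .T 44 [15, 33, 37, 18, 33, 29] ⟨[36, 37, 43], 40, [18, 33, 35, 38, 14, 29]⟩,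
  .T 45 [11, 27, 33, 36, 37, 15, 10] ⟨[35, 43, 35, 43, 36, 43], 45, [11, 15, 37, 10, 38, 18, 34]⟩,
  .T 46 [10, 38, 14, 19, 37, 34] ⟨[31, 31, 23, 25], 44, [36, 37, 10, 37, 14, 38]⟩,
  .T 47 [18, 27, 38, 14, 37, 35] ⟨[35, 35, 43, 35, 35, 43, 37, 35, 36], 48, [10, 31, 34, 38, 14, 29]⟩,
  .T 48 [14, 30, 38, 11, 38] ⟨[31, 23, 22, 22, 31, 25], 49, [14, 37, 36, 38, 10]⟩,
  .T 49 [18, 15, 38, 10, 36] ⟨[35, 35, 43, 35, 36, 43, 36], 39, [18, 11, 38, 11, 37, 29]⟩,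
  .T 50 [18, 38, 10, 38, 14] ⟨[35, 35, 43, 35, 35, 43, 36, 35], 50, [10, 19, 30, 37, 10, 33]⟩,
  .T 51 [14, 10, 26] ⟨[24, 31, 23, 22], 46, [14, 18, 27, 33, 38, 10, 19]⟩,
  .T 52 [14, 35, 38, 10, 38, 36] ⟨[37, 43, 35, 36, 43], 50, [14, 33, 38, 10, 18, 15, 36]⟩,
  .T 53 [11, 35, 38, 11, 38, 15, 10] ⟨[15, 20, 20, 11, 11, 20, 13], 42, [14, 27, 35, 38, 19, 10]⟩,
  .T 54 [14, 38, 11, 38, 10, 35] ⟨[36, 43, 35], 52, [14, 26, 30, 34, 38, 11, 29]⟩,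
  .T 55 [37, 15, 19, 38, 19] ⟨[26, 26, 31, 25, 23], 44, [11, 26, 31, 33, 38, 14, 18]⟩,
  .T 56 [33, 38, 14, 35, 38, 11, 28] ⟨[35, 43, 36, 43, 35, 35, 43], 56, [11, 14, 36, 37, 15, 37, 11]⟩,
  .T 57 [10, 14, 36, 37, 19, 10] ⟨[37, 37, 35, 35, 43, 36], 58, [15, 37, 18, 37, 14, 28]⟩,
  .T 58 [14, 18, 31, 37, 18, 34] ⟨[35, 35, 43, 35, 43, 35], 48, [10, 15, 19, 26, 38, 10, 34]⟩,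
  .T 59 [18, 30, 33, 35, 38] ⟨[35, 35, 43, 35, 35, 43, 37, 36], 54, [15, 37, 36, 38, 10]⟩,
  .T 60 [10, 38, 33, 37, 15, 37, 28] ⟨[36, 43, 37, 35, 35], 57, [18, 10, 26, 37, 19, 10]⟩,
  .T 61 [10, 18, 37, 15, 18, 37, 29] ⟨[35, 43, 35, 35, 43, 35, 36, 43, 37, 35], 59, [15, 30, 33, 36, 38, 15]⟩,
  .T 62 [11, 27, 38, 34, 37, 14] ⟨[31, 31, 25, 23], 44, [38, 14, 38, 19, 38, 29]⟩,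
  .T 63 [11, 37, 35, 38, 14, 38, 11] ⟨[35, 43, 35, 36, 43, 37, 37, 35], 58, [10, 18, 38, 19, 10, 38, 34]⟩,
  .T 64 [11, 15, 19, 35, 38, 15, 35] ⟨[36, 35, 43, 35, 35], 64, [10, 31, 38, 18, 37, 28]⟩,
  .T 65 [10, 15, 27, 31, 33, 38, 36, 29] ⟨[43, 37, 35, 43], 59, [19, 26, 38, 14, 10, 37]⟩,
  .T 66 [35, 38, 11, 34, 38, 29] ⟨[36, 43, 35, 36, 43, 36, 35], 63, [14, 26, 35, 29]⟩,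
  .T 67 [15, 10, 37, 15, 38, 10, 15] ⟨[35, 43, 35, 35, 43, 35, 35, 43], 63, [10, 14, 31, 35, 38, 10, 28]⟩,
  .T 68 [11, 35, 37, 14, 37, 18, 28] ⟨[43, 35], 48, [18, 15, 26, 37, 10, 37, 34]⟩,
  .T 69 [15, 10, 31, 37, 11] ⟨[36, 35, 43, 37], 39, [10, 14, 33, 35, 38, 15, 11, 29]⟩,
  .T 70 [14, 18, 27, 37, 15, 10] ⟨[43, 35, 36, 43, 37, 35, 43], 40, [14, 30, 35, 38, 10]⟩,
  .T 71 [19, 10, 27, 30, 36] ⟨[43, 35, 35, 43, 35, 36, 43, 37], 50, [19, 10, 27, 37, 18, 29]⟩,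
  .T 72 [31, 37, 18, 38, 36] ⟨[26, 26], 46, [10, 18, 31, 35, 37, 14, 33]⟩,
  .T 73 [27, 37, 11, 35, 38] ⟨[20, 11, 12, 20, 11], 42, [10, 33, 37, 18, 38, 14, 11, 35]⟩,
  .T 74 [19, 33, 38, 14, 35, 37] ⟨[31, 26, 31, 26, 31, 24, 26], 49, [10, 15, 38, 11, 35]⟩,
  .T 75 [10, 15, 33, 37, 10, 38, 29] ⟨[35, 35, 43, 35, 36, 43], 55, [10, 14, 37, 10, 18, 38, 35]⟩,
  .T 76 [10, 26, 30, 35, 37, 18, 38] ⟨[26, 31, 22, 31, 24], 46, [10, 15, 35, 38, 11, 38, 34, 29]⟩,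
  .T 77 [14, 31, 36, 37, 19, 14] ⟨[36, 43, 35, 36, 43, 37, 35, 43], 56, [11, 34, 37, 15, 37, 19]⟩,
  .T 78 [10, 30, 37, 36, 38, 19, 28] ⟨[43, 35, 43, 36, 43, 35, 35], 66, [15, 27, 33, 38, 18, 29]⟩,
  .T 79 [37, 15, 18, 34, 37, 11] ⟨[24, 22, 31, 23, 25], 72, [38, 18, 15, 38, 18, 10]⟩,
  .T 80 [10, 15, 37, 11, 37, 36, 29] ⟨[31, 25], 70, [19, 37, 15, 10]⟩,
  .T 82 [38, 15, 37, 10, 19, 33, 36] ⟨[35, 35, 43, 35, 43, 35], 69, [11, 14, 30, 37, 29]⟩,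
  .T 83 [10, 35, 37, 18, 38, 36, 37] ⟨[43, 35, 35, 43, 35, 35, 43, 37, 37, 35, 35], 54, [14, 11, 31, 38, 14, 18, 35]⟩,
  .T 84 [18, 27, 38, 15, 38, 33, 38] ⟨[36, 35, 43, 37, 37, 36], 65, [10, 15, 10, 31, 38, 14, 18]⟩,
  .T 85 [11, 14, 38, 18, 15] ⟨[36], 63, [11, 18, 31, 37, 14, 37, 36]⟩,
  .S 82,
  .T 18 [11, 26, 37, 15, 38, 18, 35] ⟨[15, 20, 20, 11, 20, 14, 20], 42, [14, 38, 10, 38, 19, 20]⟩,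
  .T 38 [10, 19, 27, 37, 14, 38, 10] ⟨[2, 7, 7, 1, 2, 1], 34, [10, 30, 37, 34, 38, 14]⟩,
  .T 40 [10, 19, 27, 38, 19, 14, 36] ⟨[26, 24, 31, 24], 53, [10, 26, 31, 38, 18, 15, 28]⟩,
  .T 41 [14, 38, 14, 35, 38, 15] ⟨[36, 37], 41, [10, 18, 37, 10, 18, 33, 28]⟩,
  .T 42 [10, 14, 18, 27, 38, 33, 36] ⟨[37, 37, 36, 35], 48, [37, 15, 33, 38, 14, 11]⟩,
  .T 46 [10, 30, 35, 37, 19, 34, 29] ⟨[24, 26, 23], 53, [37, 34, 38, 15, 38, 18]⟩]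

theorem chk0 : allW (fun n => chk ft n (ct n)) 0 24 = true := by decide +kernel
theorem chk1 : allW (fun n => chk ft n (ct n)) 24 20 = true := by decide +kernel
theorem chk2 : allW (fun n => chk ft n (ct n)) 44 17 = true := by decide +kernel
theorem chk3 : allW (fun n => chk ft n (ct n)) 61 17 = true := by decide +kernel
theorem chk4 : allW (fun n => chk ft n (ct n)) 78 16 = true := by decide +kernel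

theorem LD.hold {G : Type*} [Group G] {g : ℕ → G} (h : LD g) : ∀ n < 94, Hold g (ft n) :=
  h.holds (ct := ct) (all_step (all_step (all_step (all_step (all_step (all_zero _) chk0 rfl) chk1 rfl) chk2 rfl) chk3 rfl) chk4 rfl)

end Cfsg.Agent.H67.Ly
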