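import Mathlib

/-! Relators used in the recognition of the McLaughlin group. -/

set_option autoImplicit false

namespace Cfsg.Agent.H67.Mc

def RH : List (List ℕ) := [[1, 1],
  [2, 2],
  [3, 3],
  [4, 4],
  [5, 5],
  [6, 6],
  [1, 4, 1, 4],
  [2, 3, 2, 3],
  [2, 5, 2, 5],
  [2, 6, 2, 6],
  [3, 5, 3, 5],
  [1, 2, 1, 2, 1, 2],
  [1, 3, 1, 3, 1, 3],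
  [3, 4, 3, 4, 3, 4],
  [4, 5, 4, 5, 4, 5],
  [4, 5, 6, 5, 4, 6],
  [2, 3, 4, 6, 4, 3, 6],
  [2, 3, 5, 6, 3, 5, 6],
  [2, 3, 5, 6, 5, 3, 6],
  [2, 3, 6, 3, 4, 6, 4],
  [2, 3, 6, 3, 5, 6, 5],
  [2, 3, 6, 5, 3, 6, 5],
  [1, 2, 1, 2, 1, 3, 2, 3],
  [1, 2, 1, 2, 1, 5, 2, 5],
  [1, 2, 1, 2, 1, 6, 2, 6],
  [1, 2, 3, 2, 1, 3, 1, 3],
  [1, 3, 1, 3, 1, 5, 3, 5],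
  [1, 3, 4, 3, 4, 3, 1, 4],
  [1, 4, 1, 5, 6, 5, 4, 6],
  [1, 5, 1, 5, 1, 5, 1, 5],
  [1, 6, 1, 6, 1, 6, 1, 6],
  [1, 6, 4, 6, 1, 6, 4, 6],
  [2, 4, 2, 4, 2, 4, 2, 4],
  [2, 4, 5, 4, 5, 4, 2, 5],
  [2, 4, 6, 4, 2, 4, 6, 4],
  [2, 4, 6, 4, 2, 5, 6, 5],
  [3, 4, 5, 4, 5, 4, 3, 5],
  [3, 4, 6, 4, 5, 6, 3, 5],
  [3, 6, 3, 6, 3, 6, 3, 6],
  [3, 6, 5, 6, 3, 6, 5, 6],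
  [4, 5, 4, 5, 6, 4, 5, 6],
  [4, 6, 4, 6, 4, 6, 4, 6],
  [4, 6, 4, 6, 5, 6, 5, 6],
  [1, 2, 1, 4, 2, 1, 4, 2, 4],
  [1, 2, 1, 5, 1, 2, 5, 1, 5],
  [1, 2, 1, 6, 1, 2, 6, 1, 6],
  [1, 2, 4, 2, 1, 2, 4, 2, 4],
  [1, 2, 5, 1, 2, 5, 1, 5, 2],
  [1, 2, 6, 1, 2, 6, 1, 6, 2],
  [1, 3, 6, 2, 3, 4, 6, 1, 4],
  [1, 3, 6, 3, 2, 4, 6, 1, 4],
  [2, 3, 4, 2, 3, 4, 3, 2, 4],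
  [2, 3, 4, 2, 4, 3, 4, 2, 4],
  [2, 3, 4, 2, 6, 2, 4, 3, 6],
  [2, 3, 4, 6, 3, 4, 3, 4, 6],
  [2, 3, 5, 4, 6, 4, 3, 6, 5],
  [2, 3, 6, 3, 6, 4, 6, 4, 6],
  [2, 3, 6, 4, 3, 4, 3, 6, 4],
  [2, 3, 6, 4, 6, 4, 6, 3, 6],
  [2, 4, 3, 4, 3, 6, 4, 3, 6],
  [2, 4, 6, 4, 6, 3, 6, 3, 6],
  [1, 2, 4, 2, 1, 3, 4, 2, 4, 3],
  [1, 2, 4, 6, 4, 2, 4, 6, 1, 4],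
  [1, 3, 4, 5, 1, 5, 4, 3, 1, 5],
  [1, 4, 5, 6, 5, 6, 1, 6, 4, 6],
  [1, 4, 6, 1, 6, 4, 1, 6, 1, 6],
  [1, 4, 6, 4, 6, 1, 5, 6, 5, 6],
  [1, 4, 6, 4, 6, 1, 6, 5, 6, 5],
  [1, 4, 6, 4, 6, 4, 1, 6, 4, 6],
  [1, 4, 6, 5, 6, 5, 1, 6, 4, 6],
  [1, 5, 6, 5, 6, 1, 5, 6, 5, 6],
  [1, 5, 6, 5, 6, 1, 6, 5, 6, 5],
  [2, 3, 4, 3, 6, 2, 4, 3, 6, 4],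
  [2, 3, 4, 6, 3, 4, 2, 6, 3, 4],
  [2, 3, 5, 3, 2, 4, 5, 4, 5, 4],
  [2, 4, 2, 4, 2, 6, 4, 2, 4, 6],
  [2, 4, 3, 4, 2, 4, 6, 3, 4, 6],
  [2, 4, 5, 4, 5, 6, 4, 2, 5, 6],
  [2, 4, 6, 4, 2, 6, 4, 6, 4, 6],
  [2, 4, 6, 4, 2, 6, 5, 6, 5, 6],
  [3, 4, 3, 4, 5, 3, 6, 5, 4, 6],
  [3, 4, 3, 6, 4, 6, 3, 6, 4, 6],
  [3, 4, 6, 4, 6, 3, 5, 6, 5, 6],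
  [3, 4, 6, 5, 4, 5, 4, 6, 3, 5],
  [3, 5, 4, 6, 4, 6, 3, 6, 5, 6],
  [1, 2, 3, 1, 5, 1, 6, 3, 6, 1, 5],
  [1, 4, 5, 1, 4, 5, 1, 6, 4, 6, 5]]
def Rb : List (List ℕ) := [[7, 7],
  [1, 7, 1, 7, 1, 7],
  [1, 2, 7, 1, 2, 7],
  [1, 7, 5, 7, 1, 5],
  [7, 6, 7, 6]]
def Rp1 : List (List ℕ) := [[3, 7, 3, 7, 3, 7, 3, 7, 3, 7],
  [1, 2, 7, 3, 7, 3, 1, 2, 7, 3, 7, 3, 1, 2, 7, 3, 7, 3]]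
def Rp2 : List (List ℕ) := [[4, 7, 4, 7, 4, 7, 4, 7, 4, 7],
  [2, 4, 7, 4, 2, 7, 2, 4, 7, 4, 2, 7, 2, 4, 7, 4, 2, 7]]
def R1 : List (List ℕ) := [[2, 7, 2, 7, 2, 7],
  [1, 2, 1, 2, 7, 2, 1, 7],
  [1, 2, 7, 1, 3, 2, 3, 7],
  [1, 2, 7, 1, 6, 2, 7, 6],
  [1, 2, 5, 7, 1, 5, 2, 7],
  [1, 7, 1, 7, 1, 6, 7, 6],
  [1, 7, 1, 7, 5, 1, 7, 5],
  [1, 7, 5, 6, 7, 6, 1, 5],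
  [1, 5, 1, 5, 7, 5, 7, 5],
  [5, 6, 5, 6, 5, 6, 5, 6],
  [1, 2, 7, 5, 1, 2, 5, 7, 5],
  [1, 2, 7, 5, 1, 5, 2, 7, 5],
  [1, 2, 7, 5, 7, 5, 2, 1, 5],
  [1, 3, 7, 1, 3, 7, 1, 3, 7],
  [1, 7, 1, 6, 1, 7, 6, 1, 6],
  [1, 7, 6, 1, 7, 6, 1, 6, 7],
  [2, 3, 5, 7, 6, 7, 5, 3, 6],
  [2, 7, 2, 5, 7, 2, 5, 7, 5],
  [1, 2, 1, 7, 2, 5, 7, 1, 5, 7],
  [1, 2, 7, 1, 6, 7, 2, 7, 2, 6],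
  [1, 2, 7, 2, 1, 3, 2, 3, 1, 7],
  [1, 2, 7, 2, 1, 5, 2, 1, 7, 5],
  [1, 2, 7, 2, 7, 5, 2, 7, 1, 5],
  [1, 2, 5, 7, 1, 5, 6, 2, 7, 6],
  [1, 3, 1, 3, 7, 5, 7, 1, 3, 5],
  [1, 7, 5, 1, 7, 5, 1, 6, 7, 6]]
def R2 : List (List ℕ) := [[1, 2, 7, 4, 7, 2, 4, 2, 7, 4],
  [1, 4, 2, 7, 4, 7, 2, 4, 2, 7],
  [1, 4, 7, 5, 7, 1, 6, 5, 4, 6],
  [1, 4, 7, 5, 7, 4, 1, 5, 4, 5],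
  [1, 7, 4, 5, 4, 5, 4, 7, 1, 5],
  [1, 7, 4, 6, 4, 5, 7, 6, 1, 5]]
def R0 : List (List ℕ) := RH ++ (Rb ++ (Rp1 ++ Rp2))
def RA : List (List ℕ) := R0 ++ (R1 ++ R2)
def RC : List (List ℕ) := [20, 20] :: ((List.range 6).flatMap (fun i => [[8 + 2 * i, 9 + 2 * i],
  [8 + 2 * i, 8 + 2 * i, 8 + 2 * i], [8 + 2 * i, 20, 9 + 2 * i, 20]]) ++
  (List.range 6).flatMap fun i => (List.range i).map fun j => [8 + 2 * j, 8 + 2 * i, 8 + 2 * j, 8 + 2 * i, 20])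

end Cfsg.Agent.H67.Mc
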