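import Cfsg.Agent.H44.Coset
import Cfsg.Agent.H44.Perm
import Cfsg.Agent.H67.McP

set_option autoImplicit false
set_option maxRecDepth 1000000
set_option linter.all false
set_option Elab.async false

namespace Cfsg.Agent.H67.McC.C2
open Cfsg.Agent.H44

noncomputable def rT0 : Tr :=
 (.leaf (nat_lit 0x56bbe260a5714526ad89354124a03a4090a97b0f4d2ab7614c0e3a5b4dd9e073a0e51ef676ac40c32022388a86690948c685a93c0822593cdae0438084064558b5d141d6bb49ac4c0186914d42580cda19011b1a88822854d849012b86e144a008d4366a84c027548115560d1a918023419830e001338c9620b001c4dc6b340146243000c05e0417000c82d1600c562a1490400021409c4c00310044a24118884200))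
noncomputable def gT0 : Tr :=
 (.leaf (nat_lit 0))
/-- The relators. -/
def R : List (List ℕ) := [[1, 2],
  [3, 4],
  [5, 5],
  [1, 1, 1],
  [1, 5, 2, 5],
  [3, 3, 3],
  [3, 5, 4, 5],
  [1, 3, 1, 3, 5]]
/-- The subgroup generators. -/
def S : List (List ℕ) := []
def Wr : List (List ℕ) := [[1, 2],
  [2, 1],
  [3, 4],
  [4, 3],
  [5, 5],
  [2, 2, 2],
  [4, 4, 4],
  [2, 5, 1, 5],
  [5, 3, 5, 4],
  [1, 5, 2, 5],
  [3, 5, 1, 3, 1],
  [4, 2, 5, 4, 2],
  [4, 5, 3, 5],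
  [3, 1, 3, 5, 1],
  [5, 4, 2, 4, 2],
  [3, 5, 4, 5],
  [4, 2, 4, 2, 5],
  [5, 1, 5, 2],
  [1, 1, 1],
  [5, 2, 5, 1]]
def Wn : List (List ℕ) := []
def cr : List (ℕ × ℕ × ℕ) := [(0, 0, 0), (0, 0, 0), (0, 0, 0), (0, 0, 0), (0, 0, 0), (2, 3, 0), (2, 5, 0), (1, 4, 2), (1, 6, 3), (1, 4, 0), (1, 7, 3), (2, 7, 3), (1, 6, 2), (1, 7, 1), (2, 7, 0), (1, 6, 0), (2, 7, 1), (1, 4, 3), (1, 3, 0), (1, 4, 1)]
def cn : List (ℕ × ℕ × ℕ) := []
noncomputable def rT : Tr := rT0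
noncomputable def gT : Tr := gT0
noncomputable def rC (i : ℕ) : ℕ := rT.get (nat_lit 0) i
noncomputable def gC (i : ℕ) : ℕ := gT.get (nat_lit 0) i
noncomputable def row (p : ℕ) : ℕ := rec2 rC (nat_lit 6) (nat_lit 63) (nat_lit 54) (nat_lit 0x3fffffffffffff) p
noncomputable def gf (p : ℕ) : ℕ := rec2 gC (nat_lit 8) (nat_lit 255) (nat_lit 17) (nat_lit 131071) p
noncomputable def gw (c : ℕ) : List ℕ := nth [] Wr c
noncomputable def wn (c : ℕ) : ℕ := pack (nat_lit 3) (nth [] Wn c) (nat_lit 0)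
noncomputable def C : Cert :=
  { n := (nat_lit 24), na := (nat_lit 0), M := (nat_lit 0), nc := (nat_lit 5), W := (nat_lit 5), EB := (nat_lit 9),
    LB := (nat_lit 3), nreg := (nat_lit 20), ivT := (nat_lit 178256), base := (nat_lit 0),
    row := row, gf := gf, gw := gw, wn := wn }
theorem masks : Masks C (nat_lit 31) (nat_lit 511) (nat_lit 7) (nat_lit 13) (nat_lit 8191) :=
  ⟨by decide +kernel, by decide +kernel, by decide +kernel, by decide +kernel, by decide +kernel⟩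
noncomputable def rchk : ℕ → ℕ → ℕ → Bool :=
  rowChk row gf gw (nat_lit 24) (nat_lit 0) (nat_lit 5) (nat_lit 5) (nat_lit 31) (nat_lit 9) (nat_lit 511) (nat_lit 3) (nat_lit 7) (nat_lit 13) (nat_lit 8191) (nat_lit 20) (nat_lit 178256) (nat_lit 1) (nat_lit 1) (nat_lit 7) (nat_lit 127)
noncomputable def fchk : ℕ → ℕ → ℕ → Bool :=
  auxRun row gf wn (nat_lit 24) (nat_lit 0) (nat_lit 0) (nat_lit 5) (nat_lit 5) (nat_lit 31) (nat_lit 9) (nat_lit 511) (nat_lit 3) (nat_lit 7) (nat_lit 13) (nat_lit 178256) (nat_lit 0) (nat_lit 3) (nat_lit 7)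
theorem rows_of {lo hi : ℕ} {t : JL} (h : t.run rchk (nat_lit 35) hi lo = true) : C.RowsOK lo hi :=
  rowsOK_of_run masks h
theorem facts_of {lo hi : ℕ} {t : JL} (h : t.run fchk (nat_lit 20) hi lo = true) : C.FactsOK lo hi :=
  factsOK_of_run masks h
theorem words_ok : wordsChk 24 5 5 3 20 178256 0 R S Wr Wn cr cn = true := by
  decide +kernel
noncomputable def j0 : JL :=
(.cons (nat_lit 16) (nat_lit 0xa107000200683042828c06180050e2c0010010188142438004042800608080080c4010a1c0020214003040400406080850e001010a0018202142030c002840600085080c101) (nat_lit 0)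
(.cons (nat_lit 8) (nat_lit 0x281070026486030c0000d202008f180c3000a1058002488830c0000d202008f180c300) (nat_lit 0)
.nil))
theorem t0 : C.RowsOK (nat_lit 0) (nat_lit 24) :=
  rows_of (t := j0) (by decide +kernel)
theorem checked : Checked C R S :=
  ⟨⟨Wr, Wn, cr, cn, fun _ => rfl, fun _ => rfl, words_ok⟩, t0,
    fun _ _ h => absurd h (Nat.not_lt_zero _)⟩

/-- In any group whose elements `g 1, …, g 5` satisfy the relators `R`, a subgroup containing the words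
of `S` has index at most 24 in the subgroup generated by these elements. -/
theorem idxLe {G : Type*} [Group G] {g : ℕ → G} (hg : Sat g R) {H : Subgroup G}
    (hS : ∀ s ∈ S, ev g s ∈ H) : IdxLe H (gen g 5) 24 :=
  checked.idxLe hg hS

end Cfsg.Agent.H67.McC.C2

namespace Cfsg.Agent.H67.McC.C3
open Cfsg.Agent.H44

noncomputable def rT0 : Tr :=
 (.leaf (nat_lit 0x24343c2a01343c2423333b333b2a01221a1100213421330619001a0c2a0b2a05100a091810181000))
noncomputable def gT0 : Tr :=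
 (.leaf (nat_lit 0x9c008c00840040003000200))
/-- The relators. -/
def R : List (List ℕ) := [[1, 2],
  [3, 4],
  [5, 6],
  [7, 7],
  [1, 1, 1],
  [1, 7, 2, 7],
  [3, 3, 3],
  [3, 7, 4, 7],
  [5, 5, 5],
  [5, 7, 6, 7],
  [1, 3, 1, 3, 7],
  [1, 5, 1, 5, 7],
  [3, 5, 3, 5, 7]]
/-- The subgroup generators. -/
def S : List (List ℕ) := [[1],
  [2],
  [3],
  [4],
  [7]]
def Wr : List (List ℕ) := [[2, 1],
  [4, 3],
  [5, 6],
  [6, 5],
  [1, 2],
  [3, 4],
  [7, 6, 7, 5],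
  [2, 6, 2, 7, 6],
  [4, 6, 4, 7, 6],
  [6, 6, 6],
  [7, 5, 7, 6],
  [2, 2, 2],
  [4, 2, 7, 4, 2],
  [6, 2, 7, 6, 2],
  [7, 1, 7, 2],
  [2, 4, 2, 7, 4],
  [4, 4, 4],
  [6, 4, 7, 6, 4],
  [7, 3, 7, 4]]
def Wn : List (List ℕ) := [[1, 8],
  [3, 12],
  [7, 16]]
def cr : List (ℕ × ℕ × ℕ) := [(0, 0, 0), (0, 0, 0), (0, 0, 0), (0, 0, 0), (0, 0, 0), (0, 0, 0), (1, 9, 1), (2, 11, 2), (2, 12, 2), (2, 8, 0), (1, 9, 3), (2, 4, 0), (2, 10, 3), (2, 11, 3), (1, 5, 3), (2, 10, 2), (2, 6, 0), (2, 12, 3), (1, 7, 3)]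
def cn : List (ℕ × ℕ × ℕ) := [(1, 13, 0), (1, 15, 0), (1, 17, 0)]
noncomputable def rT : Tr := rT0
noncomputable def gT : Tr := gT0
noncomputable def rC (i : ℕ) : ℕ := rT.get (nat_lit 0) i
noncomputable def gC (i : ℕ) : ℕ := gT.get (nat_lit 0) i
noncomputable def row (p : ℕ) : ℕ := rec2 rC (nat_lit 6) (nat_lit 63) (nat_lit 64) (nat_lit 0xffffffffffffffff) p
noncomputable def gf (p : ℕ) : ℕ := rec2 gC (nat_lit 8) (nat_lit 255) (nat_lit 16) (nat_lit 65535) p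
noncomputable def gw (c : ℕ) : List ℕ := nth [] Wr c
noncomputable def wn (c : ℕ) : ℕ := pack (nat_lit 5) (nth [] Wn c) (nat_lit 0)
noncomputable def C : Cert :=
  { n := (nat_lit 5), na := (nat_lit 0), M := (nat_lit 6), nc := (nat_lit 7), W := (nat_lit 3), EB := (nat_lit 8),
    LB := (nat_lit 5), nreg := (nat_lit 19), ivT := (nat_lit 0x21173d8d52d09394c320440), base := (nat_lit 87296),
    row := row, gf := gf, gw := gw, wn := wn }
theorem masks : Masks C (nat_lit 7) (nat_lit 255) (nat_lit 31) (nat_lit 11) (nat_lit 2047) :=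
  ⟨by decide +kernel, by decide +kernel, by decide +kernel, by decide +kernel, by decide +kernel⟩
noncomputable def rchk : ℕ → ℕ → ℕ → Bool :=
  rowChk row gf gw (nat_lit 5) (nat_lit 6) (nat_lit 7) (nat_lit 3) (nat_lit 7) (nat_lit 8) (nat_lit 255) (nat_lit 5) (nat_lit 31) (nat_lit 11) (nat_lit 2047) (nat_lit 19) (nat_lit 0x21173d8d52d09394c320440) (nat_lit 3) (nat_lit 7) (nat_lit 8) (nat_lit 255)
noncomputable def fchk : ℕ → ℕ → ℕ → Bool :=
  auxRun row gf wn (nat_lit 5) (nat_lit 0) (nat_lit 6) (nat_lit 7) (nat_lit 3) (nat_lit 7) (nat_lit 8) (nat_lit 255) (nat_lit 5) (nat_lit 31) (nat_lit 11) (nat_lit 0x21173d8d52d09394c320440) (nat_lit 87296) (nat_lit 5) (nat_lit 31)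
theorem rows_of {lo hi : ℕ} {t : JL} (h : t.run rchk (nat_lit 56) hi lo = true) : C.RowsOK lo hi :=
  rowsOK_of_run masks h
theorem facts_of {lo hi : ℕ} {t : JL} (h : t.run fchk (nat_lit 20) hi lo = true) : C.FactsOK lo hi :=
  factsOK_of_run masks h
theorem words_ok : wordsChk 5 7 3 5 19 640068830579332809609053248 87296 R S Wr Wn cr cn = true := by
  decide +kernel
noncomputable def j0 : JL :=
(.cons (nat_lit 5) (nat_lit 0x131203110010050f0e030d060c000b0a00090608050700030206010516040302150114) (nat_lit 355)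
.nil)
theorem t0 : C.RowsOK (nat_lit 0) (nat_lit 5) :=
  rows_of (t := j0) (by decide +kernel)
noncomputable def j1 : JL :=
(.cons (nat_lit 6) (nat_lit 0x820006500048000300001800000) (nat_lit 0x2c00400d20020047001001000000000000000000)
.nil)
theorem t1 : C.FactsOK (nat_lit 0) (nat_lit 6) :=
  facts_of (t := j1) (by decide +kernel)
theorem checked : Checked C R S :=
  ⟨⟨Wr, Wn, cr, cn, fun _ => rfl, fun _ => rfl, words_ok⟩, t0,
    t1⟩

/-- In any group whose elements `g 1, …, g 7` satisfy the relators `R`, a subgroup containing the words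
of `S` has index at most 5 in the subgroup generated by these elements. -/
theorem idxLe {G : Type*} [Group G] {g : ℕ → G} (hg : Sat g R) {H : Subgroup G}
    (hS : ∀ s ∈ S, ev g s ∈ H) : IdxLe H (gen g 7) 5 :=
  checked.idxLe hg hS

end Cfsg.Agent.H67.McC.C3

namespace Cfsg.Agent.H67.McC.C4
open Cfsg.Agent.H44

noncomputable def rT0 : Tr :=
 (.leaf (nat_lit 0x25353d2a01353d353d2624343c343c2a01343c2423333b333b333b2a01221a11002135213421330819001a0d2a0c2a0b2a07100a0918101810181000))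
noncomputable def gT0 : Tr :=
 (.leaf (nat_lit 0xa40094008c008400580048003800280))
/-- The relators. -/
def R : List (List ℕ) := [[1, 2],
  [3, 4],
  [5, 6],
  [7, 8],
  [9, 9],
  [1, 1, 1],
  [1, 9, 2, 9],
  [3, 3, 3],
  [3, 9, 4, 9],
  [5, 5, 5],
  [5, 9, 6, 9],
  [7, 7, 7],
  [7, 9, 8, 9],
  [1, 3, 1, 3, 9],
  [1, 5, 1, 5, 9],
  [3, 5, 3, 5, 9],
  [1, 7, 1, 7, 9],
  [3, 7, 3, 7, 9],
  [5, 7, 5, 7, 9]]
/-- The subgroup generators. -/
def S : List (List ℕ) := [[1],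
  [2],
  [3],
  [4],
  [5],
  [6],
  [9]]
def Wr : List (List ℕ) := [[2, 1],
  [4, 3],
  [6, 5],
  [7, 8],
  [8, 7],
  [1, 2],
  [3, 4],
  [5, 6],
  [9, 8, 9, 7],
  [2, 8, 2, 9, 8],
  [4, 8, 4, 9, 8],
  [6, 8, 6, 9, 8],
  [8, 8, 8],
  [9, 7, 9, 8],
  [2, 2, 2],
  [4, 2, 9, 4, 2],
  [6, 2, 9, 6, 2],
  [8, 2, 9, 8, 2],
  [9, 1, 9, 2],
  [2, 4, 2, 9, 4],
  [4, 4, 4],
  [6, 4, 9, 6, 4],
  [8, 4, 9, 8, 4],
  [9, 3, 9, 4],
  [2, 6, 2, 9, 6],
  [4, 6, 4, 9, 6],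
  [6, 6, 6],
  [8, 6, 9, 8, 6],
  [9, 5, 9, 6]]
def Wn : List (List ℕ) := [[1, 10],
  [3, 14],
  [5, 18],
  [9, 22]]
def cr : List (ℕ × ℕ × ℕ) := [(0, 0, 0), (0, 0, 0), (0, 0, 0), (0, 0, 0), (0, 0, 0), (0, 0, 0), (0, 0, 0), (0, 0, 0), (1, 12, 1), (2, 16, 2), (2, 17, 2), (2, 18, 2), (2, 11, 0), (1, 12, 3), (2, 5, 0), (2, 13, 3), (2, 14, 3), (2, 16, 3), (1, 6, 3), (2, 13, 2), (2, 7, 0), (2, 15, 3), (2, 17, 3), (1, 8, 3), (2, 14, 2), (2, 15, 2), (2, 9, 0), (2, 18, 3), (1, 10, 3)]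
def cn : List (ℕ × ℕ × ℕ) := [(1, 19, 0), (1, 21, 0), (1, 23, 0), (1, 25, 0)]
noncomputable def rT : Tr := rT0
noncomputable def gT : Tr := gT0
noncomputable def rC (i : ℕ) : ℕ := rT.get (nat_lit 0) i
noncomputable def gC (i : ℕ) : ℕ := gT.get (nat_lit 0) i
noncomputable def row (p : ℕ) : ℕ := rec2 rC (nat_lit 6) (nat_lit 63) (nat_lit 80) (nat_lit 0xffffffffffffffffffff) p
noncomputable def gf (p : ℕ) : ℕ := rec2 gC (nat_lit 8) (nat_lit 255) (nat_lit 16) (nat_lit 65535) p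
noncomputable def gw (c : ℕ) : List ℕ := nth [] Wr c
noncomputable def wn (c : ℕ) : ℕ := pack (nat_lit 5) (nth [] Wn c) (nat_lit 0)
noncomputable def C : Cert :=
  { n := (nat_lit 6), na := (nat_lit 0), M := (nat_lit 8), nc := (nat_lit 9), W := (nat_lit 3), EB := (nat_lit 8),
    LB := (nat_lit 5), nreg := (nat_lit 29), ivT := (nat_lit 0xb5e9594e1173d8d52d27414c320440), base := (nat_lit 0x555400),
    row := row, gf := gf, gw := gw, wn := wn }
theorem masks : Masks C (nat_lit 7) (nat_lit 255) (nat_lit 31) (nat_lit 11) (nat_lit 2047) :=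
  ⟨by decide +kernel, by decide +kernel, by decide +kernel, by decide +kernel, by decide +kernel⟩
noncomputable def rchk : ℕ → ℕ → ℕ → Bool :=
  rowChk row gf gw (nat_lit 6) (nat_lit 8) (nat_lit 9) (nat_lit 3) (nat_lit 7) (nat_lit 8) (nat_lit 255) (nat_lit 5) (nat_lit 31) (nat_lit 11) (nat_lit 2047) (nat_lit 29) (nat_lit 0xb5e9594e1173d8d52d27414c320440) (nat_lit 3) (nat_lit 7) (nat_lit 8) (nat_lit 255)
noncomputable def fchk : ℕ → ℕ → ℕ → Bool :=
  auxRun row gf wn (nat_lit 6) (nat_lit 0) (nat_lit 8) (nat_lit 9) (nat_lit 3) (nat_lit 7) (nat_lit 8) (nat_lit 255) (nat_lit 5) (nat_lit 31) (nat_lit 11) (nat_lit 0xb5e9594e1173d8d52d27414c320440) (nat_lit 0x555400) (nat_lit 5) (nat_lit 31)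
theorem rows_of {lo hi : ℕ} {t : JL} (h : t.run rchk (nat_lit 72) hi lo = true) : C.RowsOK lo hi :=
  rowsOK_of_run masks h
theorem facts_of {lo hi : ℕ} {t : JL} (h : t.run fchk (nat_lit 20) hi lo = true) : C.FactsOK lo hi :=
  factsOK_of_run masks h
theorem words_ok : wordsChk 6 9 3 5 29 944538608299847986500436422951044160 5592064 R S Wr Wn cr cn = true := by
  decide +kernel
noncomputable def j0 : JL :=
(.cons (nat_lit 6) (nat_lit 0x1d1c041b001a071906181704160815001406131204110810070f000e0d000c080b070a060900040308020701062105040320021f011e) (nat_lit 4012)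
.nil)
theorem t0 : C.RowsOK (nat_lit 0) (nat_lit 6) :=
  rows_of (t := j0) (by decide +kernel)
noncomputable def j1 : JL :=
(.cons (nat_lit 8) (nat_lit 0xb70009a0007d0006000048000300001800000) (nat_lit 0x78008023400400d60020049001001000000000000000000000000)
.nil)
theorem t1 : C.FactsOK (nat_lit 0) (nat_lit 8) :=
  facts_of (t := j1) (by decide +kernel)
theorem checked : Checked C R S :=
  ⟨⟨Wr, Wn, cr, cn, fun _ => rfl, fun _ => rfl, words_ok⟩, t0,
    t1⟩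

/-- In any group whose elements `g 1, …, g 9` satisfy the relators `R`, a subgroup containing the words
of `S` has index at most 6 in the subgroup generated by these elements. -/
theorem idxLe {G : Type*} [Group G] {g : ℕ → G} (hg : Sat g R) {H : Subgroup G}
    (hS : ∀ s ∈ S, ev g s ∈ H) : IdxLe H (gen g 9) 6 :=
  checked.idxLe hg hS

end Cfsg.Agent.H67.McC.C4

namespace Cfsg.Agent.H67.McC.C5
open Cfsg.Agent.H44

noncomputable def rT0 : Tr :=
 (.leaf (nat_lit 0x26363e2a01363e363e363e2825353d353d2a01353d353d2624343c343c343c2a01343c2423333b333b333b333b2a01221a110021362135213421330a19001a0e2a0d2a0c2a0b2a09100a09181018101810181000))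
noncomputable def gT0 : Tr :=
 (.leaf (nat_lit 0xac009c0094008c0084007000600050004000300))
/-- The relators. -/
def R : List (List ℕ) := [[1, 2],
  [3, 4],
  [5, 6],
  [7, 8],
  [9, 10],
  [11, 11],
  [1, 1, 1],
  [1, 11, 2, 11],
  [3, 3, 3],
  [3, 11, 4, 11],
  [5, 5, 5],
  [5, 11, 6, 11],
  [7, 7, 7],
  [7, 11, 8, 11],
  [9, 9, 9],
  [9, 11, 10, 11],
  [1, 3, 1, 3, 11],
  [1, 5, 1, 5, 11],
  [3, 5, 3, 5, 11],
  [1, 7, 1, 7, 11],
  [3, 7, 3, 7, 11],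
  [5, 7, 5, 7, 11],
  [1, 9, 1, 9, 11],
  [3, 9, 3, 9, 11],
  [5, 9, 5, 9, 11],
  [7, 9, 7, 9, 11]]
/-- The subgroup generators. -/
def S : List (List ℕ) := [[1],
  [2],
  [3],
  [4],
  [5],
  [6],
  [7],
  [8],
  [11]]
def Wr : List (List ℕ) := [[2, 1],
  [4, 3],
  [6, 5],
  [8, 7],
  [9, 10],
  [10, 9],
  [1, 2],
  [3, 4],
  [5, 6],
  [7, 8],
  [11, 10, 11, 9],
  [2, 10, 2, 11, 10],
  [4, 10, 4, 11, 10],
  [6, 10, 6, 11, 10],
  [8, 10, 8, 11, 10],
  [10, 10, 10],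
  [11, 9, 11, 10],
  [2, 2, 2],
  [4, 2, 11, 4, 2],
  [6, 2, 11, 6, 2],
  [8, 2, 11, 8, 2],
  [10, 2, 11, 10, 2],
  [11, 1, 11, 2],
  [2, 4, 2, 11, 4],
  [4, 4, 4],
  [6, 4, 11, 6, 4],
  [8, 4, 11, 8, 4],
  [10, 4, 11, 10, 4],
  [11, 3, 11, 4],
  [2, 6, 2, 11, 6],
  [4, 6, 4, 11, 6],
  [6, 6, 6],
  [8, 6, 11, 8, 6],
  [10, 6, 11, 10, 6],
  [11, 5, 11, 6],
  [2, 8, 2, 11, 8],
  [4, 8, 4, 11, 8],
  [6, 8, 6, 11, 8],
  [8, 8, 8],
  [10, 8, 11, 10, 8],
  [11, 7, 11, 8]]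
def Wn : List (List ℕ) := [[1, 12],
  [3, 16],
  [5, 20],
  [7, 24],
  [11, 28]]
def cr : List (ℕ × ℕ × ℕ) := [(0, 0, 0), (0, 0, 0), (0, 0, 0), (0, 0, 0), (0, 0, 0), (0, 0, 0), (0, 0, 0), (0, 0, 0), (0, 0, 0), (0, 0, 0), (1, 15, 1), (2, 22, 2), (2, 23, 2), (2, 24, 2), (2, 25, 2), (2, 14, 0), (1, 15, 3), (2, 6, 0), (2, 16, 3), (2, 17, 3), (2, 19, 3), (2, 22, 3), (1, 7, 3), (2, 16, 2), (2, 8, 0), (2, 18, 3), (2, 20, 3), (2, 23, 3), (1, 9, 3), (2, 17, 2), (2, 18, 2), (2, 10, 0), (2, 21, 3), (2, 24, 3), (1, 11, 3), (2, 19, 2), (2, 20, 2), (2, 21, 2), (2, 12, 0), (2, 25, 3), (1, 13, 3)]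
def cn : List (ℕ × ℕ × ℕ) := [(1, 26, 0), (1, 28, 0), (1, 30, 0), (1, 32, 0), (1, 34, 0)]
noncomputable def rT : Tr := rT0
noncomputable def gT : Tr := gT0
noncomputable def rC (i : ℕ) : ℕ := rT.get (nat_lit 0) i
noncomputable def gC (i : ℕ) : ℕ := gT.get (nat_lit 0) i
noncomputable def row (p : ℕ) : ℕ := rec2 rC (nat_lit 5) (nat_lit 31) (nat_lit 96) (nat_lit 0xffffffffffffffffffffffff) p
noncomputable def gf (p : ℕ) : ℕ := rec2 gC (nat_lit 8) (nat_lit 255) (nat_lit 16) (nat_lit 65535) p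
noncomputable def gw (c : ℕ) : List ℕ := nth [] Wr c
noncomputable def wn (c : ℕ) : ℕ := pack (nat_lit 5) (nth [] Wn c) (nat_lit 0)
noncomputable def C : Cert :=
  { n := (nat_lit 7), na := (nat_lit 0), M := (nat_lit 10), nc := (nat_lit 11), W := (nat_lit 3), EB := (nat_lit 8),
    LB := (nat_lit 5), nreg := (nat_lit 41), ivT := (nat_lit 0x39dd6f19b5e9594e1173d8d5a547414c320440), base := (nat_lit 0x15555000),
    row := row, gf := gf, gw := gw, wn := wn }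
theorem masks : Masks C (nat_lit 7) (nat_lit 255) (nat_lit 31) (nat_lit 11) (nat_lit 2047) :=
  ⟨by decide +kernel, by decide +kernel, by decide +kernel, by decide +kernel, by decide +kernel⟩
noncomputable def rchk : ℕ → ℕ → ℕ → Bool :=
  rowChk row gf gw (nat_lit 7) (nat_lit 10) (nat_lit 11) (nat_lit 3) (nat_lit 7) (nat_lit 8) (nat_lit 255) (nat_lit 5) (nat_lit 31) (nat_lit 11) (nat_lit 2047) (nat_lit 41) (nat_lit 0x39dd6f19b5e9594e1173d8d5a547414c320440) (nat_lit 4) (nat_lit 15) (nat_lit 8) (nat_lit 255)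
noncomputable def fchk : ℕ → ℕ → ℕ → Bool :=
  auxRun row gf wn (nat_lit 7) (nat_lit 0) (nat_lit 10) (nat_lit 11) (nat_lit 3) (nat_lit 7) (nat_lit 8) (nat_lit 255) (nat_lit 5) (nat_lit 31) (nat_lit 11) (nat_lit 0x39dd6f19b5e9594e1173d8d5a547414c320440) (nat_lit 0x15555000) (nat_lit 5) (nat_lit 31)
theorem rows_of {lo hi : ℕ} {t : JL} (h : t.run rchk (nat_lit 88) hi lo = true) : C.RowsOK lo hi :=
  rowsOK_of_run masks h
theorem facts_of {lo hi : ℕ} {t : JL} (h : t.run fchk (nat_lit 20) hi lo = true) : C.FactsOK lo hi :=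
  factsOK_of_run masks h
theorem words_ok : wordsChk 7 11 3 5 41 1290432097025131260668629067041866361980716096 357912576 R S Wr Wn cr cn = true := by
  decide +kernel
noncomputable def j0 : JL :=
(.cons (nat_lit 7) (nat_lit 0x2928052700260925082407232205210a20001f081e071d1c051b0a1a0919001807171605150a1409130812001110000f0a0e090d080c070b0005040a0309020801072e0605042d032c022b012a) (nat_lit 624485)
.nil)
theorem t0 : C.RowsOK (nat_lit 0) (nat_lit 7) :=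
  rows_of (t := j0) (by decide +kernel)
noncomputable def j1 : JL :=
(.cons (nat_lit 10) (nat_lit 0xec000cf000b200095000780006000048000300001800000) (nat_lit 0x1300100588008023c00400da002004b001001000000000000000000000000000000)
.nil)
theorem t1 : C.FactsOK (nat_lit 0) (nat_lit 10) :=
  facts_of (t := j1) (by decide +kernel)
theorem checked : Checked C R S :=
  ⟨⟨Wr, Wn, cr, cn, fun _ => rfl, fun _ => rfl, words_ok⟩, t0,
    t1⟩

/-- In any group whose elements `g 1, …, g 11` satisfy the relators `R`, a subgroup containing the words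
of `S` has index at most 7 in the subgroup generated by these elements. -/
theorem idxLe {G : Type*} [Group G] {g : ℕ → G} (hg : Sat g R) {H : Subgroup G}
    (hS : ∀ s ∈ S, ev g s ∈ H) : IdxLe H (gen g 11) 7 :=
  checked.idxLe hg hS

end Cfsg.Agent.H67.McC.C5

namespace Cfsg.Agent.H67.McC.C6
open Cfsg.Agent.H44

noncomputable def rT0 : Tr :=
 (.leaf (nat_lit 0x138dc7e2a008dc7e371f8dc7e371f9284c361f0d87c2a008d87c361f0d87c48128d47a351e8d47a2a008d47a351e91848341e0d078341e0d0782a008d07844118cc76331d8cc76331d8cc762a009083411000846e211b0846a211a084660c0c800340f15038540d15030540b1502c200a048602018080602018080602000))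
noncomputable def gT0 : Tr :=
 (.leaf (nat_lit 0x4d00124004700114004300104002200078001a000580012000380))
/-- The relators. -/
def R : List (List ℕ) := [[1, 2],
  [3, 4],
  [5, 6],
  [7, 8],
  [9, 10],
  [11, 12],
  [13, 13],
  [1, 1, 1],
  [1, 13, 2, 13],
  [3, 3, 3],
  [3, 13, 4, 13],
  [5, 5, 5],
  [5, 13, 6, 13],
  [7, 7, 7],
  [7, 13, 8, 13],
  [9, 9, 9],
  [9, 13, 10, 13],
  [11, 11, 11],
  [11, 13, 12, 13],
  [1, 3, 1, 3, 13],
  [1, 5, 1, 5, 13],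
  [3, 5, 3, 5, 13],
  [1, 7, 1, 7, 13],
  [3, 7, 3, 7, 13],
  [5, 7, 5, 7, 13],
  [1, 9, 1, 9, 13],
  [3, 9, 3, 9, 13],
  [5, 9, 5, 9, 13],
  [7, 9, 7, 9, 13],
  [1, 11, 1, 11, 13],
  [3, 11, 3, 11, 13],
  [5, 11, 5, 11, 13],
  [7, 11, 7, 11, 13],
  [9, 11, 9, 11, 13]]
/-- The subgroup generators. -/
def S : List (List ℕ) := [[1],
  [2],
  [3],
  [4],
  [5],
  [6],
  [7],
  [8],
  [9],
  [10],
  [13]]
def Wr : List (List ℕ) := [[2, 1],
  [4, 3],
  [6, 5],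
  [8, 7],
  [10, 9],
  [11, 12],
  [12, 11],
  [1, 2],
  [3, 4],
  [5, 6],
  [7, 8],
  [9, 10],
  [13, 12, 13, 11],
  [2, 12, 2, 13, 12],
  [4, 12, 4, 13, 12],
  [6, 12, 6, 13, 12],
  [8, 12, 8, 13, 12],
  [10, 12, 10, 13, 12],
  [12, 12, 12],
  [13, 11, 13, 12],
  [2, 2, 2],
  [4, 2, 13, 4, 2],
  [6, 2, 13, 6, 2],
  [8, 2, 13, 8, 2],
  [10, 2, 13, 10, 2],
  [12, 2, 13, 12, 2],
  [13, 1, 13, 2],
  [2, 4, 2, 13, 4],
  [4, 4, 4],
  [6, 4, 13, 6, 4],
  [8, 4, 13, 8, 4],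
  [10, 4, 13, 10, 4],
  [12, 4, 13, 12, 4],
  [13, 3, 13, 4],
  [2, 6, 2, 13, 6],
  [4, 6, 4, 13, 6],
  [6, 6, 6],
  [8, 6, 13, 8, 6],
  [10, 6, 13, 10, 6],
  [12, 6, 13, 12, 6],
  [13, 5, 13, 6],
  [2, 8, 2, 13, 8],
  [4, 8, 4, 13, 8],
  [6, 8, 6, 13, 8],
  [8, 8, 8],
  [10, 8, 13, 10, 8],
  [12, 8, 13, 12, 8],
  [13, 7, 13, 8],
  [2, 10, 2, 13, 10],
  [4, 10, 4, 13, 10],
  [6, 10, 6, 13, 10],
  [8, 10, 8, 13, 10],
  [10, 10, 10],
  [12, 10, 13, 12, 10],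
  [13, 9, 13, 10]]
def Wn : List (List ℕ) := [[1, 14],
  [3, 18],
  [5, 22],
  [7, 26],
  [9, 30],
  [13, 34]]
def cr : List (ℕ × ℕ × ℕ) := [(0, 0, 0), (0, 0, 0), (0, 0, 0), (0, 0, 0), (0, 0, 0), (0, 0, 0), (0, 0, 0), (0, 0, 0), (0, 0, 0), (0, 0, 0), (0, 0, 0), (0, 0, 0), (1, 18, 1), (2, 29, 2), (2, 30, 2), (2, 31, 2), (2, 32, 2), (2, 33, 2), (2, 17, 0), (1, 18, 3), (2, 7, 0), (2, 19, 3), (2, 20, 3), (2, 22, 3), (2, 25, 3), (2, 29, 3), (1, 8, 3), (2, 19, 2), (2, 9, 0), (2, 21, 3), (2, 23, 3), (2, 26, 3), (2, 30, 3), (1, 10, 3), (2, 20, 2), (2, 21, 2), (2, 11, 0), (2, 24, 3), (2, 27, 3), (2, 31, 3), (1, 12, 3), (2, 22, 2), (2, 23, 2), (2, 24, 2), (2, 13, 0), (2, 28, 3), (2, 32, 3), (1, 14, 3), (2, 25, 2), (2, 26, 2), (2, 27, 2), (2, 28, 2), (2, 15, 0), (2, 33, 3), (1, 16, 3)]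
def cn : List (ℕ × ℕ × ℕ) := [(1, 34, 0), (1, 36, 0), (1, 38, 0), (1, 40, 0), (1, 42, 0), (1, 44, 0)]
noncomputable def rT : Tr := rT0
noncomputable def gT : Tr := gT0
noncomputable def rC (i : ℕ) : ℕ := rT.get (nat_lit 0) i
noncomputable def gC (i : ℕ) : ℕ := gT.get (nat_lit 0) i
noncomputable def row (p : ℕ) : ℕ := rec2 rC (nat_lit 5) (nat_lit 31) (nat_lit 126) (nat_lit 0x3fffffffffffffffffffffffffffffff) p
noncomputable def gf (p : ℕ) : ℕ := rec2 gC (nat_lit 8) (nat_lit 255) (nat_lit 18) (nat_lit 262143) p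
noncomputable def gw (c : ℕ) : List ℕ := nth [] Wr c
noncomputable def wn (c : ℕ) : ℕ := pack (nat_lit 6) (nth [] Wn c) (nat_lit 0)
noncomputable def C : Cert :=
  { n := (nat_lit 8), na := (nat_lit 0), M := (nat_lit 12), nc := (nat_lit 13), W := (nat_lit 3), EB := (nat_lit 9),
    LB := (nat_lit 6), nreg := (nat_lit 55), ivT := (nat_lit 0x8a382179f71d69b61959751549341138f34b309287205183101080), base := (nat_lit 0x555554000),
    row := row, gf := gf, gw := gw, wn := wn }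
theorem masks : Masks C (nat_lit 7) (nat_lit 511) (nat_lit 63) (nat_lit 12) (nat_lit 4095) :=
  ⟨by decide +kernel, by decide +kernel, by decide +kernel, by decide +kernel, by decide +kernel⟩
noncomputable def rchk : ℕ → ℕ → ℕ → Bool :=
  rowChk row gf gw (nat_lit 8) (nat_lit 12) (nat_lit 13) (nat_lit 3) (nat_lit 7) (nat_lit 9) (nat_lit 511) (nat_lit 6) (nat_lit 63) (nat_lit 12) (nat_lit 4095) (nat_lit 55) (nat_lit 0x8a382179f71d69b61959751549341138f34b309287205183101080) (nat_lit 4) (nat_lit 15) (nat_lit 9) (nat_lit 511)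
noncomputable def fchk : ℕ → ℕ → ℕ → Bool :=
  auxRun row gf wn (nat_lit 8) (nat_lit 0) (nat_lit 12) (nat_lit 13) (nat_lit 3) (nat_lit 7) (nat_lit 9) (nat_lit 511) (nat_lit 6) (nat_lit 63) (nat_lit 12) (nat_lit 0x8a382179f71d69b61959751549341138f34b309287205183101080) (nat_lit 0x555554000) (nat_lit 6) (nat_lit 63)
theorem rows_of {lo hi : ℕ} {t : JL} (h : t.run rchk (nat_lit 117) hi lo = true) : C.RowsOK lo hi :=
  rowsOK_of_run masks h
theorem facts_of {lo hi : ℕ} {t : JL} (h : t.run fchk (nat_lit 20) hi lo = true) : C.FactsOK lo hi :=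
  factsOK_of_run masks h
theorem words_ok : wordsChk 8 13 3 6 55 56860105892997651384149078411869442751056426945390199238403559552 22906486784 R S Wr Wn cr cn = true := by
  decide +kernel
noncomputable def j0 : JL :=
(.cons (nat_lit 8) (nat_lit 0x1b8d80c35000d01633050c81231040c05e06170305a001602856091502052280309c18260589400240488c102210818400c0f82c3c0a0e80038080d8680c1906060161705058121500050260009030220b080281e09070201a000301418040580c140204804103d038180a3c020ec063a010e40238) (nat_lit 0xba9876)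
.nil)
theorem t0 : C.RowsOK (nat_lit 0) (nat_lit 8) :=
  rows_of (t := j0) (by decide +kernel)
noncomputable def j1 : JL :=
(.cons (nat_lit 12) (nat_lit 0x12600108000ea000cc000ae00090000780006000048000300001800000) (nat_lit 0x5c00401950010054c00401110010033c004008d001001000000000000000000000000000000000000)
.nil)
theorem t1 : C.FactsOK (nat_lit 0) (nat_lit 12) :=
  facts_of (t := j1) (by decide +kernel)
theorem checked : Checked C R S :=
  ⟨⟨Wr, Wn, cr, cn, fun _ => rfl, fun _ => rfl, words_ok⟩, t0,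
    t1⟩

/-- In any group whose elements `g 1, …, g 13` satisfy the relators `R`, a subgroup containing the words
of `S` has index at most 8 in the subgroup generated by these elements. -/
theorem idxLe {G : Type*} [Group G] {g : ℕ → G} (hg : Sat g R) {H : Subgroup G}
    (hS : ∀ s ∈ S, ev g s ∈ H) : IdxLe H (gen g 13) 8 :=
  checked.idxLe hg hS

end Cfsg.Agent.H67.McC.C6

namespace Cfsg.Agent.H67.McC.Q
open Cfsg.Agent.H44

noncomputable def rT0 : Tr :=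
 (.node (.node (.node (.leaf (nat_lit 0x18a827f0068821034827e0064c2009f40cb09f027b09e8019032401809e467609e00c409dc01828a0a2c030c27618a001820700c209d4017396027402ec43109cc833005c0b90058272395c27102d027010b082d00580b10054e67397826f02b026e09b426c00540a9005026b28e0423029026a005066809a40a318e02680050c410288267004ce5b099809b0994264098c0130264012098865f0984094098001228d841d024c25f18d801230ec0920978011205425d022c83f0970c410044089004025b204c25a021025920e8c3b0040081003c258205cc4f01f0257003c816311007b0038c4d390c25601d0255095025300380710034252193c63301b0251003464e094006b093c24e0034a3f01a824d0030e3e0930063092c24a092400c018400b0920645091c05c091800b191062d016c245091000b28e805a090c00a2038242014c241090023f0028051002423e203023d013023c08ec23a00240490020239289c23801102370020a2608d804308d400728ac23400ec23308c8231001c039001823028a422f00d022e08b422c0018031001422b101c22a00b0229001440608a002b089c226102000500a42250010a1b0890023088c222088400400840030880a19087c01c087821d08700030064002086c40408680140864002100c218004c217085860f00080110004215184421400302130004610084800b0844210000420f0028000083860a08340040830000182420b000c20a08240000820002081c20608140000004204080c2020804000))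
 (.leaf (nat_lit 0xba803f11010a107ec03e510d04d53601f40ba42e80b9c03e07c403d0b98c8842301ec0b9403d1b8c2e407ad0880b8c03d31241ea0b8803c2b7d8cf078c88c0b84c8e00f01e100ec2e039652c0077003a0b7c43c42481d400e4ed84aa02de07302dd0b702db00e41c90b6803831ac2d9070c2d800dd2a60b5c1bb0b582d50b5003706e40360b4cc600b481b44ae46be0b4403506a40341b086cf0b401a44b0c0341b386ca068c2cf0b380343ac81a24b1403339cc2cd066c0321b18ac80b301940b2c2ca0b2403206442c800c44320b1c18b00c10354abcc4d06102c60b142c400c018100bc2c31b006bc05f02c200bc6bf0b0417b0b002bf00bceab05e82be00b8ab70af41730af02bb0ae802e05c402d0ae4e700ae016c00b02b710b82b6059002b4abcc350ad415c0ad02b30ac802b05642b100a90820ac01530abc02930c02ae052c2ad0ab02ab00a414900a02aa41dc2a905102a8009cc390a9c13b00982a630dc2a504d108b1a402a4009412900906941a882a3049109500906a11a741230a882a10090e830489097008ca9b0a8011b00886982a6829f045029e0a7429c0088111008429b108ca27043029a00844220a6410b0080a2549f8a6704102980a5c2960080101007c2951a4868e03f0294007c6910a4c0fb0a48291007ce7a03e82900078a890a3c0f30a3828d0a3001e03c401d0a2ca870a280ec007028910782880390287007041d28980e3006d27e309428603702850a10283006c0d9006828228a8a310350281006867f0a000d3)))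
 (.node (.leaf (nat_lit 0xc800631191e810c6c06211bd8de4a40314743031f84380620c440610c78aa9119430c0c740611c6c31c0c2c6a90c6c0614ab430a41bc0604b4c31a0c0cf080c6530a0180301437805f21883180beceab0c5cead017c2f95b7deee6b8805e0bc405d1c487150c582ec5c4c05d431d4c90bac315431c05d31b02ea01722e79ba1e910b903142324cca01702e1016d45e419d90b0b712e763a96e9016c2d9016831342d94ba0b5031201687100c442d342d83100168c630b498ee01654e07a882cb22e830f32f00590b24058ac2d0756bcc2c40c3830d0c300580b0430b015d07254042bb0c283090c200570ae60f06bcc0564bb82b253d58f80c1c0550aa405363ec45582a829c93f00531150e7f0a6def43b6d2dc01482915be92d44b540510a2405053fc7040c182840c140502a004540a0c3041a000503a102826c0004f214830309ec04e9c048510c0827453c4e832a1004e09c404c11447013b18264394804c1c006fe098c3010c0004c4b9c262395004b2bf1cc2096c04a1154afb730c2540bfc2fe0bf404a09440490bf044b39d824c0bec049112a0b1092c0481158ef352f8244636c2fa637404809040470be4a78112c23c0be00471bd82f708ec6780bd804739f023a39580463bc02f508cced40bd12d601182310bcc04521202f208ace7a0bc4a7c011422901102f021182ef08916e01b882ee010c21901086e51bb02ed08516e60108c9942702130bb10990108c5308496e80104e5c4b3820b01006e92ba9cbf08102eb2270c9d0100201))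
 (.leaf (nat_lit 0x24d29e1d1a1271270347024cee4125c49b0d18ae4024e6e8126a2a102488950d1449302456a22250344123149f023d92e750847b54f808e3b85d1d11cc08d5a8cb40847846c0d0c3420d0408d11a4340023048d0cfc4634a8c33e4bb408b1165ca0022972f0cf445302258a432418a8113033c0cedd3302244494a640883b9833a110dea4021cc8b4bb043b3ca83394cb008710e56aa72d40864290432641e53553d408510a4083a4d848543c041c0202d374414338101007f5ab888184883fc01f448152b94c40fb148201f64b1a3f43eb42ba0b101f50960fa948401f10f16cb83e301ec4852cd992f0f7033733f50fe01ec3d90cd807a11ed5000f4c07912198b563443cc0cd407843e43340f0d48601dd2aa8c1c3bb52d407621e5d290ecceb75b456be01d43a901d072e6a3c3330e9132f01d10a054c43a36a3cca001d130c0e8807343112c5844039c0cc83310cc00730e6407231d570b49f839433108c833180720e440710cbd08a54b038c0cb8071427c32d0e2cc8a427c0714c2038a534407042e5f150e0c32c0cac32a01c03814b4d8de01bdae20de971a6c7432901b837101b252011b9a790d91f2101b046d42083637c64f0c4c3406b0d65b1f5c21b0901a835101a69241c983280d3032701a4ab011b434b0c986b001a52b30d280682b5c86a0c94344845ceb23acc0680d0406611a8ad7326033441ac066536a5230ccced74b680665ba433241b40652c85e940cac06411b8b206a543240c903230c880640c840630c8446541dc31c))))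
 (.node (.node (.leaf (nat_lit 0x7cadb334cec0f61ec52f903d6535b5c87ab0dcc3726db80f41e840f29565d18843879495980f254fd9411e4db4c2504d4203c478995640ef5da03711dee15e0dc036f03ac7590392aeb551dd6a1c900e39bb08e50db871c03862ed9cfa7681c3036da57836c03847094c61d3f6bc80dd1ba40d9752c7690dac6cc0da80d9440d2dc1b2c369340c0d94c346ca43700d653d16e51acc0d513756fa63986ac752cd2554080d51aa40d20da10ef4b5869474fc0d21d983671a4ccef0d980d24c286928c5a75a0341adf1a0a15c0d94364032c6590328b613c51eff19500c95d804cb0d8c64c0d88f2d65200c819040c19b2c7607c1460c0d840c13c462c5182c3602c440c17ba860a73380c0230c35f180c0bf8b3c8c20d785fc63300bd7d3a55c17ad75802f0f0f7be05e302ed8d02d69ef9177035d0d7035b02ec5d90d680ba12ec359174d4d00d61f1602e45c973340b85d3c357170d5330d59f3c02dc5b97b1c0b64c4c35516ce529a54611a02d05a102ca35212d1cd316500b0954d1270d5058452cc0ad545e34e15ac0ac12d0b52953c5640d4cd22448c0ac158435202ac4ac7b6855b0d440a94478350152c0a71d39ebd8cf053cbd3c0a7433553014edabd33340a7436c53a029a8a853616af14d00a50d3d0b854a852c0d380a56331d4814accb853300a5435052a5bb5b40028e0e014695420d3434c02784f10274b473bae12413b009c4d1849e0d2c4e40d28f304cc409b13643490d2172d02684d1025a49a12612a612d189b02584974b8c4b3))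
 (.leaf (nat_lit 0xa59c16415971702c8c15b9dac55dddb4adc055f15d9daf3612af2565055e967b560abbadb0154cdb71782a8e36b959e5570548a91054276fb5c2b752a13171053054dcdeca638dbb3758dcc14a294675fbdb61540518a310507577150ed7928329709d7e1500500a0104f6f4395de14727b214d04f6b71acf89ebcde296eb5c81392726b7404e2f79cdfc9c38d1697904e2160270a577adc593d04d89b104d3176d5ef97e2692d7ba51413485689a295ea97ea5f41322644131558954a6cdc98c04c294914caf53261175604b153994d4963adfe77aadf012b256633b04a852ba5449539df01281dff143250e5550dfc1286d889428d2314a5d8812624c41255da9963759092c048c9274d4f57d247012254985248dbc914a5da9747d101212425f389cd1f450480901047337d1dfad4d23923280470b558c7c8e30df87550471b56238811b94a491d8db08dc9ce633c5d5811b236551e046a951bdf08d30df437c9de811923259680461959756c8c39d9095b357011722e63440dee37604508a104463145587169223011084549120de8884043e716ad62b6621f03798d12374043c879b43410a5466312214c1091439d1f844c84c8dc81061de2f5d20cd93a0de01065d248326cb5f324d241042084103bd8d76a0ddc81c040ab69552d94c205256304097256c2481303f89054cde3731fd00fd44104ff0dd87ec95beb6c85780fc1f86554954215f03ec7d903df1731dd6f651ef170603dcb3a6be87bb0dd473a03dd73b1ee80f6641c8f80dd07b4)))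
 (.leaf (nat_lit 0))))
noncomputable def gT0 : Tr :=
 (.leaf (nat_lit 0x8c4a4d2133934609b8011c019c0f0025))
/-- The relators. -/
def R : List (List ℕ) := [[1, 1],
  [2, 2],
  [3, 3],
  [4, 4],
  [2, 3, 2, 3],
  [2, 4, 2, 4],
  [1, 2, 1, 2, 1, 2],
  [1, 2, 1, 2, 1, 3, 2, 3],
  [1, 2, 1, 2, 1, 4, 2, 4],
  [1, 3, 1, 3, 1, 3, 1, 3],
  [1, 4, 1, 4, 1, 4, 1, 4],
  [1, 2, 1, 3, 1, 2, 3, 1, 3],
  [1, 2, 1, 4, 1, 2, 4, 1, 4],
  [1, 2, 3, 1, 2, 3, 1, 3, 2],
  [1, 2, 4, 1, 2, 4, 1, 4, 2],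
  [1, 3, 4, 3, 4, 1, 3, 4, 3, 4],
  [1, 3, 4, 3, 4, 1, 4, 3, 4, 3]]
/-- The subgroup generators. -/
def S : List (List ℕ) := []
def Wr : List (List ℕ) := [[1, 1],
  [2, 2],
  [3, 3],
  [4, 4],
  [2, 3, 2, 3],
  [2, 4, 2, 4],
  [2, 1, 2, 1, 2, 1],
  [1, 3, 1, 3, 1, 3, 1, 3],
  [1, 4, 1, 4, 1, 4, 1, 4],
  [3, 1, 4, 3, 4, 3, 1, 4, 3, 4],
  [2, 1, 3, 1, 2, 3, 1, 3, 1],
  [3, 2, 1, 3, 1, 2, 1, 3, 1],
  [2, 1, 4, 1, 2, 4, 1, 4, 1],
  [4, 2, 1, 4, 1, 2, 1, 4, 1],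
  [1, 2, 1, 2, 1, 2],
  [3, 1, 3, 1, 2, 1, 3, 1, 2],
  [1, 2, 1, 2, 1, 3, 2, 3],
  [4, 1, 4, 1, 2, 1, 4, 1, 2],
  [1, 2, 1, 2, 1, 4, 2, 4],
  [3, 2, 3, 2],
  [1, 4, 1, 2, 1, 4, 1, 4, 2],
  [1, 2, 4, 1, 4, 1, 2, 1, 4],
  [2, 4, 1, 4, 1, 2, 1, 4, 1],
  [4, 1, 2, 1, 4, 1, 2, 4, 1],
  [4, 1, 3, 4, 3, 4, 1, 3, 4, 3],
  [1, 3, 4, 3, 4, 1, 3, 4, 3, 4],
  [3, 4, 1, 3, 4, 3, 4, 1, 3, 4],
  [4, 3, 1, 4, 3, 4, 3, 1, 4, 3],
  [4, 3, 4, 1, 3, 4, 3, 4, 1, 3],
  [3, 4, 3, 1, 4, 3, 4, 3, 1, 4],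
  [2, 3, 1, 3, 1, 2, 1, 3, 1],
  [3, 1, 2, 1, 3, 1, 2, 3, 1],
  [1, 2, 3, 1, 3, 1, 2, 1, 3],
  [1, 3, 2, 1, 3, 2, 1, 2, 3],
  [4, 2, 4, 2],
  [2, 1, 3, 1, 2, 1, 3, 1, 3],
  [3, 4, 3, 4, 1, 4, 3, 4, 3, 1],
  [4, 3, 4, 3, 1, 4, 3, 4, 3, 1],
  [4, 1, 2, 4, 1, 4, 2, 1, 2],
  [4, 1, 4, 1, 4, 1, 4, 1],
  [3, 1, 3, 1, 3, 1, 3, 1],
  [1, 3, 1, 2, 1, 3, 1, 2, 3],
  [1, 4, 2, 1, 4, 1, 2, 1, 4],
  [3, 2, 3, 1, 2, 1, 2, 1],
  [3, 4, 3, 4, 1, 3, 4, 3, 4, 1],
  [4, 2, 4, 1, 2, 1, 2, 1]]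
def Wn : List (List ℕ) := [[1, 3, 4, 3, 4, 1, 3, 4, 3, 4],
  [4, 3, 4, 3, 1, 3, 4, 3, 4, 1],
  [1, 1],
  [3, 3]]
def cr : List (ℕ × ℕ × ℕ) := [(0, 0, 0), (0, 0, 0), (0, 0, 0), (0, 0, 0), (1, 4, 0), (1, 5, 0), (1, 6, 1), (1, 9, 0), (1, 10, 0), (2, 15, 3), (1, 11, 1), (2, 11, 2), (1, 12, 1), (2, 12, 2), (1, 6, 0), (1, 11, 6), (1, 7, 0), (1, 12, 6), (1, 8, 0), (1, 4, 1), (2, 12, 4), (1, 12, 4), (1, 12, 5), (1, 12, 8), (1, 15, 4), (1, 15, 0), (1, 15, 3), (2, 15, 2), (1, 15, 2), (2, 15, 1), (1, 11, 5), (1, 11, 8), (1, 11, 4), (2, 13, 2), (1, 5, 1), (2, 11, 3), (1, 16, 1), (2, 15, 0), (1, 14, 2), (1, 10, 1), (1, 9, 1), (1, 11, 7), (2, 12, 1), (1, 7, 5), (1, 15, 1), (1, 8, 5)]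
def cn : List (ℕ × ℕ × ℕ) := [(1, 15, 0), (1, 16, 6), (0, 0, 0), (0, 0, 0)]
noncomputable def rT : Tr := rT0
noncomputable def gT : Tr := gT0
noncomputable def rC (i : ℕ) : ℕ := rT.get (nat_lit 4) i
noncomputable def gC (i : ℕ) : ℕ := gT.get (nat_lit 0) i
noncomputable def row (p : ℕ) : ℕ := rec2 rC (nat_lit 6) (nat_lit 63) (nat_lit 70) (nat_lit 0x3fffffffffffffffff) p
noncomputable def gf (p : ℕ) : ℕ := rec2 gC (nat_lit 7) (nat_lit 127) (nat_lit 26) (nat_lit 0x3ffffff) p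
noncomputable def gw (c : ℕ) : List ℕ := nth [] Wr c
noncomputable def wn (c : ℕ) : ℕ := pack (nat_lit 3) (nth [] Wn c) (nat_lit 0)
noncomputable def C : Cert :=
  { n := (nat_lit 384), na := (nat_lit 1), M := (nat_lit 5), nc := (nat_lit 4), W := (nat_lit 9), EB := (nat_lit 14),
    LB := (nat_lit 3), nreg := (nat_lit 46), ivT := (nat_lit 18056), base := (nat_lit 0),
    row := row, gf := gf, gw := gw, wn := wn }
theorem masks : Masks C (nat_lit 511) (nat_lit 16383) (nat_lit 7) (nat_lit 21) (nat_lit 0x1fffff) :=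
  ⟨by decide +kernel, by decide +kernel, by decide +kernel, by decide +kernel, by decide +kernel⟩
noncomputable def rchk : ℕ → ℕ → ℕ → Bool :=
  rowChk row gf gw (nat_lit 384) (nat_lit 5) (nat_lit 4) (nat_lit 9) (nat_lit 511) (nat_lit 14) (nat_lit 16383) (nat_lit 3) (nat_lit 7) (nat_lit 21) (nat_lit 0x1fffff) (nat_lit 46) (nat_lit 18056) (nat_lit 3) (nat_lit 7) (nat_lit 7) (nat_lit 127)
noncomputable def fchk : ℕ → ℕ → ℕ → Bool :=
  auxRun row gf wn (nat_lit 384) (nat_lit 1) (nat_lit 5) (nat_lit 4) (nat_lit 9) (nat_lit 511) (nat_lit 14) (nat_lit 16383) (nat_lit 3) (nat_lit 7) (nat_lit 21) (nat_lit 18056) (nat_lit 0) (nat_lit 4) (nat_lit 15)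
theorem rows_of {lo hi : ℕ} {t : JL} (h : t.run rchk (nat_lit 28) hi lo = true) : C.RowsOK lo hi :=
  rowsOK_of_run masks h
theorem facts_of {lo hi : ℕ} {t : JL} (h : t.run fchk (nat_lit 20) hi lo = true) : C.FactsOK lo hi :=
  factsOK_of_run masks h
theorem words_ok : wordsChk 384 4 9 3 46 18056 0 R S Wr Wn cr cn = true := by
  decide +kernel
noncomputable def j0 : JL :=
(.cons (nat_lit 16) (nat_lit 0x80c3800800101080c100000c101080c100000c3010800281080c100000c1010800101080c001000c1010800101080c001080c100080c101) (nat_lit 0)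
(.cons (nat_lit 16) (nat_lit 0x80c100000c1010800101080c0010800281080c100000c301080c100000c10108001010800101080c100000c101080c100000c3010800281) (nat_lit 0)
(.cons (nat_lit 16) (nat_lit 0x80c100000c1010800108080c0010800281080c100000c301080c100000c3010800281000c101080c100000c1010800101080c0010800101) (nat_lit 0)
(.cons (nat_lit 16) (nat_lit 0x240c00f0800281080c100000c1010800291084000f08001011c0c680000c10108305800028101080c100000c1090800101080c0010800101) (nat_lit 0)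
(.cons (nat_lit 16) (nat_lit 0xc313080028100c012f080c100000c1010800101080c0010800101080c100000c101000c30108002910050301080c100000c3130800101) (nat_lit 35)
(.cons (nat_lit 16) (nat_lit 0xc3010050301080c10008001010800281080c100000c1010800281000c301080c100000c1010800101080c0010800101000c101080c100) (nat_lit 0)
(.cons (nat_lit 16) (nat_lit 0x80c100000c1010800101080c0010800101000c101080c1000800281000c101080c100000c1010800101080c0010800101080c100000c101) (nat_lit 0)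
(.cons (nat_lit 16) (nat_lit 0x800281000c301080c100000c1010800101080c00f0800115080c100000c301000c301000c101080c10008002810800101080c100000c301) (nat_lit 0)
(.cons (nat_lit 16) (nat_lit 0x1c0cb80000c3090800101240c00f3200101080c1000800281300cb80000c301080c100000c1010800101080c00f0800281000c116080c100) (nat_lit 0)
(.cons (nat_lit 16) (nat_lit 0x80c100000c1010800288084000f0800281000c3010880f8000781013a00101080c0013800101006c11a080c100000c31308002810028101) (nat_lit 0)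
(.cons (nat_lit 16) (nat_lit 0xc301080c100000c1010800101080c00f0800121080c100000c301080c1000800281080c100080c001080c100000c3010800291080c100) (nat_lit 0)
(.cons (nat_lit 16) (nat_lit 0x800281002811a080c100000c3090800101240c00f3200101080c1000800281300cb80080c100000c1010800101080c00f000c116080c100) (nat_lit 0)
(.cons (nat_lit 16) (nat_lit 0xc3010800291080c100080c100000c1010800288084000f000c3010880f8000782893a00101080c0013800101006c122080c100000c313) (nat_lit 0)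
(.cons (nat_lit 16) (nat_lit 0x32002814c30580000c10108002810840001006c301080c10000781164694100000c301080120124400010800281080c100460c001080c100) (nat_lit 0)
(.cons (nat_lit 16) (nat_lit 0x80c100465000f080c100000c316000c101002830100783133a002814e4000f3800101006c101080c1000800281002831308001013200281) (nat_lit 0)
(.cons (nat_lit 16) (nat_lit 0x6c1010800288084000f3a00281006c3013a001010800288006c101080c1000800281500c3803a001010028313080c1003a002813200281) (nat_lit 0)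
(.cons (nat_lit 16) (nat_lit 0x800101000c3010800281244000f0078313000c3010800281244000f460c00f1c0c100000c301000c301080c100080c10000783133a00291) (nat_lit 0)
(.cons (nat_lit 16) (nat_lit 0x3a001010800288006c101080c1000800281500c3803a00101080c1003a00281080c100000c309000c1013800101006c101080c1000800288) (nat_lit 0)
(.cons (nat_lit 16) (nat_lit 0x38002aa006c31608a4380000c3133a00101240c00f460c00f1c0c100000c309000c301080c100006c1090800291084000f3a00281006c301) (nat_lit 0)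
(.cons (nat_lit 16) (nat_lit 0x8a4f803a00281080c100000c3130800101080c1003a00101080c100006c101006c301006c101080c100500c380006c1010800291084000f) (nat_lit 0)
(.cons (nat_lit 16) (nat_lit 0x38002aa006c3160800101460c00f500cb80006c101000c1010800291006c301006c301080c100080c100000c11a0800291084000f006c301) (nat_lit 0)
(.cons (nat_lit 16) (nat_lit 0x80c38050a4380000c12b0800291084000f006c30108a4f803a00281080c1000800101080c100500c100006c101006c301006c10108a4100) (nat_lit 0)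
(.cons (nat_lit 16) (nat_lit 0x460c00f080c380000c101085000f080c100006c309006c3093a00288080c1003a002880800101460c00f500cb80000c101006c301006c301) (nat_lit 0)
(.cons (nat_lit 16) (nat_lit 0x3a00291006c313006c3133a002913a0028850a4380006c3093a002815cb03805cb4380000c3014cb0380006c1093a0029108a41000800101) (nat_lit 0)
.nil))))))))))))))))))))))))
theorem t0 : C.RowsOK (nat_lit 0) (nat_lit 384) :=
  rows_of (t := j0) (by decide +kernel)
noncomputable def j1 : JL :=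
(.cons (nat_lit 1) (nat_lit 0) (nat_lit 0)
(.cons (nat_lit 4) (nat_lit 0x9c0007c0003c00000) (nat_lit 0x8400200486002003632320232300a002323203235009001)
.nil))
theorem t1 : C.FactsOK (nat_lit 0) (nat_lit 5) :=
  facts_of (t := j1) (by decide +kernel)
theorem checked : Checked C R S :=
  ⟨⟨Wr, Wn, cr, cn, fun _ => rfl, fun _ => rfl, words_ok⟩, t0,
    t1⟩

/-- In any group whose elements `g 1, …, g 4` satisfy the relators `R`, a subgroup containing the words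
of `S` has index at most 384 in the subgroup generated by these elements. -/
theorem idxLe {G : Type*} [Group G] {g : ℕ → G} (hg : Sat g R) {H : Subgroup G}
    (hS : ∀ s ∈ S, ev g s ∈ H) : IdxLe H (gen g 4) 384 :=
  checked.idxLe hg hS

end Cfsg.Agent.H67.McC.Q

namespace Cfsg.Agent.H67.McC.P1
open Cfsg.Agent.H44

noncomputable def rT0 : Tr :=
 (.leaf (nat_lit 0x173e9cd82410735e145ad41348a747251acd182468862a342c0914264019140c8101240800))
noncomputable def gT0 : Tr :=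
 (.leaf (nat_lit 0x150050012004400c002800800180))
/-- The relators. -/
def R : List (List ℕ) := [[1, 1],
  [2, 2],
  [3, 3],
  [4, 4],
  [5, 5],
  [2, 3, 2, 3],
  [2, 4, 2, 4],
  [2, 5, 2, 5],
  [3, 4, 3, 4],
  [1, 2, 1, 2, 1, 2],
  [1, 3, 1, 3, 1, 3],
  [2, 3, 4, 5, 3, 4, 5],
  [2, 3, 4, 5, 4, 3, 5],
  [2, 3, 5, 3, 4, 5, 4],
  [2, 3, 5, 4, 3, 5, 4],
  [1, 2, 1, 2, 1, 3, 2, 3],
  [1, 2, 1, 2, 1, 4, 2, 4],
  [1, 2, 1, 2, 1, 5, 2, 5],
  [1, 2, 3, 2, 1, 3, 1, 3],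
  [1, 3, 1, 3, 1, 4, 3, 4],
  [1, 4, 1, 4, 1, 4, 1, 4],
  [1, 5, 1, 5, 1, 5, 1, 5],
  [3, 5, 3, 5, 3, 5, 3, 5],
  [3, 5, 4, 5, 3, 5, 4, 5],
  [1, 2, 1, 4, 1, 2, 4, 1, 4],
  [1, 2, 1, 5, 1, 2, 5, 1, 5],
  [1, 2, 4, 1, 2, 4, 1, 4, 2],
  [1, 2, 5, 1, 2, 5, 1, 5, 2],
  [1, 4, 5, 4, 5, 1, 4, 5, 4, 5],
  [1, 4, 5, 4, 5, 1, 5, 4, 5, 4],
  [1, 2, 3, 1, 4, 1, 5, 3, 5, 1, 4]]
/-- The subgroup generators. -/
def S : List (List ℕ) := [[1],
  [2],
  [4],
  [5]]
def Wr : List (List ℕ) := [[3, 3],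
  [1, 1],
  [2, 3, 2, 3],
  [4, 3, 4, 3],
  [5, 3, 4, 5, 2, 3, 4],
  [2, 2],
  [3, 1, 3, 1, 3, 1],
  [4, 1, 5, 3, 5, 1, 4, 1, 2, 3, 1],
  [5, 5],
  [1, 2, 1, 2, 1, 2],
  [3, 2, 3, 2],
  [4, 2, 4, 2],
  [4, 5, 1, 4, 5, 4, 5, 1, 4, 5],
  [1, 2, 5, 1, 5, 1, 2, 1, 5],
  [2, 5, 2, 5],
  [3, 4, 5, 2, 3, 4, 5],
  [4, 5, 3, 4, 5, 2, 3],
  [2, 1, 2, 1, 2, 1],
  [4, 1, 4, 1, 2, 1, 4, 1, 2],
  [5, 1, 5, 1, 5, 1, 5, 1]]
def Wn : List (List ℕ) := [[1, 6],
  [2, 8],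
  [4, 10],
  [5, 12]]
def cr : List (ℕ × ℕ × ℕ) := [(0, 0, 0), (0, 0, 0), (1, 5, 0), (1, 8, 1), (1, 11, 3), (0, 0, 0), (1, 10, 1), (1, 30, 4), (0, 0, 0), (1, 9, 0), (1, 5, 1), (1, 6, 1), (1, 28, 3), (1, 25, 4), (1, 7, 0), (1, 11, 4), (1, 11, 2), (1, 9, 1), (1, 24, 6), (1, 21, 1)]
def cn : List (ℕ × ℕ × ℕ) := [(1, 31, 0), (1, 32, 0), (1, 33, 0), (1, 34, 0)]
noncomputable def rT : Tr := rT0
noncomputable def gT : Tr := gT0
noncomputable def rC (i : ℕ) : ℕ := rT.get (nat_lit 0) i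
noncomputable def gC (i : ℕ) : ℕ := gT.get (nat_lit 0) i
noncomputable def row (p : ℕ) : ℕ := rec2 rC (nat_lit 7) (nat_lit 127) (nat_lit 42) (nat_lit 0x3ffffffffff) p
noncomputable def gf (p : ℕ) : ℕ := rec2 gC (nat_lit 8) (nat_lit 255) (nat_lit 14) (nat_lit 16383) p
noncomputable def gw (c : ℕ) : List ℕ := nth [] Wr c
noncomputable def wn (c : ℕ) : ℕ := pack (nat_lit 4) (nth [] Wn c) (nat_lit 0)
noncomputable def C : Cert :=
  { n := (nat_lit 7), na := (nat_lit 0), M := (nat_lit 8), nc := (nat_lit 5), W := (nat_lit 3), EB := (nat_lit 7),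
    LB := (nat_lit 4), nreg := (nat_lit 20), ivT := (nat_lit 0xcdab8967543210), base := (nat_lit 5440),
    row := row, gf := gf, gw := gw, wn := wn }
theorem masks : Masks C (nat_lit 7) (nat_lit 127) (nat_lit 15) (nat_lit 10) (nat_lit 1023) :=
  ⟨by decide +kernel, by decide +kernel, by decide +kernel, by decide +kernel, by decide +kernel⟩
noncomputable def rchk : ℕ → ℕ → ℕ → Bool :=
  rowChk row gf gw (nat_lit 7) (nat_lit 8) (nat_lit 5) (nat_lit 3) (nat_lit 7) (nat_lit 7) (nat_lit 127) (nat_lit 4) (nat_lit 15) (nat_lit 10) (nat_lit 1023) (nat_lit 20) (nat_lit 0xcdab8967543210) (nat_lit 3) (nat_lit 7) (nat_lit 7) (nat_lit 127)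
noncomputable def fchk : ℕ → ℕ → ℕ → Bool :=
  auxRun row gf wn (nat_lit 7) (nat_lit 0) (nat_lit 8) (nat_lit 5) (nat_lit 3) (nat_lit 7) (nat_lit 7) (nat_lit 127) (nat_lit 4) (nat_lit 15) (nat_lit 10) (nat_lit 0xcdab8967543210) (nat_lit 5440) (nat_lit 5) (nat_lit 31)
theorem rows_of {lo hi : ℕ} {t : JL} (h : t.run rchk (nat_lit 35) hi lo = true) : C.RowsOK lo hi :=
  rowsOK_of_run masks h
theorem facts_of {lo hi : ℕ} {t : JL} (h : t.run fchk (nat_lit 20) hi lo = true) : C.FactsOK lo hi :=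
  factsOK_of_run masks h
theorem words_ok : wordsChk 7 5 3 4 20 57890976858124816 5440 R S Wr Wn cr cn = true := by
  decide +kernel
noncomputable def j0 : JL :=
(.cons (nat_lit 7) (nat_lit 0x509872400011203c7001a04302123058014244070c00284000c1182e04b15) (nat_lit 4012)
.nil)
theorem t0 : C.RowsOK (nat_lit 0) (nat_lit 7) :=
  rows_of (t := j0) (by decide +kernel)
noncomputable def j1 : JL :=
(.cons (nat_lit 8) (nat_lit 0xb70009a0007d0006000048000300001800000) (nat_lit 0x58008022400400ce0020045001001000000000000000000000000)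
.nil)
theorem t1 : C.FactsOK (nat_lit 0) (nat_lit 8) :=
  facts_of (t := j1) (by decide +kernel)
theorem checked : Checked C R S :=
  ⟨⟨Wr, Wn, cr, cn, fun _ => rfl, fun _ => rfl, words_ok⟩, t0,
    t1⟩

/-- In any group whose elements `g 1, …, g 5` satisfy the relators `R`, a subgroup containing the words
of `S` has index at most 7 in the subgroup generated by these elements. -/
theorem idxLe {G : Type*} [Group G] {g : ℕ → G} (hg : Sat g R) {H : Subgroup G}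
    (hS : ∀ s ∈ S, ev g s ∈ H) : IdxLe H (gen g 5) 7 :=
  checked.idxLe hg hS

end Cfsg.Agent.H67.McC.P1

namespace Cfsg.Agent.H67.McC.P2
open Cfsg.Agent.H44

noncomputable def rT0 : Tr :=
 (.leaf (nat_lit 0x1f367cb82d16a09a931c9162c44901213604d9d465110d5804612322c00a320c8101240800))
noncomputable def gT0 : Tr :=
 (.leaf (nat_lit 0x150050012004400c002800800180))
/-- The relators. -/
def R : List (List ℕ) := [[1, 1],
  [2, 2],
  [3, 3],
  [4, 4],
  [5, 5],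
  [1, 3, 1, 3],
  [2, 4, 2, 4],
  [2, 5, 2, 5],
  [1, 2, 1, 2, 1, 2],
  [3, 4, 3, 4, 3, 4],
  [3, 4, 5, 4, 3, 5],
  [1, 2, 1, 2, 1, 4, 2, 4],
  [1, 2, 1, 2, 1, 5, 2, 5],
  [1, 3, 1, 4, 5, 4, 3, 5],
  [1, 4, 1, 4, 1, 4, 1, 4],
  [1, 5, 1, 5, 1, 5, 1, 5],
  [1, 5, 3, 5, 1, 5, 3, 5],
  [2, 3, 2, 3, 2, 3, 2, 3],
  [2, 3, 4, 3, 4, 3, 2, 4],
  [2, 3, 5, 3, 2, 3, 5, 3],
  [2, 3, 5, 3, 2, 4, 5, 4],
  [3, 4, 3, 4, 5, 3, 4, 5],
  [3, 5, 3, 5, 3, 5, 3, 5],
  [3, 5, 3, 5, 4, 5, 4, 5],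
  [1, 2, 1, 3, 2, 1, 3, 2, 3],
  [1, 2, 1, 4, 1, 2, 4, 1, 4],
  [1, 2, 1, 5, 1, 2, 5, 1, 5],
  [1, 2, 3, 2, 1, 2, 3, 2, 3],
  [1, 2, 4, 1, 2, 4, 1, 4, 2],
  [1, 2, 5, 1, 2, 5, 1, 5, 2],
  [1, 2, 3, 5, 3, 2, 3, 5, 1, 3],
  [1, 3, 4, 5, 4, 5, 1, 5, 3, 5],
  [1, 3, 5, 1, 5, 3, 1, 5, 1, 5],
  [1, 3, 5, 3, 5, 1, 4, 5, 4, 5],
  [1, 3, 5, 3, 5, 1, 5, 4, 5, 4],
  [1, 3, 5, 3, 5, 3, 1, 5, 3, 5],
  [1, 3, 5, 4, 5, 4, 1, 5, 3, 5],
  [1, 4, 5, 4, 5, 1, 4, 5, 4, 5],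
  [1, 4, 5, 4, 5, 1, 5, 4, 5, 4],
  [2, 3, 2, 3, 2, 5, 3, 2, 3, 5],
  [2, 3, 4, 3, 4, 5, 3, 2, 4, 5],
  [2, 3, 5, 3, 2, 5, 3, 5, 3, 5],
  [2, 3, 5, 3, 2, 5, 4, 5, 4, 5],
  [1, 3, 4, 1, 3, 4, 1, 5, 3, 5, 4]]
/-- The subgroup generators. -/
def S : List (List ℕ) := [[1],
  [2],
  [4],
  [5]]
def Wr : List (List ℕ) := [[3, 3],
  [1, 3, 1, 3],
  [2, 2],
  [4, 4],
  [5, 3, 4, 5, 4, 3],
  [1, 1],
  [5, 2, 5, 2],
  [1, 3, 4, 1, 5, 3, 5, 4, 1, 3, 4],
  [3, 4, 3, 4, 3, 4],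
  [5, 4, 3, 5, 3, 4],
  [2, 1, 2, 1, 2, 1],
  [3, 2, 1, 3, 2, 3, 1, 2, 1],
  [4, 1, 2, 4, 1, 4, 1, 2, 1],
  [5, 1, 5, 1, 2, 1, 5, 1, 2],
  [2, 4, 2, 4],
  [3, 1, 3, 1],
  [4, 1, 4, 1, 4, 1, 4, 1]]
def Wn : List (List ℕ) := [[1, 6],
  [2, 8],
  [4, 10],
  [5, 12]]
def cr : List (ℕ × ℕ × ℕ) := [(0, 0, 0), (1, 5, 0), (0, 0, 0), (0, 0, 0), (1, 10, 5), (0, 0, 0), (1, 7, 1), (1, 43, 3), (1, 9, 0), (1, 10, 2), (1, 8, 1), (1, 24, 3), (1, 25, 3), (1, 26, 6), (1, 6, 0), (1, 5, 1), (1, 14, 1)]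
def cn : List (ℕ × ℕ × ℕ) := [(1, 44, 0), (1, 45, 0), (1, 46, 0), (1, 47, 0)]
noncomputable def rT : Tr := rT0
noncomputable def gT : Tr := gT0
noncomputable def rC (i : ℕ) : ℕ := rT.get (nat_lit 0) i
noncomputable def gC (i : ℕ) : ℕ := gT.get (nat_lit 0) i
noncomputable def row (p : ℕ) : ℕ := rec2 rC (nat_lit 7) (nat_lit 127) (nat_lit 42) (nat_lit 0x3ffffffffff) p
noncomputable def gf (p : ℕ) : ℕ := rec2 gC (nat_lit 8) (nat_lit 255) (nat_lit 14) (nat_lit 16383) p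
noncomputable def gw (c : ℕ) : List ℕ := nth [] Wr c
noncomputable def wn (c : ℕ) : ℕ := pack (nat_lit 4) (nth [] Wn c) (nat_lit 0)
noncomputable def C : Cert :=
  { n := (nat_lit 7), na := (nat_lit 0), M := (nat_lit 8), nc := (nat_lit 5), W := (nat_lit 3), EB := (nat_lit 7),
    LB := (nat_lit 4), nreg := (nat_lit 17), ivT := (nat_lit 0xcdab8967543210), base := (nat_lit 5440),
    row := row, gf := gf, gw := gw, wn := wn }
theorem masks : Masks C (nat_lit 7) (nat_lit 127) (nat_lit 15) (nat_lit 10) (nat_lit 1023) :=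
  ⟨by decide +kernel, by decide +kernel, by decide +kernel, by decide +kernel, by decide +kernel⟩
noncomputable def rchk : ℕ → ℕ → ℕ → Bool :=
  rowChk row gf gw (nat_lit 7) (nat_lit 8) (nat_lit 5) (nat_lit 3) (nat_lit 7) (nat_lit 7) (nat_lit 127) (nat_lit 4) (nat_lit 15) (nat_lit 10) (nat_lit 1023) (nat_lit 17) (nat_lit 0xcdab8967543210) (nat_lit 3) (nat_lit 7) (nat_lit 7) (nat_lit 127)
noncomputable def fchk : ℕ → ℕ → ℕ → Bool :=
  auxRun row gf wn (nat_lit 7) (nat_lit 0) (nat_lit 8) (nat_lit 5) (nat_lit 3) (nat_lit 7) (nat_lit 7) (nat_lit 127) (nat_lit 4) (nat_lit 15) (nat_lit 10) (nat_lit 0xcdab8967543210) (nat_lit 5440) (nat_lit 5) (nat_lit 31)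
theorem rows_of {lo hi : ℕ} {t : JL} (h : t.run rchk (nat_lit 35) hi lo = true) : C.RowsOK lo hi :=
  rowsOK_of_run masks h
theorem facts_of {lo hi : ℕ} {t : JL} (h : t.run fchk (nat_lit 20) hi lo = true) : C.FactsOK lo hi :=
  factsOK_of_run masks h
theorem words_ok : wordsChk 7 5 3 4 17 57890976858124816 5440 R S Wr Wn cr cn = true := by
  decide +kernel
noncomputable def j0 : JL :=
(.cons (nat_lit 7) (nat_lit 0x388901600500123c30e1a305801400483101c2010018284000c1152804992) (nat_lit 4012)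
.nil)
theorem t0 : C.RowsOK (nat_lit 0) (nat_lit 7) :=
  rows_of (t := j0) (by decide +kernel)
noncomputable def j1 : JL :=
(.cons (nat_lit 8) (nat_lit 0xb70009a0007d0006000048000300001800000) (nat_lit 0x58008022400400ce0020045001001000000000000000000000000)
.nil)
theorem t1 : C.FactsOK (nat_lit 0) (nat_lit 8) :=
  facts_of (t := j1) (by decide +kernel)
theorem checked : Checked C R S :=
  ⟨⟨Wr, Wn, cr, cn, fun _ => rfl, fun _ => rfl, words_ok⟩, t0,
    t1⟩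

/-- In any group whose elements `g 1, …, g 5` satisfy the relators `R`, a subgroup containing the words
of `S` has index at most 7 in the subgroup generated by these elements. -/
theorem idxLe {G : Type*} [Group G] {g : ℕ → G} (hg : Sat g R) {H : Subgroup G}
    (hS : ∀ s ∈ S, ev g s ∈ H) : IdxLe H (gen g 5) 7 :=
  checked.idxLe hg hS

end Cfsg.Agent.H67.McC.P2

namespace Cfsg.Agent.H67.McC.H
open Cfsg.Agent.H44

noncomputable def rT0 : Tr :=
 (.leaf (nat_lit 0xbd3f028fcce475119c4d4c9351a0990821589c5623139063d96cf68b2581dc299030784e493d315540356890b41d328707048241e0066133808ce3a1206c8a730d19804233310caa45211548a02208d002341c8dc68254306466011b06046420b9542c010a88862140004c2431020804011100804000))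
noncomputable def gT0 : Tr :=
 (.leaf (nat_lit 0x9800250008c002200084000f00034000b00024000700))
/-- The relators. -/
def R : List (List ℕ) := [[1, 1],
  [2, 2],
  [3, 3],
  [4, 4],
  [5, 5],
  [6, 6],
  [1, 4, 1, 4],
  [2, 3, 2, 3],
  [2, 5, 2, 5],
  [2, 6, 2, 6],
  [3, 5, 3, 5],
  [1, 2, 1, 2, 1, 2],
  [1, 3, 1, 3, 1, 3],
  [3, 4, 3, 4, 3, 4],
  [4, 5, 4, 5, 4, 5],
  [4, 5, 6, 5, 4, 6],
  [2, 3, 4, 6, 4, 3, 6],
  [2, 3, 5, 6, 3, 5, 6],
  [2, 3, 5, 6, 5, 3, 6],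
  [2, 3, 6, 3, 4, 6, 4],
  [2, 3, 6, 3, 5, 6, 5],
  [2, 3, 6, 5, 3, 6, 5],
  [1, 2, 1, 2, 1, 3, 2, 3],
  [1, 2, 1, 2, 1, 5, 2, 5],
  [1, 2, 1, 2, 1, 6, 2, 6],
  [1, 2, 3, 2, 1, 3, 1, 3],
  [1, 3, 1, 3, 1, 5, 3, 5],
  [1, 3, 4, 3, 4, 3, 1, 4],
  [1, 4, 1, 5, 6, 5, 4, 6],
  [1, 5, 1, 5, 1, 5, 1, 5],
  [1, 6, 1, 6, 1, 6, 1, 6],
  [1, 6, 4, 6, 1, 6, 4, 6],
  [2, 4, 2, 4, 2, 4, 2, 4],
  [2, 4, 5, 4, 5, 4, 2, 5],
  [2, 4, 6, 4, 2, 4, 6, 4],
  [2, 4, 6, 4, 2, 5, 6, 5],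
  [3, 4, 5, 4, 5, 4, 3, 5],
  [3, 4, 6, 4, 5, 6, 3, 5],
  [3, 6, 3, 6, 3, 6, 3, 6],
  [3, 6, 5, 6, 3, 6, 5, 6],
  [4, 5, 4, 5, 6, 4, 5, 6],
  [4, 6, 4, 6, 4, 6, 4, 6],
  [4, 6, 4, 6, 5, 6, 5, 6],
  [1, 2, 1, 4, 2, 1, 4, 2, 4],
  [1, 2, 1, 5, 1, 2, 5, 1, 5],
  [1, 2, 1, 6, 1, 2, 6, 1, 6],
  [1, 2, 4, 2, 1, 2, 4, 2, 4],
  [1, 2, 5, 1, 2, 5, 1, 5, 2],
  [1, 2, 6, 1, 2, 6, 1, 6, 2],
  [1, 3, 6, 2, 3, 4, 6, 1, 4],
  [1, 3, 6, 3, 2, 4, 6, 1, 4],
  [2, 3, 4, 2, 3, 4, 3, 2, 4],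
  [2, 3, 4, 2, 4, 3, 4, 2, 4],
  [2, 3, 4, 2, 6, 2, 4, 3, 6],
  [2, 3, 4, 6, 3, 4, 3, 4, 6],
  [2, 3, 5, 4, 6, 4, 3, 6, 5],
  [2, 3, 6, 3, 6, 4, 6, 4, 6],
  [2, 3, 6, 4, 3, 4, 3, 6, 4],
  [2, 3, 6, 4, 6, 4, 6, 3, 6],
  [2, 4, 3, 4, 3, 6, 4, 3, 6],
  [2, 4, 6, 4, 6, 3, 6, 3, 6],
  [1, 2, 4, 2, 1, 3, 4, 2, 4, 3],
  [1, 2, 4, 6, 4, 2, 4, 6, 1, 4],
  [1, 3, 4, 5, 1, 5, 4, 3, 1, 5],
  [1, 4, 5, 6, 5, 6, 1, 6, 4, 6],
  [1, 4, 6, 1, 6, 4, 1, 6, 1, 6],
  [1, 4, 6, 4, 6, 1, 5, 6, 5, 6],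
  [1, 4, 6, 4, 6, 1, 6, 5, 6, 5],
  [1, 4, 6, 4, 6, 4, 1, 6, 4, 6],
  [1, 4, 6, 5, 6, 5, 1, 6, 4, 6],
  [1, 5, 6, 5, 6, 1, 5, 6, 5, 6],
  [1, 5, 6, 5, 6, 1, 6, 5, 6, 5],
  [2, 3, 4, 3, 6, 2, 4, 3, 6, 4],
  [2, 3, 4, 6, 3, 4, 2, 6, 3, 4],
  [2, 3, 5, 3, 2, 4, 5, 4, 5, 4],
  [2, 4, 2, 4, 2, 6, 4, 2, 4, 6],
  [2, 4, 3, 4, 2, 4, 6, 3, 4, 6],
  [2, 4, 5, 4, 5, 6, 4, 2, 5, 6],
  [2, 4, 6, 4, 2, 6, 4, 6, 4, 6],
  [2, 4, 6, 4, 2, 6, 5, 6, 5, 6],
  [3, 4, 3, 4, 5, 3, 6, 5, 4, 6],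
  [3, 4, 3, 6, 4, 6, 3, 6, 4, 6],
  [3, 4, 6, 4, 6, 3, 5, 6, 5, 6],
  [3, 4, 6, 5, 4, 5, 4, 6, 3, 5],
  [3, 5, 4, 6, 4, 6, 3, 6, 5, 6],
  [1, 2, 3, 1, 5, 1, 6, 3, 6, 1, 5],
  [1, 4, 5, 1, 4, 5, 1, 6, 4, 6, 5]]
/-- The subgroup generators. -/
def S : List (List ℕ) := [[1],
  [2],
  [3],
  [5],
  [6]]
def Wr : List (List ℕ) := [[4, 4],
  [1, 4, 1, 4],
  [2, 2],
  [3, 3],
  [5, 5],
  [6, 4, 5, 6, 5, 4],
  [1, 1],
  [6, 2, 6, 2],
  [4, 3, 4, 3, 4, 3],
  [6, 6],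
  [1, 5, 4, 3, 1, 5, 1, 3, 4, 5],
  [4, 5, 4, 5, 4, 5],
  [6, 5, 4, 6, 4, 5],
  [2, 1, 2, 1, 2, 1],
  [3, 4, 2, 4, 3, 1, 2, 4, 2, 1],
  [4, 2, 1, 4, 2, 4, 1, 2, 1],
  [5, 1, 2, 5, 1, 5, 1, 2, 1],
  [6, 1, 6, 1, 2, 1, 6, 1, 2],
  [1, 3, 1, 3, 1, 3],
  [2, 3, 2, 3],
  [6, 4, 3, 6, 2, 3, 4],
  [2, 5, 2, 5],
  [3, 1, 3, 1, 3, 1],
  [4, 1, 4, 1],
  [5, 1, 3, 4, 5, 1, 5, 4, 3, 1],
  [3, 5, 3, 5],
  [1, 2, 5, 1, 5, 1, 2, 1, 5],
  [5, 1, 5, 1, 5, 1, 5, 1],
  [1, 6, 1, 6, 1, 6, 1, 6],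
  [2, 6, 2, 6],
  [3, 4, 6, 1, 4, 1, 3, 6, 2],
  [4, 6, 1, 6, 4, 6, 1, 6],
  [5, 6, 5, 2, 4, 6, 4, 2],
  [4, 2, 1, 3, 4, 2, 4, 3, 1, 2],
  [2, 6, 3, 4, 6, 4, 3],
  [3, 4, 3, 4, 3, 4],
  [5, 4, 5, 4, 5, 4]]
def Wn : List (List ℕ) := [[1, 7],
  [2, 9],
  [3, 11],
  [5, 13],
  [6, 15]]
def cr : List (ℕ × ℕ × ℕ) := [(0, 0, 0), (1, 6, 0), (0, 0, 0), (0, 0, 0), (0, 0, 0), (1, 15, 5), (0, 0, 0), (1, 9, 1), (1, 13, 1), (0, 0, 0), (1, 63, 4), (1, 14, 0), (1, 15, 2), (1, 11, 1), (1, 61, 5), (1, 43, 3), (1, 44, 3), (1, 45, 6), (1, 12, 0), (1, 7, 0), (1, 16, 3), (1, 8, 0), (1, 12, 1), (1, 6, 1), (1, 63, 9), (1, 10, 0), (1, 44, 4), (1, 29, 1), (1, 30, 0), (1, 9, 0), (1, 49, 4), (1, 31, 2), (1, 35, 5), (1, 61, 2), (2, 16, 6), (1, 13, 0), (1, 14, 1)]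
def cn : List (ℕ × ℕ × ℕ) := [(1, 87, 0), (1, 88, 0), (1, 89, 0), (1, 90, 0), (1, 91, 0)]
noncomputable def rT : Tr := rT0
noncomputable def gT : Tr := gT0
noncomputable def rC (i : ℕ) : ℕ := rT.get (nat_lit 0) i
noncomputable def gC (i : ℕ) : ℕ := gT.get (nat_lit 0) i
noncomputable def row (p : ℕ) : ℕ := rec2 rC (nat_lit 6) (nat_lit 63) (nat_lit 63) (nat_lit 0x7fffffffffffffff) p
noncomputable def gf (p : ℕ) : ℕ := rec2 gC (nat_lit 8) (nat_lit 255) (nat_lit 18) (nat_lit 262143) p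
noncomputable def gw (c : ℕ) : List ℕ := nth [] Wr c
noncomputable def wn (c : ℕ) : ℕ := pack (nat_lit 5) (nth [] Wn c) (nat_lit 0)
noncomputable def C : Cert :=
  { n := (nat_lit 15), na := (nat_lit 0), M := (nat_lit 10), nc := (nat_lit 6), W := (nat_lit 4), EB := (nat_lit 9),
    LB := (nat_lit 5), nreg := (nat_lit 37), ivT := (nat_lit 0xf835cb62547418a418820), base := (nat_lit 43648),
    row := row, gf := gf, gw := gw, wn := wn }
theorem masks : Masks C (nat_lit 15) (nat_lit 511) (nat_lit 31) (nat_lit 13) (nat_lit 8191) :=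
  ⟨by decide +kernel, by decide +kernel, by decide +kernel, by decide +kernel, by decide +kernel⟩
noncomputable def rchk : ℕ → ℕ → ℕ → Bool :=
  rowChk row gf gw (nat_lit 15) (nat_lit 10) (nat_lit 6) (nat_lit 4) (nat_lit 15) (nat_lit 9) (nat_lit 511) (nat_lit 5) (nat_lit 31) (nat_lit 13) (nat_lit 8191) (nat_lit 37) (nat_lit 0xf835cb62547418a418820) (nat_lit 4) (nat_lit 15) (nat_lit 8) (nat_lit 255)
noncomputable def fchk : ℕ → ℕ → ℕ → Bool :=
  auxRun row gf wn (nat_lit 15) (nat_lit 0) (nat_lit 10) (nat_lit 6) (nat_lit 4) (nat_lit 15) (nat_lit 9) (nat_lit 511) (nat_lit 5) (nat_lit 31) (nat_lit 13) (nat_lit 0xf835cb62547418a418820) (nat_lit 43648) (nat_lit 5) (nat_lit 31)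
theorem rows_of {lo hi : ℕ} {t : JL} (h : t.run rchk (nat_lit 48) hi lo = true) : C.RowsOK lo hi :=
  rowsOK_of_run masks h
theorem facts_of {lo hi : ℕ} {t : JL} (h : t.run fchk (nat_lit 20) hi lo = true) : C.FactsOK lo hi :=
  factsOK_of_run masks h
theorem words_ok : wordsChk 15 6 4 5 37 18754227528905178281510944 43648 R S Wr Wn cr cn = true := by
  decide +kernel
noncomputable def j0 : JL :=
(.cons (nat_lit 15) (nat_lit 0xd25002423020a1c22170e000021201f1e1d121c18170e000d00011a161b0a00011a03070a1918170e000d000c0416071505090014131211100f0e000d000c04030b0a05090003070805010400070605000403022a2901282726) (nat_lit 624485)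
.nil)
theorem t0 : C.RowsOK (nat_lit 0) (nat_lit 15) :=
  rows_of (t := j0) (by decide +kernel)
noncomputable def j1 : JL :=
(.cons (nat_lit 10) (nat_lit 0xec000cf000b200095000780006000048000300001800000) (nat_lit 0xe00100560008022800400d00020046001001000000000000000000000000000000)
.nil)
theorem t1 : C.FactsOK (nat_lit 0) (nat_lit 10) :=
  facts_of (t := j1) (by decide +kernel)
theorem checked : Checked C R S :=
  ⟨⟨Wr, Wn, cr, cn, fun _ => rfl, fun _ => rfl, words_ok⟩, t0,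
    t1⟩

/-- In any group whose elements `g 1, …, g 6` satisfy the relators `R`, a subgroup containing the words
of `S` has index at most 15 in the subgroup generated by these elements. -/
theorem idxLe {G : Type*} [Group G] {g : ℕ → G} (hg : Sat g R) {H : Subgroup G}
    (hS : ∀ s ∈ S, ev g s ∈ H) : IdxLe H (gen g 6) 15 :=
  checked.idxLe hg hS

end Cfsg.Agent.H67.McC.H

namespace Cfsg.Agent.H67.McC.N1
open Cfsg.Agent.H44

noncomputable def rT0 : Tr :=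
 (.leaf (nat_lit 0x68d012c3b2760ed1a4972700759b82b05ece1cb73325a8c21001ce40e219783145806c9b42c61dc8b90a2b26806a9430b2384e293626e480618382b05248298015060a2c121352388509801040803c0a9182584a09219b2264640a31c240030c3814c194400450c2384308c71081801308114118c2204408220c1002084000c118210c8104200c1044008010020040000))
noncomputable def gT0 : Tr :=
 (.leaf (nat_lit 0xc84d3b0638dc00e8b0338eb8ca36e22cdb94c2ee5146b98512e6247b80db2e238eb82cc2e03b1b1882ac520ab00d76c02d8b18c32c0190b00446c01dab00e8ec2249a8c926c0265a80a5aa0320a80c86a6588a8053ea00d3a8094a8025ca00fae80214a014a68128aa00692601af984b2e6057a980a5e602f6900b7e4076a881dd220cb98032cd46df748b7eda3afa18f2e5c2d7808e7dd22ab621b2d1e2cf368f3cda4cf36968cd84cb27165c5a4c7110dfbd02b6e5063b0663ac4964ad44aeb48a9ad84aaa0957a483a287128a1a49e7409b9902725119391025e440a338454a3512185662945861514051e485e858352021a081a2560591f7d8555d591d74422dd590e384625a09516565318511861645d7104a5d0159660cd5842416494a516451438914cc44923889494434d491041443cf41463c25000090000230000880002100003c0000d00002c0000900001c00001eee017aa801e6a01b89c01de600f69001d6000b47c06cdd00727403c4e00703801bdc01ae6c01b5b016c6801ad900ea5c06a5601a854019d500e64c03952006448068cd0062340684c01602c017cb019e280374a00dc24036d1005a440665000d840065c80156200354f00943c014cf01921c06445015014063c4))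
/-- The relators. -/
def R : List (List ℕ) := [[1, 1],
  [2, 2],
  [3, 3],
  [4, 4],
  [5, 5],
  [6, 6],
  [2, 3, 2, 3],
  [2, 4, 2, 4],
  [2, 5, 2, 5],
  [3, 4, 3, 4],
  [1, 2, 1, 2, 1, 2],
  [1, 3, 1, 3, 1, 3],
  [2, 3, 4, 5, 3, 4, 5],
  [2, 3, 4, 5, 4, 3, 5],
  [2, 3, 5, 3, 4, 5, 4],
  [2, 3, 5, 4, 3, 5, 4],
  [1, 2, 1, 2, 1, 3, 2, 3],
  [1, 2, 1, 2, 1, 4, 2, 4],
  [1, 2, 1, 2, 1, 5, 2, 5],
  [1, 2, 3, 2, 1, 3, 1, 3],
  [1, 3, 1, 3, 1, 4, 3, 4],
  [1, 4, 1, 4, 1, 4, 1, 4],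
  [1, 5, 1, 5, 1, 5, 1, 5],
  [3, 5, 3, 5, 3, 5, 3, 5],
  [3, 5, 4, 5, 3, 5, 4, 5],
  [1, 2, 1, 4, 1, 2, 4, 1, 4],
  [1, 2, 1, 5, 1, 2, 5, 1, 5],
  [1, 2, 4, 1, 2, 4, 1, 4, 2],
  [1, 2, 5, 1, 2, 5, 1, 5, 2],
  [1, 4, 5, 4, 5, 1, 4, 5, 4, 5],
  [1, 4, 5, 4, 5, 1, 5, 4, 5, 4],
  [1, 2, 3, 1, 4, 1, 5, 3, 5, 1, 4],
  [1, 6, 1, 6, 1, 6],
  [1, 2, 6, 1, 2, 6],
  [1, 6, 4, 6, 1, 4],
  [6, 5, 6, 5],
  [3, 6, 3, 6, 3, 6, 3, 6, 3, 6],
  [1, 2, 6, 3, 6, 3, 1, 2, 6, 3, 6, 3, 1, 2, 6, 3, 6, 3]]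
/-- The subgroup generators. -/
def S : List (List ℕ) := [[1],
  [2],
  [3],
  [4],
  [5]]
def Wr : List (List ℕ) := [[6, 6],
  [1, 1],
  [2, 2],
  [3, 3],
  [4, 6, 1, 4, 1, 6],
  [5, 6, 5, 6],
  [2, 6, 1, 2, 6, 1],
  [5, 2, 5, 1, 2, 1, 2, 1],
  [6, 1, 6, 1, 6, 1],
  [4, 3, 4, 3],
  [5, 5],
  [2, 3, 2, 3],
  [5, 3, 4, 5, 2, 3, 4],
  [4, 1, 5, 3, 5, 1, 4, 1, 2, 3, 1],
  [3, 1, 3, 1, 3, 1],
  [4, 3, 4, 1, 3, 1, 3, 1],
  [4, 2, 4, 2],
  [4, 1, 6, 4, 6, 1],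
  [6, 3, 6, 3, 6, 3, 6, 3, 6, 3],
  [1, 2, 1, 2, 1, 2],
  [3, 2, 3, 2]]
def Wn : List (List ℕ) := [[1, 7],
  [2, 9],
  [3, 11],
  [4, 13],
  [5, 15],
  [5, 6, 5, 6],
  [4, 6, 1, 4, 1, 6],
  [4, 5, 1, 4, 5, 4, 5, 1, 4, 5],
  [4, 5, 3, 5, 4, 5, 3, 5],
  [2, 1, 6, 2, 1, 6],
  [2, 6, 1, 2, 6, 1],
  [4, 2, 4, 2],
  [5, 2, 5, 2],
  [2, 5, 2, 5],
  [3, 4, 5, 2, 3, 4, 5],
  [1, 2, 5, 1, 5, 1, 2, 1, 5],
  [1, 2, 6, 1, 2, 6],
  [4, 3, 4, 3],
  [5, 3, 4, 5, 2, 3, 4],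
  [6, 1, 6, 1, 6, 1],
  [2, 3, 2, 3],
  [4, 1, 6, 4, 6, 1],
  [6, 5, 6, 5],
  [1, 6, 1, 6, 1, 6],
  [1, 1],
  [6, 6],
  [2, 1, 2, 1, 2, 1],
  [4, 1, 5, 3, 5, 1, 4, 1, 2, 3, 1],
  [3, 6, 3, 6, 3, 6, 3, 6, 3, 6],
  [5, 1, 2, 1, 5, 1, 2, 5, 1],
  [1, 5, 1, 5, 1, 5, 1, 5],
  [2, 1, 3, 6, 3, 6, 2, 1, 3, 6, 3, 6, 2, 1, 3, 6, 3, 6],
  [3, 1, 3, 1, 3, 1],
  [4, 1, 2, 4, 1, 4, 1, 2, 1],
  [2, 3, 4, 5, 3, 4, 5],
  [6, 1, 2, 6, 1, 2],
  [1, 3, 6, 3, 6, 2, 1, 3, 6, 3, 6, 2, 1, 3, 6, 3, 6, 2],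
  [3, 3],
  [2, 2],
  [5, 5]]
def cr : List (ℕ × ℕ × ℕ) := [(0, 0, 0), (0, 0, 0), (0, 0, 0), (0, 0, 0), (1, 34, 2), (1, 35, 1), (1, 33, 1), (1, 18, 5), (1, 32, 1), (1, 9, 1), (0, 0, 0), (1, 6, 0), (1, 12, 3), (1, 31, 4), (1, 11, 1), (1, 20, 5), (1, 7, 1), (1, 34, 5), (1, 36, 1), (1, 10, 0), (1, 6, 1)]
def cn : List (ℕ × ℕ × ℕ) := [(1, 38, 0), (1, 39, 0), (1, 40, 0), (1, 41, 0), (1, 42, 0), (1, 35, 1), (1, 34, 2), (1, 29, 3), (1, 24, 2), (2, 33, 1), (1, 33, 1), (1, 7, 1), (1, 8, 1), (1, 8, 0), (1, 12, 4), (1, 26, 4), (1, 33, 0), (1, 9, 1), (1, 12, 3), (1, 32, 1), (1, 6, 0), (1, 34, 5), (1, 35, 0), (1, 32, 0), (0, 0, 0), (0, 0, 0), (1, 10, 1), (1, 31, 4), (1, 36, 0), (1, 26, 8), (1, 22, 0), (2, 37, 4), (1, 11, 1), (1, 25, 3), (1, 12, 0), (1, 33, 2), (2, 37, 5), (0, 0, 0), (0, 0, 0), (0, 0, 0)]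
noncomputable def rT : Tr := rT0
noncomputable def gT : Tr := gT0
noncomputable def rC (i : ℕ) : ℕ := rT.get (nat_lit 0) i
noncomputable def gC (i : ℕ) : ℕ := gT.get (nat_lit 0) i
noncomputable def row (p : ℕ) : ℕ := rec2 rC (nat_lit 6) (nat_lit 63) (nat_lit 77) (nat_lit 0x1fffffffffffffffffff) p
noncomputable def gf (p : ℕ) : ℕ := rec2 gC (nat_lit 8) (nat_lit 255) (nat_lit 22) (nat_lit 0x3fffff) p
noncomputable def gw (c : ℕ) : List ℕ := nth [] Wr c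
noncomputable def wn (c : ℕ) : ℕ := pack (nat_lit 5) (nth [] Wn c) (nat_lit 0)
noncomputable def C : Cert :=
  { n := (nat_lit 15), na := (nat_lit 45), M := (nat_lit 168), nc := (nat_lit 6), W := (nat_lit 6), EB := (nat_lit 11),
    LB := (nat_lit 5), nreg := (nat_lit 21), ivT := (nat_lit 0xf835cb62547418a418820), base := (nat_lit 43648),
    row := row, gf := gf, gw := gw, wn := wn }
theorem masks : Masks C (nat_lit 63) (nat_lit 2047) (nat_lit 31) (nat_lit 17) (nat_lit 131071) :=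
  ⟨by decide +kernel, by decide +kernel, by decide +kernel, by decide +kernel, by decide +kernel⟩
noncomputable def rchk : ℕ → ℕ → ℕ → Bool :=
  rowChk row gf gw (nat_lit 15) (nat_lit 168) (nat_lit 6) (nat_lit 6) (nat_lit 63) (nat_lit 11) (nat_lit 2047) (nat_lit 5) (nat_lit 31) (nat_lit 17) (nat_lit 131071) (nat_lit 21) (nat_lit 0xf835cb62547418a418820) (nat_lit 8) (nat_lit 255) (nat_lit 7) (nat_lit 127)
noncomputable def fchk : ℕ → ℕ → ℕ → Bool :=
  auxRun row gf wn (nat_lit 15) (nat_lit 45) (nat_lit 168) (nat_lit 6) (nat_lit 6) (nat_lit 63) (nat_lit 11) (nat_lit 2047) (nat_lit 5) (nat_lit 31) (nat_lit 17) (nat_lit 0xf835cb62547418a418820) (nat_lit 43648) (nat_lit 9) (nat_lit 511)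
theorem rows_of {lo hi : ℕ} {t : JL} (h : t.run rchk (nat_lit 42) hi lo = true) : C.RowsOK lo hi :=
  rowsOK_of_run masks h
theorem facts_of {lo hi : ℕ} {t : JL} (h : t.run fchk (nat_lit 20) hi lo = true) : C.FactsOK lo hi :=
  factsOK_of_run masks h
theorem words_ok : wordsChk 15 6 6 5 21 18754227528905178281510944 43648 R S Wr Wn cr cn = true := by
  decide +kernel
noncomputable def j0 : JL :=
(.cons (nat_lit 15) (nat_lit 0x805ab15aa52014274c0928b22540142690500068d1212210020022c91f3c0008b22100023a2c80f060001c0a10182022c7040600d8d1400602022c50006084880a103800018284060809a3260b96) (nat_lit 0x49a49ca7a63aa3a295a17f9998828f909ea09f3635343332)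
.nil)
theorem t0 : C.RowsOK (nat_lit 0) (nat_lit 15) :=
  rows_of (t := j0) (by decide +kernel)
noncomputable def j1 : JL :=
(.cons (nat_lit 45) (nat_lit 0) (nat_lit 0)
(.cons (nat_lit 16) (nat_lit 0x29a00255001fe00195001500011d000fc000db000ba00099000780006000048000300001800000) (nat_lit 0x3000030003401401c1800008140000a0140401024f0080101001c02410030001006040180012012010060000c0007005007030100a00600c680010053300080219000400cc400200460001001000000000000000000000000000000)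
(.cons (nat_lit 16) (nat_lit 0x3de003ab003780030f002ca002970024900216001d10018c0012c000de000ab000780004500000) (nat_lit 0x4e08802743b04c01804c44031180180908802020030150200c00743b1d406000200480407014000280001405034080580180324030860a00c0400c026183c06400c0482c00018002e00a00e16008000a010050110a00002000200012860080100a00c04010200c01803c280104801807040ea0100300d081d8220060180e03004000b00500b)
(.cons (nat_lit 16) (nat_lit 0x37b0034800315002d00028b0025800225001e0001b60018c0013e000f9000ab000780004500000) (nat_lit 0x36090455ab056214469f1b80500e0d1021f003015191f44200602a30060000e0f005014181f400014600280d810f8b200300e170101a00600c2a0000c002b0050075509000806954a8002019540a802000384401802c54000ba344a00a03028018080284410030078a00a29003017142693e00601c260280c0a27005016)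
(.cons (nat_lit 16) (nat_lit 0x4920045f003ff003b10037e003390028800231001fe0019e0015900114000e1000ae0004500000) (nat_lit 0x1389ada2613c01401c9c9f1c801803131362750098069a2680401135894b5599f86600c0264a0192c00c0488c20000084e00a042440f028040000814040501000f80c0102c3e4301102020071283f668c16400e03e404b81000c05c7c9540038ea003e0c40200787c1a3c06c7e00a02c3e0d219143b00500b1e2387a0060243a0a05c00c0187012030080a020384c7201203a381baf86c39005007)
(.cons (nat_lit 16) (nat_lit 0x46500432003ff003cc00390002d6002910024c001fe001b9001740012f000fc000b70006900000) (nat_lit 0x73bed3600604e517ca6c00c09cb6f72600180cb95e84e00301a76bd1c2f50040267193844ae5314dd458743cdd236512954eaf11934048095e05e222f0ae00a0485e69909785700501b2e31878b66632801803cb43c4688c9a00a042581b289485300500a2b0d01c131b8028109516e3d003015280980a9a2680281237580c26e379c000c0464e112b94ca453abc464f00901d)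
(.cons (nat_lit 16) (nat_lit 0x2fd002ca00297002520021f001ec001b9001860015300120000f6000c300090000660003300000) (nat_lit 0x53c3c0400604cac8780000c0661d0c1d00180d441930d8780401409d71090280180d0c6120000301923c1c00006032ee8184800c0995f000b00180d316028400302880234008064aaff01001813355fa020030267e098008064b8fb4f8018140f5f622003026)
(.cons (nat_lit 16) (nat_lit 0x2d9002a600273002490021f001ec001b90018f0015c00129000f6000c3000990006f0003300000) (nat_lit 0x4a16800404e489434000c065b3230200181448234004035200a00101408a408900302649c78500060511c1500100d02230750030284045c0200604e978a03000c069671502001814450fa00404f12100010132ee267c8a8020138521c85003028)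
(.cons (nat_lit 11) (nat_lit 0x1bf00195001590012f00105000db000b1000870005d0003300000) (nat_lit 0x1501600100cd019e0040342ca04f0900080333a250010134d04400404d344d801013cc9260040512e040010144b0140040352a4b80100d33e502e00301a)
.nil)))))))))
theorem t1 : C.FactsOK (nat_lit 0) (nat_lit 168) :=
  facts_of (t := j1) (by decide +kernel)
theorem checked : Checked C R S :=
  ⟨⟨Wr, Wn, cr, cn, fun _ => rfl, fun _ => rfl, words_ok⟩, t0,
    t1⟩

/-- In any group whose elements `g 1, …, g 6` satisfy the relators `R`, a subgroup containing the words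
of `S` has index at most 15 in the subgroup generated by these elements. -/
theorem idxLe {G : Type*} [Group G] {g : ℕ → G} (hg : Sat g R) {H : Subgroup G}
    (hS : ∀ s ∈ S, ev g s ∈ H) : IdxLe H (gen g 6) 15 :=
  checked.idxLe hg hS

end Cfsg.Agent.H67.McC.N1

namespace Cfsg.Agent.H67.McC.N2
open Cfsg.Agent.H44

noncomputable def rT0 : Tr :=
 (.leaf (nat_lit 0x50e70e60de8dd0e00c181d8b50d68ef0ec8d00912140850c007f09d8808e0e4d0d40b50a00538ad870a3d8a30a48bf0740b0050a1004309d85e8ce8608d08648c288004288e0c38808400328708ce8ad04d0b066d85206003206e09306064e06285e0908b00308a062089284088002d87103043087203086001085184023182202202084181001021000181181083202082006081100100100100100000))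
noncomputable def gT0 : Tr :=
 (.node (.leaf (nat_lit 0xa00cbe9815ad9016bc701f3f699d3a30dcc1109b4190de40699e3f68df31889e3e605d3e515f3e815e3c619cb91052b86056ad5994a9511ba9205ab7219a3648522c3159b340d63308503248573039932f68872f20d6ad39562c4955ab284f2a7954a9104ca9285128518c27284d27590ea7510e2660ce2659068e084aa141099f398f9f498e94404d9d38869b10899a414c9920489849468d21898d414993510897204a17394b9758c816088416198a9539049229491241058a30850b39458b30478b28c78a31478f09400009000008c00008800008400003c00003400002c00002400001c0000060b400a030009fad019f2b00deab005e2b009daa009d29009ca800dc0e019ba4005b23011aa1009a210119a000d91f00989e00d81d01179b00d71b01969901161900959900d51800d48d00d41700939700531600d28c01121500919500d11400d09300d012004f9200cf11008e91004e10018d8b018d0a00cc89008c09018b8f010b0f00ca87008a07004987018906018885010805008784))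
 (.leaf (nat_lit 0xe0c68ee0c609e0c507d80729d804a5d0840cd18286d88486d10289d803b2d0d90ad0069cd00e38c80616c88207c84587d1850ac80311c80490c805a0d08889c9868bc8051fc80726c8870ec0038fc8051ac00292c804bbc00593c0072fc0868dc09d91b80214b80927b80898b8069bb808aab0049db014aeb00c1ea80cb0a804b1a015bda01ec0)))
/-- The relators. -/
def R : List (List ℕ) := [[1, 1],
  [2, 2],
  [3, 3],
  [4, 4],
  [5, 5],
  [6, 6],
  [1, 3, 1, 3],
  [2, 4, 2, 4],
  [2, 5, 2, 5],
  [1, 2, 1, 2, 1, 2],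
  [3, 4, 3, 4, 3, 4],
  [3, 4, 5, 4, 3, 5],
  [1, 2, 1, 2, 1, 4, 2, 4],
  [1, 2, 1, 2, 1, 5, 2, 5],
  [1, 3, 1, 4, 5, 4, 3, 5],
  [1, 4, 1, 4, 1, 4, 1, 4],
  [1, 5, 1, 5, 1, 5, 1, 5],
  [1, 5, 3, 5, 1, 5, 3, 5],
  [2, 3, 2, 3, 2, 3, 2, 3],
  [2, 3, 4, 3, 4, 3, 2, 4],
  [2, 3, 5, 3, 2, 3, 5, 3],
  [2, 3, 5, 3, 2, 4, 5, 4],
  [3, 4, 3, 4, 5, 3, 4, 5],
  [3, 5, 3, 5, 3, 5, 3, 5],
  [3, 5, 3, 5, 4, 5, 4, 5],
  [1, 2, 1, 3, 2, 1, 3, 2, 3],
  [1, 2, 1, 4, 1, 2, 4, 1, 4],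
  [1, 2, 1, 5, 1, 2, 5, 1, 5],
  [1, 2, 3, 2, 1, 2, 3, 2, 3],
  [1, 2, 4, 1, 2, 4, 1, 4, 2],
  [1, 2, 5, 1, 2, 5, 1, 5, 2],
  [1, 2, 3, 5, 3, 2, 3, 5, 1, 3],
  [1, 3, 4, 5, 4, 5, 1, 5, 3, 5],
  [1, 3, 5, 1, 5, 3, 1, 5, 1, 5],
  [1, 3, 5, 3, 5, 1, 4, 5, 4, 5],
  [1, 3, 5, 3, 5, 1, 5, 4, 5, 4],
  [1, 3, 5, 3, 5, 3, 1, 5, 3, 5],
  [1, 3, 5, 4, 5, 4, 1, 5, 3, 5],
  [1, 4, 5, 4, 5, 1, 4, 5, 4, 5],
  [1, 4, 5, 4, 5, 1, 5, 4, 5, 4],
  [2, 3, 2, 3, 2, 5, 3, 2, 3, 5],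
  [2, 3, 4, 3, 4, 5, 3, 2, 4, 5],
  [2, 3, 5, 3, 2, 5, 3, 5, 3, 5],
  [2, 3, 5, 3, 2, 5, 4, 5, 4, 5],
  [1, 3, 4, 1, 3, 4, 1, 5, 3, 5, 4],
  [1, 6, 1, 6, 1, 6],
  [1, 2, 6, 1, 2, 6],
  [1, 6, 4, 6, 1, 4],
  [6, 5, 6, 5],
  [3, 6, 3, 6, 3, 6, 3, 6, 3, 6],
  [2, 3, 6, 3, 2, 6, 2, 3, 6, 3, 2, 6, 2, 3, 6, 3, 2, 6]]
/-- The subgroup generators. -/
def S : List (List ℕ) := [[1],
  [2],
  [3],
  [4],
  [5]]
def Wr : List (List ℕ) := [[6, 6],
  [1, 1],
  [2, 2],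
  [3, 3],
  [4, 6, 1, 4, 1, 6],
  [5, 6, 5, 6],
  [2, 6, 1, 2, 6, 1],
  [5, 2, 5, 1, 2, 1, 2, 1],
  [6, 1, 6, 1, 6, 1],
  [4, 4],
  [5, 3, 4, 5, 4, 3],
  [1, 3, 1, 3],
  [5, 2, 5, 2],
  [1, 3, 4, 1, 5, 3, 5, 4, 1, 3, 4],
  [3, 4, 3, 4, 3, 4],
  [5, 4, 3, 5, 3, 4],
  [1, 4, 1, 4, 1, 4, 1, 4],
  [5, 1, 2, 5, 1, 5, 1, 2, 1],
  [6, 1, 4, 1, 6, 4],
  [5, 1, 4, 5, 4, 5, 1, 4, 5, 4]]
def Wn : List (List ℕ) := [[1, 7],
  [2, 9],
  [3, 11],
  [4, 13],
  [5, 15],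
  [5, 2, 5, 2],
  [3, 2, 1, 3, 2, 3, 1, 2, 1],
  [1, 3, 1, 3],
  [5, 1, 5, 3, 5, 1, 5, 3],
  [2, 3, 2, 3, 2, 3, 2, 3],
  [4, 1, 2, 4, 1, 4, 1, 2, 1],
  [5, 6, 5, 6],
  [4, 6, 1, 4, 1, 6],
  [6, 3, 6, 3, 6, 3, 6, 3, 6, 3],
  [2, 4, 2, 4],
  [3, 4, 3, 4, 3, 4],
  [1, 2, 6, 1, 2, 6],
  [5, 1, 2, 1, 5, 1, 2, 5, 1],
  [6, 1, 6, 1, 6, 1],
  [1, 6, 2, 1, 6, 2],
  [5, 3, 4, 5, 4, 3],
  [2, 1, 6, 2, 1, 6],
  [1, 2, 1, 2, 1, 2],
  [3, 1, 3, 1],
  [4, 1, 4, 1, 4, 1, 4, 1],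
  [4, 2, 4, 2],
  [6, 1, 2, 6, 1, 2],
  [5, 4, 3, 5, 3, 4],
  [3, 6, 3, 6, 3, 6, 3, 6, 3, 6],
  [6, 1, 4, 1, 6, 4],
  [1, 4, 3, 1, 4, 3, 1, 4, 5, 3, 5],
  [6, 2, 1, 6, 2, 1],
  [1, 4, 1, 6, 4, 6],
  [6, 4, 6, 1, 4, 1],
  [1, 6, 1, 6, 1, 6],
  [6, 2, 3, 6, 3, 2, 6, 2, 3, 6, 3, 2, 6, 2, 3, 6, 3, 2],
  [5, 1, 2, 5, 1, 5, 1, 2, 1],
  [2, 5, 1, 2, 1, 2, 1, 5],
  [3, 1, 2, 1, 3, 2, 1, 3, 2],
  [3, 2, 3, 2, 3, 2, 3, 2],
  [2, 1, 2, 1, 2, 1],
  [2, 2],
  [6, 6],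
  [3, 3],
  [1, 1],
  [4, 4]]
def cr : List (ℕ × ℕ × ℕ) := [(0, 0, 0), (0, 0, 0), (0, 0, 0), (0, 0, 0), (1, 47, 2), (1, 48, 1), (1, 46, 1), (1, 13, 5), (1, 45, 1), (0, 0, 0), (1, 11, 5), (1, 6, 0), (1, 8, 1), (1, 44, 3), (1, 10, 0), (1, 11, 2), (1, 15, 0), (1, 27, 3), (1, 47, 3), (1, 38, 4)]
def cn : List (ℕ × ℕ × ℕ) := [(1, 51, 0), (1, 52, 0), (1, 53, 0), (1, 54, 0), (1, 55, 0), (1, 8, 1), (1, 25, 3), (1, 6, 0), (1, 17, 3), (1, 18, 0), (1, 26, 3), (1, 48, 1), (1, 47, 2), (1, 49, 1), (1, 7, 0), (1, 10, 0), (1, 46, 0), (1, 27, 8), (1, 45, 1), (2, 46, 2), (1, 11, 5), (2, 46, 1), (1, 9, 0), (1, 6, 1), (1, 15, 1), (1, 7, 1), (1, 46, 2), (1, 11, 2), (1, 49, 0), (1, 47, 3), (2, 44, 4), (2, 46, 0), (1, 47, 4), (1, 47, 1), (1, 45, 0), (1, 50, 5), (1, 27, 3), (1, 13, 6), (1, 25, 8), (1, 18, 1), (1, 9, 1), (0, 0, 0), (0, 0, 0), (0, 0, 0), (0, 0, 0), (0, 0, 0)]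
noncomputable def rT : Tr := rT0
noncomputable def gT : Tr := gT0
noncomputable def rC (i : ℕ) : ℕ := rT.get (nat_lit 0) i
noncomputable def gC (i : ℕ) : ℕ := gT.get (nat_lit 1) i
noncomputable def row (p : ℕ) : ℕ := rec2 rC (nat_lit 6) (nat_lit 63) (nat_lit 84) (nat_lit 0xfffffffffffffffffffff) p
noncomputable def gf (p : ℕ) : ℕ := rec2 gC (nat_lit 7) (nat_lit 127) (nat_lit 24) (nat_lit 0xffffff) p
noncomputable def gw (c : ℕ) : List ℕ := nth [] Wr c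
noncomputable def wn (c : ℕ) : ℕ := pack (nat_lit 5) (nth [] Wn c) (nat_lit 0)
noncomputable def C : Cert :=
  { n := (nat_lit 15), na := (nat_lit 51), M := (nat_lit 173), nc := (nat_lit 6), W := (nat_lit 7), EB := (nat_lit 12),
    LB := (nat_lit 5), nreg := (nat_lit 20), ivT := (nat_lit 0xf835cb62547418a418820), base := (nat_lit 43648),
    row := row, gf := gf, gw := gw, wn := wn }
theorem masks : Masks C (nat_lit 127) (nat_lit 4095) (nat_lit 31) (nat_lit 19) (nat_lit 524287) :=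
  ⟨by decide +kernel, by decide +kernel, by decide +kernel, by decide +kernel, by decide +kernel⟩
noncomputable def rchk : ℕ → ℕ → ℕ → Bool :=
  rowChk row gf gw (nat_lit 15) (nat_lit 173) (nat_lit 6) (nat_lit 7) (nat_lit 127) (nat_lit 12) (nat_lit 4095) (nat_lit 5) (nat_lit 31) (nat_lit 19) (nat_lit 524287) (nat_lit 20) (nat_lit 0xf835cb62547418a418820) (nat_lit 8) (nat_lit 255) (nat_lit 7) (nat_lit 127)
noncomputable def fchk : ℕ → ℕ → ℕ → Bool :=
  auxRun row gf wn (nat_lit 15) (nat_lit 51) (nat_lit 173) (nat_lit 6) (nat_lit 7) (nat_lit 127) (nat_lit 12) (nat_lit 4095) (nat_lit 5) (nat_lit 31) (nat_lit 19) (nat_lit 0xf835cb62547418a418820) (nat_lit 43648) (nat_lit 9) (nat_lit 511)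
theorem rows_of {lo hi : ℕ} {t : JL} (h : t.run rchk (nat_lit 42) hi lo = true) : C.RowsOK lo hi :=
  rowsOK_of_run masks h
theorem facts_of {lo hi : ℕ} {t : JL} (h : t.run fchk (nat_lit 20) hi lo = true) : C.FactsOK lo hi :=
  factsOK_of_run masks h
theorem words_ok : wordsChk 15 6 7 5 20 18754227528905178281510944 43648 R S Wr Wn cr cn = true := by
  decide +kernel
noncomputable def j0 : JL :=
(.cons (nat_lit 15) (nat_lit 0x49456a948002a05044e0098600113024a9050046091124210180001901f0608090003c191001851e3a70d90003cd0e0234504000808b140018c022c50006084880a1038000182840608099305cb15) (nat_lit 0x57ac944d8da79740419c42a4abaa9e9da6a53c3b3a3938)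
.nil)
theorem t0 : C.RowsOK (nat_lit 0) (nat_lit 15) :=
  rows_of (t := j0) (by decide +kernel)
noncomputable def j1 : JL :=
(.cons (nat_lit 51) (nat_lit 0) (nat_lit 0)
(.cons (nat_lit 16) (nat_lit 0x2910023a001e3001b0001500011d000fc000db000ba00099000780006000048000300001800000) (nat_lit 0x80006000181d080100160200808020203a0801c0280404000110680420038048080083003008000040002008080007008007030100e00600c74001005390008021c000400cdc0020046c001001000000000000000000000000000000)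
(.cons (nat_lit 16) (nat_lit 0x402003bd0037800333002ee002bb0027600216001d10018c0015900114000e1000780003300000) (nat_lit 0x894418002a001405c3c85030140000a02c1c000040a0f0050160d239188f0d80280a8600a000082c0140513e9c4f0018060000a000283c01404c1c0408a612c990803c0200482c84018001600a01a16030000a110050110b2002e006018144100c04090050100a0180600601e12028080a02028080a1300900e06000060002802806830080d00300c)
(.cons (nat_lit 16) (nat_lit 0x39f0036c00339002f4002c10028e0024900204001d10017a0014700102000cf0008a0004500000) (nat_lit 0x20068081b2080280e0f9483f0030061e28c4a0060103a01810063b0050151d00036006010384c8b400c0206c99568894400a036364c8401ea60050171b26c46006034340a21006000488401c06468951080180c014000307a78014034540e098018042b84c8f0027c0140344c0c000344e00a026980b2103eaa005013)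
(.cons (nat_lit 16) (nat_lit 0x492003e1003ae0036900324002cd0028800243001d10018c0014700114000e10009c0006900000) (nat_lit 0xc03e6131186a41f984020094b4380b208021f548edc43a5407802830b8e4b602204858000cc00c02084c27130c8600a046c320b6caee000502261905b6305914dbc00e032561824164530050212a0b920b228802810329acd82735098b10704c6201403e4e14230524f00501c270a11e1b208028081304c29003008242ac8a006010460f2142a3500501e232a40600601e420d014040501014364300901d)
(.cons (nat_lit 16) (nat_lit 0x492004560041a003de003a20036f003210027000210001cb001740012f000cf000780003300000) (nat_lit 0xf38286800c0b0c50266c0c0100b1ef018198c0100b1e301818f80100aa00f47f9900100ade0fe330018153d4c06577bf1dc00c0465c1d27c56516e3e1f6e87d3e5ba5015278765d011024351416612088b5805b00800735141662f2a8028149a090221292de6f100702833390843f3080280d92848a20c06d845d77004013bb1de5c618fcc2ea007026320f984e22e802808991906500300c)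
(.cons (nat_lit 16) (nat_lit 0x2fd002c10028e0025b00228001fe001d4001a10016e0013b00108000d5000a20006f0003c00000) (nat_lit 0xbc8dca40000805b1a5fc64140080571e8c06000c0a93d160f00181591a2e0300302e8b2a40080aa285f00202a56c4c0a006056bb89a3800c0b8311211001815116223a00302c63c3d4600605a498686800c0b1a50d6100181692e161900302a34c1e123e00402a)
(.cons (nat_lit 16) (nat_lit 0x2c700294002610022e00204001da001b00017d0014a00117000ed000c3000900005d0003300000) (nat_lit 0x132268010162e2620300302e2c4c16e006058149680c00c0ba580600202a962100080b6541c00202b054a018006056089423c00c0b851290100181649a3c004055244f001015ac64a0300302e6848c0a006057226780101501a381000302a)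
(.cons (nat_lit 10) (nat_lit 0x1a70017d0015300117000db000b1000870005d0003300000) (nat_lit 0x1581d001016558640040594ca50010160ea91462c00201639a8f4900002016d11260040553c05001015cf26c0040553a04001017356720000302d)
.nil)))))))))
theorem t1 : C.FactsOK (nat_lit 0) (nat_lit 173) :=
  facts_of (t := j1) (by decide +kernel)
theorem checked : Checked C R S :=
  ⟨⟨Wr, Wn, cr, cn, fun _ => rfl, fun _ => rfl, words_ok⟩, t0,
    t1⟩

/-- In any group whose elements `g 1, …, g 6` satisfy the relators `R`, a subgroup containing the words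
of `S` has index at most 15 in the subgroup generated by these elements. -/
theorem idxLe {G : Type*} [Group G] {g : ℕ → G} (hg : Sat g R) {H : Subgroup G}
    (hS : ∀ s ∈ S, ev g s ∈ H) : IdxLe H (gen g 6) 15 :=
  checked.idxLe hg hS

end Cfsg.Agent.H67.McC.N2

namespace Cfsg.Agent.H67.Mc
open Cfsg.Agent.H44

theorem card_C2 {G : Type*} [Group G] {g : ℕ → G} (hg : Sat g RC) :
    Finite (wgen g [[8], [9], [10], [11], [20]]) ∧ Nat.card (wgen g [[8], [9], [10], [11], [20]]) ≤ 24 :=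
  (Cfsg.Agent.H67.McC.C2.checked.step hg [0, 8, 9, 10, 11, 20] (by decide +kernel) (by decide +kernel)
    (by decide +kernel)).wcard (n := 24) (m := 1) (by decide) (wcard_nil g)

theorem card_C3 {G : Type*} [Group G] {g : ℕ → G} (hg : Sat g RC) :
    Finite (wgen g [[8], [9], [10], [11], [12], [13], [20]]) ∧ Nat.card (wgen g [[8], [9], [10], [11], [12], [13], [20]]) ≤ 120 :=
  (Cfsg.Agent.H67.McC.C3.checked.step hg [0, 8, 9, 10, 11, 12, 13, 20] (by decide +kernel) (by decide +kernel)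
    (by decide +kernel)).wcard (n := 5) (m := 24) (by decide) (card_C2 hg)

theorem card_C4 {G : Type*} [Group G] {g : ℕ → G} (hg : Sat g RC) :
    Finite (wgen g [[8], [9], [10], [11], [12], [13], [14], [15], [20]]) ∧ Nat.card (wgen g [[8], [9], [10], [11], [12], [13], [14], [15], [20]]) ≤ 720 :=
  (Cfsg.Agent.H67.McC.C4.checked.step hg [0, 8, 9, 10, 11, 12, 13, 14, 15, 20] (by decide +kernel) (by decide +kernel)
    (by decide +kernel)).wcard (n := 6) (m := 120) (by decide) (card_C3 hg)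

theorem card_C5 {G : Type*} [Group G] {g : ℕ → G} (hg : Sat g RC) :
    Finite (wgen g [[8], [9], [10], [11], [12], [13], [14], [15], [16], [17], [20]]) ∧ Nat.card (wgen g [[8], [9], [10], [11], [12], [13], [14], [15], [16], [17], [20]]) ≤ 5040 :=
  (Cfsg.Agent.H67.McC.C5.checked.step hg [0, 8, 9, 10, 11, 12, 13, 14, 15, 16, 17, 20] (by decide +kernel) (by decide +kernel)
    (by decide +kernel)).wcard (n := 7) (m := 720) (by decide) (card_C4 hg)

theorem card_C6 {G : Type*} [Group G] {g : ℕ → G} (hg : Sat g RC) :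
    Finite (wgen g [[8], [9], [10], [11], [12], [13], [14], [15], [16], [17], [18], [19], [20]]) ∧ Nat.card (wgen g [[8], [9], [10], [11], [12], [13], [14], [15], [16], [17], [18], [19], [20]]) ≤ 40320 :=
  (Cfsg.Agent.H67.McC.C6.checked.step hg [0, 8, 9, 10, 11, 12, 13, 14, 15, 16, 17, 18, 19, 20] (by decide +kernel) (by decide +kernel)
    (by decide +kernel)).wcard (n := 8) (m := 5040) (by decide) (card_C5 hg)

theorem card_Q {G : Type*} [Group G] {g : ℕ → G} (hg : Sat g R0) :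
    Finite (wgen g [[1], [2], [5], [6]]) ∧ Nat.card (wgen g [[1], [2], [5], [6]]) ≤ 384 :=
  (Cfsg.Agent.H67.McC.Q.checked.step hg [0, 1, 2, 5, 6] (by decide +kernel) (by decide +kernel)
    (by decide +kernel)).wcard (n := 384) (m := 1) (by decide) (wcard_nil g)

theorem card_P1 {G : Type*} [Group G] {g : ℕ → G} (hg : Sat g R0) :
    Finite (wgen g [[1], [2], [3], [5], [6]]) ∧ Nat.card (wgen g [[1], [2], [3], [5], [6]]) ≤ 2688 :=
  (Cfsg.Agent.H67.McC.P1.checked.step hg [0, 1, 2, 3, 5, 6] (by decide +kernel) (by decide +kernel)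
    (by decide +kernel)).wcard (n := 7) (m := 384) (by decide) (card_Q hg)

theorem card_P2 {G : Type*} [Group G] {g : ℕ → G} (hg : Sat g R0) :
    Finite (wgen g [[1], [2], [4], [5], [6]]) ∧ Nat.card (wgen g [[1], [2], [4], [5], [6]]) ≤ 2688 :=
  (Cfsg.Agent.H67.McC.P2.checked.step hg [0, 1, 2, 4, 5, 6] (by decide +kernel) (by decide +kernel)
    (by decide +kernel)).wcard (n := 7) (m := 384) (by decide) (card_Q hg)

theorem card_H {G : Type*} [Group G] {g : ℕ → G} (hg : Sat g R0) :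
    Finite (wgen g [[1], [2], [3], [4], [5], [6]]) ∧ Nat.card (wgen g [[1], [2], [3], [4], [5], [6]]) ≤ 40320 :=
  (Cfsg.Agent.H67.McC.H.checked.step hg [0, 1, 2, 3, 4, 5, 6] (by decide +kernel) (by decide +kernel)
    (by decide +kernel)).wcard (n := 15) (m := 2688) (by decide) (card_P1 hg)

theorem card_N1 {G : Type*} [Group G] {g : ℕ → G} (hg : Sat g R0) :
    Finite (wgen g [[1], [2], [3], [5], [6], [7]]) ∧ Nat.card (wgen g [[1], [2], [3], [5], [6], [7]]) ≤ 40320 :=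
  (Cfsg.Agent.H67.McC.N1.checked.step hg [0, 1, 2, 3, 5, 6, 7] (by decide +kernel) (by decide +kernel)
    (by decide +kernel)).wcard (n := 15) (m := 2688) (by decide) (card_P1 hg)

theorem card_N2 {G : Type*} [Group G] {g : ℕ → G} (hg : Sat g R0) :
    Finite (wgen g [[1], [2], [4], [5], [6], [7]]) ∧ Nat.card (wgen g [[1], [2], [4], [5], [6], [7]]) ≤ 40320 :=
  (Cfsg.Agent.H67.McC.N2.checked.step hg [0, 1, 2, 4, 5, 6, 7] (by decide +kernel) (by decide +kernel)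
    (by decide +kernel)).wcard (n := 15) (m := 2688) (by decide) (card_P2 hg)

end Cfsg.Agent.H67.Mc
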