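import Cfsg.Agent.H67.McM
import Cfsg.Agent.H67.McP

/-! Finite checks in the permutation model of the McLaughlin group. -/

set_option autoImplicit false
set_option maxRecDepth 200000

namespace Cfsg.Agent.H67.Mc

open Cfsg.Agent.H43 Cfsg.Agent.H44 Cfsg.Agent.H67.WG

def SE1 : List (List ℕ) := [[20], [21], [5], [24]]
def SE2 : List (List ℕ) := [[20], [21], [6], [25]]
def S0 : List (List ℕ) := [[5], [6], [20], [21], [22], [23], [24], [25]]
def L1 : List (List ℕ) := [[], [24], [5], [5, 24], [21], [21, 24], [21, 5], [21, 5, 24], [20], [20, 24], [20, 5], [20, 5, 24], [20, 21], [20, 21, 24], [20, 21, 5], [20, 21, 5, 24]]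
def L2 : List (List ℕ) := [[], [25], [6], [6, 25], [21], [21, 25], [21, 6], [21, 6, 25], [20], [20, 25], [20, 6], [20, 6, 25], [20, 21], [20, 21, 25], [20, 21, 6], [20, 21, 6, 25]]
def LW : List (List ℕ) := [[], [20], [21], [20, 21]]
def Lv : List (List ℕ) := [[], [5], [6], [24], [25], [5, 6], [5, 24], [5, 25], [6, 24], [6, 25], [24, 25], [5, 6, 24], [5, 6, 25], [5, 24, 25], [6, 24, 25], [5, 6, 24, 25]]
/-- The letters as words in the lifts of the three-cycles. -/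
def WC : List (List ℕ) := [[], [8, 10, 13, 10, 14, 9, 17, 18, 17], [8, 11, 8, 12, 14, 17, 19, 15, 13], [8, 10, 14, 9, 17, 10, 13, 19], [8, 12, 14, 19, 14, 17, 8, 11], [8, 10, 12, 14, 16, 18, 12, 14], [9, 11, 12, 14, 16, 18, 12, 14], [], [8], [9], [10], [11], [12], [13], [14], [15], [16], [17], [18], [19], [20], [8, 11, 8, 12, 15, 12, 16, 19, 16], [8, 10, 16, 13, 19, 9, 15, 10], [8, 10, 12, 14, 16, 18, 8, 10], [8, 10, 16, 9, 19, 10, 15, 13], [8, 10, 16, 9, 14, 18, 11, 12], [8, 12, 9, 17, 12], [8, 12, 17, 13, 9], [10, 14, 11, 19, 14], [10, 14, 19, 15, 11]]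
/-- The letters as words in the first seven letters. -/
def WH : List (List ℕ) := [[], [1], [2], [3], [4], [5], [6], [7], [1, 2, 4, 6, 1, 2, 5, 1, 3], [3, 1, 2, 5, 1, 6, 4, 2, 1], [3, 5, 1, 5, 6, 1, 4, 2, 4], [4, 2, 1, 4, 6, 5, 1, 3, 5], [2, 1, 4, 3, 6, 1, 3, 5], [3, 5, 1, 6, 3, 1, 4, 2], [1, 3, 1, 2, 5, 1, 6, 4, 2], [2, 4, 6, 1, 2, 3, 5, 1, 3], [4, 3, 6, 1, 2, 3, 5, 1], [1, 2, 3, 5, 1, 6, 3, 4], [2, 3, 5, 1, 6, 3, 1, 4], [1, 4, 3, 6, 1, 2, 3, 5], [4, 6, 4, 6], [1, 6, 1, 5, 1, 6, 1, 5], [1, 2], [2, 1], [1, 5, 1], [1, 6, 1], [3, 4, 2, 5, 1, 6, 1, 3, 1, 4], [1, 4, 3, 1, 6, 1, 2, 5, 4, 3], [3, 1, 5, 4, 6, 3, 1, 5, 6, 4], [1, 3, 4, 2, 5, 1, 6, 1, 3, 4]]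

theorem enum1 : M.enumB SE1 L1 = true := by decide +kernel
theorem enum2 : M.enumB SE2 L2 = true := by decide +kernel
theorem inA_0 : ∀ w ∈ L0, inB SA w = true := by decide +kernel
theorem inA_D : ∀ w ∈ LD, inB SA w = true := by decide +kernel
theorem in1 : ∀ w ∈ L1, inB SE1 w = true ∧ inB SA w = true := by decide +kernel
theorem in2 : ∀ w ∈ L2, inB SE2 w = true ∧ inB SA w = true := by decide +kernel
theorem inv0 : ∀ w ∈ Lv, inB S0 w = true ∧ inB SA w = true := by decide +kernel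
theorem cT_in : cT_W.all (inB SA) = true := by decide +kernel
theorem chk_WC : ∀ l ∈ List.range 30, [l] ∈ SA → inB SC (nth [] WC l) = true ∧ M.eqB [l] (nth [] WC l) = true := by
  decide +kernel
theorem chk_WH : ∀ l ∈ List.range 30, [l] ∈ SA → inB SH (nth [] WH l) = true ∧ M.eqB [l] (nth [] WH l) = true := by
  decide +kernel
theorem chk_inv : ∀ w ∈ L0, M.eqB (w ++ w) [] = true →
    (∃ e ∈ L1, M.eqB w e = true) ∨ ∃ e ∈ L2, M.eqB w e = true := by decide +kernel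
theorem chk_three : ∀ w ∈ L0, M.eqB (w ++ (w ++ w)) [] = true → M.eqB w [] = true ∨
    ∃ v ∈ Lv, M.eqB (v ++ w) (22 :: v) = true ∨ M.eqB (v ++ w) (23 :: v) = true := by decide +kernel
theorem chk_C1 : ∀ w ∈ L0, M.eqB (w ++ [5]) (5 :: w) = true → M.eqB (w ++ [24]) (24 :: w) = true →
    ∃ e ∈ L1, M.eqB w e = true := by decide +kernel
theorem chk_C2 : ∀ w ∈ L0, M.eqB (w ++ [6]) (6 :: w) = true → M.eqB (w ++ [25]) (25 :: w) = true →
    ∃ e ∈ L2, M.eqB w e = true := by decide +kernel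
theorem chk_W : ∀ w ∈ L1, M.eqB (w ++ [22]) (22 :: w) = true → ∃ e ∈ LW, M.eqB w e = true := by
  decide +kernel
theorem chk_D1 : ∀ w ∈ L1, M.eqB (w ++ 22 :: (w ++ 22 :: (w ++ [22]))) [] = true → M.eqB w [] = true ∨
    ∃ v ∈ [[], [22], [23]], M.eqB (v ++ w) (5 :: v) = true := by decide +kernel
theorem chk_D2 : ∀ w ∈ L2, M.eqB (w ++ 22 :: (w ++ 22 :: (w ++ [22]))) [] = true →
    M.eqB (5 :: (w ++ 5 :: w)) [21] = true → M.eqB w [25] = true := by decide +kernel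
theorem chk_sq1 : ∀ w ∈ L1, M.eqB (w ++ w) [] = true := by decide +kernel
theorem chk_sq2 : ∀ w ∈ L2, M.eqB (w ++ w) [] = true := by decide +kernel
theorem chk_N1 : ∀ l ∈ [1, 2, 3, 5, 6, 20, 21, 22, 23, 24, 25], ∀ s ∈ SE1, ∃ w ∈ L1,
    M.eqB (l :: s) (w ++ [l]) = true := by decide +kernel
theorem chk_N2 : ∀ l ∈ [1, 2, 4, 5, 6, 20, 21, 22, 23, 24, 25], ∀ s ∈ SE2, ∃ w ∈ L2,
    M.eqB (l :: s) (w ++ [l]) = true := by decide +kernel
theorem chk_fpf1 : ∀ y ∈ [[3, 7], [1, 2, 7, 3, 7, 3]], ∀ w ∈ L1, M.eqB (y ++ w) (w ++ y) = true →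
    M.eqB w [] = true := by decide +kernel
theorem chk_fpf2 : ∀ y ∈ [[4, 7], [2, 4, 7, 4, 2, 7]], ∀ w ∈ L2, M.eqB (y ++ w) (w ++ y) = true →
    M.eqB w [] = true := by decide +kernel
theorem sat_RA : Sat k RA := ok.sat (by decide +kernel)
theorem sat_RC : Sat k RC := ok.sat (by decide +kernel)

end Cfsg.Agent.H67.Mc
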