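import Cfsg.Agent.H67.Hall
import Cfsg.Agent.H67.DC

/-! Kit for the 3-local characterisation of McL: graphs of partial homomorphisms, matrices of
actions on groups of order nine, dihedral conjugacy, a parity lemma. -/

set_option autoImplicit false

namespace Cfsg.Agent.H67.T3

open Subgroup Cfsg Cfsg.Agent.H63 Cfsg.Agent.H67

variable {G : Type*} [Group G]

/-- Two involutions whose product has odd order are conjugate by a power of the product. -/
theorem dih_conj {t s : G} (ht : t * t = 1) (hs : s * s = 1) {m : ℕ}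
    (h : (t * s) ^ (2 * m + 1) = 1) : (t * s) ^ (m + 1) * s * ((t * s) ^ (m + 1))⁻¹ = t := by
  have h1 : ∀ k : ℕ, s * ((t * s) ^ k)⁻¹ = (t * s) ^ k * s := by
    intro k
    induction k with
    | zero => simp
    | succ k ih =>
      have hs' : s⁻¹ = s := inv_eq_of_mul_eq_one_right hs
      have ht' : t⁻¹ = t := inv_eq_of_mul_eq_one_right ht
      rw [pow_succ', mul_inv_rev, ← mul_assoc, ih, mul_inv_rev, hs', ht']
      calc (t * s) ^ k * s * (s * t) = (t * s) ^ k * (s * s) * t := by group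
        _ = (t * s) ^ k * (t * s) * s := by
          rw [hs, mul_one, mul_assoc _ (t * s), mul_assoc t, hs, mul_one]
        _ = t * s * (t * s) ^ k * s := by rw [← pow_succ, ← pow_succ']
  rw [mul_assoc, h1, ← mul_assoc, ← pow_add, show m + 1 + (m + 1) = 2 * m + 1 + 1 by ring,
    pow_succ, h, one_mul, mul_assoc, hs, mul_one]

/-- Adjusting an element by an element of `N` (exponent three) so that it centralises `t`. -/
theorem exists_cent {N : Subgroup G} (hN : ∀ a ∈ N, a ^ 3 = 1) {t g : G} (ht : t * t = 1)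
    (h : t * (g * t * g⁻¹) ∈ N) : ∃ n ∈ N, n * g * t = t * (n * g) := by
  have hs : g * t * g⁻¹ * (g * t * g⁻¹) = 1 := by
    calc g * t * g⁻¹ * (g * t * g⁻¹) = g * (t * t) * g⁻¹ := by group
      _ = 1 := by rw [ht]; group
  have := dih_conj ht hs (m := 1) (hN _ h)
  refine ⟨_, N.pow_mem h (1 + 1), ?_⟩
  generalize (t * (g * t * g⁻¹)) ^ (1 + 1) = w at this ⊢
  calc w * g * t = w * (g * t * g⁻¹) * w⁻¹ * (w * g) := by group
    _ = t * (w * g) := by rw [this]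

/-! ### Graphs -/

section graph
variable {P : Type*} [Group P]

/-- `Γ` is the graph of a homomorphism defined on `H` with kernel `K`. -/
structure Gr (Γ : Subgroup (P × G)) (H K : Subgroup G) : Prop where
  dom : ∀ y, y ∈ H ↔ ∃ σ, (σ, y) ∈ Γ
  fn : ∀ σ, (σ, (1 : G)) ∈ Γ → σ = 1
  ker : ∀ y, ((1 : P), y) ∈ Γ ↔ y ∈ K

variable {Γ : Subgroup (P × G)} {H K : Subgroup G} {σ τ : P} {y y' : G}

theorem Gr.eq (h : Gr Γ H K) (h1 : (σ, y) ∈ Γ) (h2 : (τ, y) ∈ Γ) : σ = τ := by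
  have := pmul h1 (pinv h2)
  rw [mul_inv_cancel] at this
  exact mul_inv_eq_one.1 (h.fn _ this)

theorem Gr.mem (h : Gr Γ H K) (h1 : (σ, y) ∈ Γ) : y ∈ H := (h.dom y).2 ⟨σ, h1⟩

theorem Gr.ex (h : Gr Γ H K) (h1 : y ∈ H) : ∃ σ, (σ, y) ∈ Γ := (h.dom y).1 h1

theorem Gr.div (h : Gr Γ H K) (h1 : (σ, y) ∈ Γ) (h2 : (σ, y') ∈ Γ) : y * y'⁻¹ ∈ K := by
  have := pmul h1 (pinv h2)
  rw [mul_inv_cancel] at this
  exact (h.ker _).1 this

theorem Gr.div' (h : Gr Γ H K) (h1 : (σ, y) ∈ Γ) (h2 : (σ, y') ∈ Γ) : y⁻¹ * y' ∈ K := by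
  have := pmul (pinv h1) h2
  rw [inv_mul_cancel] at this
  exact (h.ker _).1 this

theorem Gr.memK (h : Gr Γ H K) (h1 : (σ, y) ∈ Γ) (e : σ = 1) : y ∈ K := (h.ker _).1 (e ▸ h1)

theorem Gr.one (h : Gr Γ H K) (h1 : (σ, y) ∈ Γ) (e : y ∈ K) : σ = 1 := h.eq h1 ((h.ker _).2 e)

theorem Gr.mulK (h : Gr Γ H K) (h1 : (σ, y) ∈ Γ) (e : y' ∈ K) : (σ, y * y') ∈ Γ := by
  simpa using pmul h1 ((h.ker _).2 e)

theorem Gr.Kmul (h : Gr Γ H K) (h1 : (σ, y) ∈ Γ) (e : y' ∈ K) : (σ, y' * y) ∈ Γ := by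
  simpa using pmul ((h.ker _).2 e) h1

theorem Gr.le (h : Gr Γ H K) : K ≤ H := fun y hy => h.mem ((h.ker y).2 hy)

/-- The homomorphism with graph `Γ`. -/
theorem Gr.exists_hom (h : Gr Γ H K) : ∃ φ : H →* P, ∀ y : H, (φ y, (y : G)) ∈ Γ := by
  choose φ hφ using fun y : H => h.ex y.2
  exact ⟨MonoidHom.mk' φ fun a b => h.eq (hφ (a * b)) (pmul (hφ a) (hφ b)), hφ⟩

/-- The graph of a homomorphism. -/
theorem exists_gr (φ : H →* P) (hK : ∀ y : H, φ y = 1 ↔ (y : G) ∈ K) (hKH : K ≤ H) :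
    ∃ Γ : Subgroup (P × G), Gr Γ H K ∧ ∀ σ y, (σ, y) ∈ Γ ↔ ∃ hy : y ∈ H, φ ⟨y, hy⟩ = σ := by
  have hΓ : ∀ σ y, (σ, y) ∈ (φ.prod H.subtype).range ↔ ∃ hy : y ∈ H, φ ⟨y, hy⟩ = σ := by
    intro σ y
    constructor
    · rintro ⟨k, hk⟩
      obtain ⟨h1, h2⟩ := Prod.ext_iff.1 hk
      obtain rfl : (k : G) = y := h2
      exact ⟨k.2, h1⟩
    · rintro ⟨hy, rfl⟩
      exact ⟨⟨y, hy⟩, rfl⟩
  refine ⟨_, ⟨fun y => ⟨fun hy => ⟨_, (hΓ _ _).2 ⟨hy, rfl⟩⟩, fun ⟨σ, hσ⟩ => ((hΓ _ _).1 hσ).1⟩,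
    fun σ hσ => ?_, fun y => ⟨fun hy => ?_, fun hy => (hΓ _ _).2 ⟨hKH hy, (hK _).2 hy⟩⟩⟩, hΓ⟩
  · obtain ⟨hy, rfl⟩ := (hΓ _ _).1 hσ
    exact map_one φ
  · obtain ⟨hy', e⟩ := (hΓ _ _).1 hy
    exact (hK _).1 e

theorem Gr.conj (h : Gr Γ H K) (w : P) :
    ∃ Γ' : Subgroup (P × G), Gr Γ' H K ∧ ∀ σ y, (σ, y) ∈ Γ' ↔ (w⁻¹ * σ * w, y) ∈ Γ := by
  refine ⟨Γ.comap ((MulAut.conj w⁻¹).toMonoidHom.prodMap (MonoidHom.id G)), ⟨fun y => ?_,
    fun σ hσ => ?_, fun y => ?_⟩, fun σ y => by simp⟩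
  · rw [h.dom]
    constructor
    · rintro ⟨σ, hσ⟩
      exact ⟨w * σ * w⁻¹, by simpa [mul_assoc] using hσ⟩
    · rintro ⟨σ, hσ⟩
      exact ⟨_, hσ⟩
  · have := h.fn (w⁻¹ * σ * w) (by simpa using hσ)
    calc σ = w * (w⁻¹ * σ * w) * w⁻¹ := by group
      _ = 1 := by rw [this]; group
  · rw [← h.ker]; simp

theorem Gr.quot (h : Gr Γ H K) (hs : ∀ σ, ∃ y, (σ, y) ∈ Γ) [(K.subgroupOf H).Normal] :
    Nonempty (H ⧸ K.subgroupOf H ≃* P) := by
  obtain ⟨φ, hφ⟩ := h.exists_hom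
  have hk : K.subgroupOf H = φ.ker := by
    ext y
    exact ⟨fun hy => h.one (hφ y) hy, fun hy => h.memK (hφ y) hy⟩
  refine ⟨(QuotientGroup.quotientMulEquivOfEq hk).trans
    (QuotientGroup.quotientKerEquivOfSurjective φ fun σ => ?_)⟩
  obtain ⟨y, hy⟩ := hs σ
  exact ⟨⟨y, h.mem hy⟩, h.eq (hφ _) hy⟩

theorem Gr.card (h : Gr Γ H K) {V : Subgroup P} {A : Subgroup G}
    (h1 : ∀ y, y ∈ A ↔ ∃ σ ∈ V, (σ, y) ∈ Γ) (hs : ∀ σ ∈ V, ∃ y, (σ, y) ∈ Γ) :
    Nat.card A = Nat.card V * Nat.card K := by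
  have hA : Gr (Γ ⊓ V.comap (MonoidHom.fst P G)) A K :=
    ⟨fun y => (h1 y).trans ⟨fun ⟨σ, a, b⟩ => ⟨σ, b, a⟩, fun ⟨σ, a, b⟩ => ⟨σ, b, a⟩⟩,
      fun σ hσ => h.fn σ hσ.1, fun y => ⟨fun hy => (h.ker y).1 hy.1,
        fun hy => ⟨(h.ker y).2 hy, V.one_mem⟩⟩⟩
  obtain ⟨φ, hφ⟩ := hA.exists_hom
  have hk : φ.ker = K.subgroupOf A := by
    ext y
    exact ⟨fun hy => hA.memK (hφ y) hy, fun hy => hA.one (hφ y) hy⟩
  have hr : φ.range = V := by
    ext σ
    constructor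
    · rintro ⟨y, rfl⟩
      exact (hφ y).2
    · intro hσ
      obtain ⟨y, hy⟩ := hs σ hσ
      exact ⟨⟨y, (h1 y).2 ⟨σ, hσ, hy⟩⟩, h.eq (hφ _).1 hy⟩
  rw [← card_subgroupOf hA.le, ← hk, ← hr, ← Subgroup.index_ker, mul_comm,
    Subgroup.card_mul_index]

/-- An injective graph gives isomorphisms of corresponding subgroups. -/
theorem equiv_of_graph (fn : ∀ σ, (σ, (1 : G)) ∈ Γ → σ = 1) (inj : ∀ y, ((1 : P), y) ∈ Γ → y = 1)
    {A : Subgroup G} {V : Subgroup P} (h1 : ∀ y ∈ A, ∃ σ ∈ V, (σ, y) ∈ Γ)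
    (h2 : ∀ σ ∈ V, ∃ y ∈ A, (σ, y) ∈ Γ) : Nonempty (A ≃* V) := by
  have eq : ∀ {σ τ y}, (σ, y) ∈ Γ → (τ, y) ∈ Γ → σ = τ := fun a b => by
    have := pmul a (pinv b)
    rw [mul_inv_cancel] at this
    exact mul_inv_eq_one.1 (fn _ this)
  choose φ hV hφ using fun y : A => h1 y y.2
  let ψ : A →* V := MonoidHom.mk' (fun y => ⟨φ y, hV y⟩) fun a b =>
    Subtype.ext (eq (hφ (a * b)) (pmul (hφ a) (hφ b)))
  refine ⟨MulEquiv.ofBijective ψ ⟨(injective_iff_map_eq_one ψ).2 fun y hy => ?_, fun σ => ?_⟩⟩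
  · have e : φ y = 1 := congrArg Subtype.val hy
    exact Subtype.ext (inj _ (e ▸ hφ y))
  · obtain ⟨y, hy, e⟩ := h2 σ σ.2
    exact ⟨⟨y, hy⟩, Subtype.ext (eq (hφ _) e)⟩

end graph

/-! ### Matrices of actions on a group of order nine -/

/-- Vectors. -/
abbrev V2 : Type := ZMod 3 × ZMod 3

/-- Two by two matrices over the field with three elements. -/
structure M2 where
  a : ZMod 3
  b : ZMod 3
  c : ZMod 3
  d : ZMod 3
  deriving DecidableEq, Fintype

instance : Mul M2 := ⟨fun m n => ⟨m.a * n.a + m.b * n.c, m.a * n.b + m.b * n.d,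
  m.c * n.a + m.d * n.c, m.c * n.b + m.d * n.d⟩⟩
instance : One M2 := ⟨⟨1, 0, 0, 1⟩⟩
instance : Neg M2 := ⟨fun m => ⟨-m.a, -m.b, -m.c, -m.d⟩⟩

/-- The matrix applied to a vector. -/
def M2.ap (m : M2) (p : V2) : V2 := (m.a * p.1 + m.b * p.2, m.c * p.1 + m.d * p.2)

theorem M2.ap_mul (m n : M2) (p : V2) : (m * n).ap p = m.ap (n.ap p) := by
  show ((m.a * n.a + m.b * n.c) * p.1 + (m.a * n.b + m.b * n.d) * p.2,
    (m.c * n.a + m.d * n.c) * p.1 + (m.c * n.b + m.d * n.d) * p.2) = _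
  simp only [M2.ap, Prod.mk.injEq]
  constructor <;> ring

theorem M2.ap_one : ∀ p : V2, (1 : M2).ap p = p := by decide

theorem M2.ap_negone : ∀ p : V2, (-1 : M2).ap p = -p := by decide

theorem M2.ext_ap : ∀ m n : M2, m.ap (1, 0) = n.ap (1, 0) → m.ap (0, 1) = n.ap (0, 1) → m = n := by
  intro m n h1 h2
  simp only [M2.ap, mul_one, mul_zero, add_zero, zero_add, Prod.mk.injEq] at h1 h2
  cases m; cases n; simp_all

/-- The element with coordinates `p`. -/
def E (u v : G) (p : V2) : G := u ^ p.1.val * v ^ p.2.val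

/-- `u, v` is a basis of the elementary abelian group `A` of order nine. -/
structure Bas (A : Subgroup G) (u v : G) : Prop where
  cu : u ^ 3 = 1
  cv : v ^ 3 = 1
  comm : u * v = v * u
  inj : ∀ p, E u v p = 1 → p = 0
  mem : ∀ g, g ∈ A ↔ ∃ p, E u v p = g

theorem pow_val_add {u : G} (h : u ^ 3 = 1) (i j : ZMod 3) :
    u ^ (i + j).val = u ^ i.val * u ^ j.val := by
  rw [← pow_add, ZMod.val_add, ← pow_eq_pow_mod _ h]

theorem E_add {u v : G} (cu : u ^ 3 = 1) (cv : v ^ 3 = 1) (comm : u * v = v * u) (p q : V2) :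
    E u v (p + q) = E u v p * E u v q := by
  have hc : Commute (v ^ p.2.val) (u ^ q.1.val) := (Commute.symm comm).pow_pow _ _
  simp only [E, Prod.fst_add, Prod.snd_add, pow_val_add cu, pow_val_add cv]
  rw [mul_assoc, mul_assoc, ← mul_assoc (u ^ q.1.val), ← hc.eq, mul_assoc]

@[simp] theorem E_zero (u v : G) : E u v 0 = 1 := by simp [E]
theorem E_10 (u v : G) : E u v (1, 0) = u := by simp [E, ZMod.val_one]
theorem E_01 (u v : G) : E u v (0, 1) = v := by simp [E, ZMod.val_one]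
theorem E_11 (u v : G) : E u v (1, 1) = u * v := by simp [E, ZMod.val_one]

/-- `g` acts on the group with basis `u, v` by the matrix `m`. -/
def Act (u v g : G) (m : M2) : Prop := ∀ p, g * E u v p * g⁻¹ = E u v (m.ap p)

section act
variable {A : Subgroup G} {u v g g' : G} {m n : M2}

theorem Bas.add (h : Bas A u v) (p q : V2) : E u v (p + q) = E u v p * E u v q :=
  E_add h.cu h.cv h.comm p q

theorem Bas.neg (h : Bas A u v) (p : V2) : E u v (-p) = (E u v p)⁻¹ :=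
  eq_inv_of_mul_eq_one_left (by rw [← h.add, neg_add_cancel, E_zero])

theorem Bas.injE (h : Bas A u v) {p q : V2} (e : E u v p = E u v q) : p = q :=
  sub_eq_zero.1 (h.inj _ (by rw [sub_eq_add_neg, h.add, h.neg, e, mul_inv_cancel]))

theorem Bas.memE (h : Bas A u v) (p : V2) : E u v p ∈ A := (h.mem _).2 ⟨p, rfl⟩

theorem Bas.mem_u (h : Bas A u v) : u ∈ A := E_10 u v ▸ h.memE _
theorem Bas.mem_v (h : Bas A u v) : v ∈ A := E_01 u v ▸ h.memE _

theorem Bas.smul (h : Bas A u v) (i : ZMod 3) (p : V2) : E u v (i • p) = E u v p ^ i.val := by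
  have : i = 0 ∨ i = 1 ∨ i = 2 := by revert i; decide
  rcases this with rfl | rfl | rfl
  · simp
  · simp [ZMod.val_one]
  · rw [two_smul, h.add, show (2 : ZMod 3).val = 2 from rfl, sq]

theorem Bas.cube (h : Bas A u v) (hg : g ∈ A) : g ^ 3 = 1 := by
  obtain ⟨p, rfl⟩ := (h.mem g).1 hg
  have : ∀ p : V2, p + p + p = 0 := by decide
  rw [pow_succ, sq, ← h.add, ← h.add, this, E_zero]

theorem Bas.commute (h : Bas A u v) (hg : g ∈ A) (hg' : g' ∈ A) : g * g' = g' * g := by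
  obtain ⟨p, rfl⟩ := (h.mem g).1 hg
  obtain ⟨q, rfl⟩ := (h.mem g').1 hg'
  rw [← h.add, ← h.add, add_comm]

theorem Bas.card (h : Bas A u v) : Nat.card A = 9 := by
  rw [← Nat.card_congr (Equiv.ofBijective (fun p : V2 => (⟨E u v p, h.memE p⟩ : A))
    ⟨fun p q e => h.injE (congrArg Subtype.val e), fun g => by
      obtain ⟨p, hp⟩ := (h.mem g).1 g.2
      exact ⟨p, Subtype.ext hp⟩⟩)]
  simp

theorem Bas.closure (h : Bas A u v) : closure {u, v} = A := by
  refine le_antisymm ((closure_le _).2 ?_) fun g hg => ?_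
  · rintro g (rfl | rfl)
    exacts [h.mem_u, h.mem_v]
  · obtain ⟨p, rfl⟩ := (h.mem g).1 hg
    exact mul_mem (pow_mem (subset_closure (by simp)) _) (pow_mem (subset_closure (by simp)) _)

theorem bas_of [Finite G] (hc : Nat.card A ≤ 9) (hu : u ∈ A) (hv : v ∈ A) (cu : u ^ 3 = 1)
    (cv : v ^ 3 = 1) (comm : u * v = v * u) (h1 : u ≠ 1) (h2 : v ∉ zpowers u) : Bas A u v := by
  have hou : orderOf u = 3 := orderOf_eq_prime cu h1
  have inj : ∀ p, E u v p = 1 → p = 0 := by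
    rintro ⟨i, j⟩ e
    have hj : j = 0 := by
      by_contra hj
      have h3 : v ^ j.val ∈ zpowers u := by
        rw [show v ^ j.val = (u ^ i.val)⁻¹ from eq_inv_of_mul_eq_one_right e]
        exact inv_mem (pow_mem (mem_zpowers u) _)
      have : j = 1 ∨ j = 2 := (by decide : ∀ j : ZMod 3, ¬ j = 0 → j = 1 ∨ j = 2) j hj
      rcases this with rfl | rfl
      · exact h2 (by simpa [ZMod.val_one] using h3)
      · apply h2
        have h4 := pow_mem h3 2
        rwa [← pow_mul, show (2 : ZMod 3).val * 2 = 3 + 1 from rfl, pow_succ, cv, one_mul] at h4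
    subst hj
    have h5 : u ^ i.val = 1 := by simpa [E] using e
    have h6 := orderOf_dvd_of_pow_eq_one h5
    rw [hou] at h6
    have : i = 0 := (by decide : ∀ i : ZMod 3, 3 ∣ i.val → i = 0) i h6
    rw [this]; rfl
  have hm : ∀ p, E u v p ∈ A := fun p => mul_mem (pow_mem hu _) (pow_mem hv _)
  refine ⟨cu, cv, comm, inj, fun g => ⟨fun hg => ?_, fun ⟨p, hp⟩ => hp ▸ hm p⟩⟩
  have hi : Function.Injective fun p : V2 => (⟨E u v p, hm p⟩ : A) := fun p q e => by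
    have e' : E u v p = E u v q := congrArg Subtype.val e
    have hq : E u v (-q) = (E u v q)⁻¹ :=
      eq_inv_of_mul_eq_one_left (by rw [← E_add cu cv comm, neg_add_cancel, E_zero])
    exact sub_eq_zero.1 (inj _ (by rw [sub_eq_add_neg, E_add cu cv comm, hq, e', mul_inv_cancel]))
  have hb := (hi.bijective_of_nat_card_le (by simpa using hc)).2
  obtain ⟨p, hp⟩ := hb ⟨g, hg⟩
  exact ⟨p, congrArg Subtype.val hp⟩

theorem Act.mul (h1 : Act u v g m) (h2 : Act u v g' n) : Act u v (g * g') (m * n) := fun p => by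
  rw [M2.ap_mul, ← h1, ← h2]; group

theorem act_one (u v : G) : Act u v 1 1 := fun p => by rw [M2.ap_one]; group

theorem Bas.act_of (h : Bas A u v) (h1 : g * u * g⁻¹ = E u v (m.a, m.c))
    (h2 : g * v * g⁻¹ = E u v (m.b, m.d)) : Act u v g m := fun p => by
  have e : m.ap p = p.1 • (m.a, m.c) + p.2 • (m.b, m.d) := by
    simp only [M2.ap, Prod.smul_mk, smul_eq_mul, Prod.mk_add_mk, Prod.mk.injEq]
    constructor <;> ring
  rw [e, h.add, h.smul, h.smul, ← h1, ← h2, conj_pow, conj_pow, E]; group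

theorem Bas.ex_act (h : Bas A u v) (hg : g ∈ N[A]) : ∃ m, Act u v g m := by
  obtain ⟨p, hp⟩ := (h.mem _).1 (conj_mem_of_mem_normalizer hg h.mem_u)
  obtain ⟨q, hq⟩ := (h.mem _).1 (conj_mem_of_mem_normalizer hg h.mem_v)
  exact ⟨⟨p.1, q.1, p.2, q.2⟩, h.act_of hp.symm hq.symm⟩

theorem Bas.act_eq (h : Bas A u v) (h1 : Act u v g m) (h2 : Act u v g n) : m = n :=
  M2.ext_ap m n (h.injE ((h1 _).symm.trans (h2 _))) (h.injE ((h1 _).symm.trans (h2 _)))

theorem Bas.norm_of_act [Finite G] (h : Bas A u v) (h1 : Act u v g m) : g ∈ N[A] :=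
  mem_normalizer_of_cj_le (cj_le_iff.2 fun y hy => by
    obtain ⟨p, rfl⟩ := (h.mem y).1 hy
    rw [h1]; exact h.memE _)

theorem Bas.cent_of_act (h : Bas A u v) (h1 : Act u v g 1) : g ∈ C[A] :=
  mem_centralizer_iff.2 fun y hy => by
    obtain ⟨p, rfl⟩ := (h.mem y).1 hy
    have := h1 p
    rw [M2.ap_one] at this
    rw [← mul_inv_eq_iff_eq_mul.1 this]

theorem Bas.act_of_cent (h : Bas A u v) (h1 : g ∈ C[A]) : Act u v g 1 := fun p => by
  rw [M2.ap_one, conj_eq_of_mem_centralizer h1 (h.memE p)]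

theorem Bas.act_of_inv (h : Bas A u v) (h1 : ∀ y ∈ A, g * y * g⁻¹ = y⁻¹) : Act u v g (-1) :=
  fun p => by rw [M2.ap_negone, h.neg, h1 _ (h.memE p)]

theorem Bas.inv_of_act (h : Bas A u v) (h1 : Act u v g (-1)) {y : G} (hy : y ∈ A) :
    g * y * g⁻¹ = y⁻¹ := by
  obtain ⟨p, rfl⟩ := (h.mem y).1 hy
  rw [h1, M2.ap_negone, h.neg]

theorem Bas.act_inv [Finite G] (h : Bas A u v) (h1 : Act u v g m) :
    ∃ n, Act u v g⁻¹ n ∧ m * n = 1 ∧ n * m = 1 := by
  obtain ⟨n, hn⟩ := h.ex_act (inv_mem (h.norm_of_act h1))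
  refine ⟨n, hn, h.act_eq (h1.mul hn) ?_, h.act_eq (hn.mul h1) ?_⟩
  · rw [mul_inv_cancel]; exact act_one u v
  · rw [inv_mul_cancel]; exact act_one u v

end act

/-! ### A parity lemma -/

/-- If every conjugate `s ≠ t` of the involution `t` commuting with `t` has `s t` conjugate to `t`,
the centraliser of `t` has odd index. -/
theorem odd_index_cent [Finite G] {t : G} (ht : t * t = 1)
    (h : ∀ s, IsConj t s → s ≠ t → s * t = t * s → IsConj t (s * t)) : Odd (C1[t]).index := by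
  classical
  by_cases ht1 : t = 1
  · have : C1[t] = ⊤ := by
      rw [eq_top_iff]; intro g _; rw [mem_centralizer_singleton_iff, ht1]; simp
    rw [this]; simp
  let Ω := {s : G // IsConj t s}
  have hne : ∀ s : Ω, (s : G) ≠ 1 := fun s e => ht1 (isConj_one_left.1 (e ▸ s.2))
  let φ : Ω → Ω := fun s => if h1 : (s : G) = t then s else if h2 : (s : G) * t = t * s then
    ⟨s * t, h s s.2 h1 h2⟩ else ⟨t * s * t⁻¹, s.2.trans (isConj_iff.2 ⟨t, rfl⟩)⟩
  have ht' : t⁻¹ = t := inv_eq_of_mul_eq_one_right ht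
  have hφ : Function.Involutive φ := fun s => by
    by_cases h1 : (s : G) = t
    · simp [φ, h1]
    by_cases h2 : (s : G) * t = t * s
    · have a1 : (s : G) * t ≠ t := fun e => hne s (by simpa using e)
      have a2 : (s : G) * t * t = t * (s * t) := by rw [← mul_assoc, ← h2]
      apply Subtype.ext
      simp only [φ, dif_neg h1, dif_pos h2, dif_neg a1, dif_pos a2]
      rw [mul_assoc, ht, mul_one]
    · have a1 : t * (s : G) * t⁻¹ ≠ t := fun e => h1 (by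
        calc (s : G) = t⁻¹ * (t * s * t⁻¹) * t := by group
          _ = t := by rw [e]; group)
      have a2 : ¬ t * (s : G) * t⁻¹ * t = t * (t * s * t⁻¹) := fun e => h2 (by
        have := mul_left_cancel (by simpa [mul_assoc] using e : t * (s : G) = t * (t * (s * t⁻¹)))
        calc (s : G) * t = t * (s * t⁻¹) * t := by rw [← this]
          _ = t * s := by group)
      apply Subtype.ext
      simp only [φ, dif_neg h1, dif_neg h2, dif_neg a1, dif_neg a2]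
      rw [ht']
      calc t * (t * (s : G) * t) * t = (t * t) * s * (t * t) := by group
        _ = s := by rw [ht]; group
  have : Fintype Ω := Fintype.ofFinite Ω
  have h2 := Equiv.Perm.card_fixedPoints_modEq (f := (φ : Function.End Ω)) (p := 2) (n := 1)
    (funext hφ)
  have h3 : Fintype.card (Function.fixedPoints φ) = 1 := by
    rw [Fintype.card_eq_one_iff]
    refine ⟨⟨⟨t, IsConj.refl t⟩, dif_pos rfl⟩, ?_⟩
    rintro ⟨s, hs⟩
    apply Subtype.ext
    apply Subtype.ext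
    by_contra h1
    change ¬ (s : G) = t at h1
    have hs' := congrArg Subtype.val (Function.mem_fixedPoints_iff.1 hs)
    by_cases h2 : (s : G) * t = t * s
    · simp only [φ, dif_neg h1, dif_pos h2] at hs'
      exact ht1 (by simpa using hs')
    · simp only [φ, dif_neg h1, dif_neg h2] at hs'
      exact h2 (by rw [← mul_inv_eq_iff_eq_mul.1 hs'])
  have h4 : (C1[t]).index = Fintype.card Ω := by
    have e : (C1[t]).index = (MulAction.stabilizer (ConjAct G) t).index := by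
      rw [Subgroup.centralizer_eq_comap_stabilizer]
      exact Subgroup.index_comap_of_surjective (f := ConjAct.toConjAct.toMonoidHom) _
        ConjAct.toConjAct.surjective
    rw [← Nat.card_eq_fintype_card, e, MulAction.index_stabilizer,
      ConjAct.orbit_eq_carrier_conjClasses, ← Nat.card_coe_set_eq]
    refine Nat.card_congr (Equiv.subtypeEquivRight fun s => ?_)
    rw [ConjClasses.mem_carrier_iff_mk_eq, ConjClasses.mk_eq_mk_iff_isConj, isConj_comm]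
  rw [h4, Nat.odd_iff]
  rw [h3] at h2
  exact h2

end Cfsg.Agent.H67.T3
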