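import Cfsg.Agent.H67.T3S
import Cfsg.Agent.H91.SL25
import Cfsg.Agent.H3.Primitive

/-! The 3-local characterisation of McL: the Sylow 3-subgroup. -/

set_option autoImplicit false

namespace Cfsg.Agent.H67.T3

open Subgroup Equiv Cfsg Cfsg.Agent.H63 Cfsg.Agent.H67 Cfsg.Agent.H91

variable {G : Type*} [Group G]

/-- The subgroup generated by the 3-elements of `H`. -/
def O3 (H : Subgroup G) : Subgroup G := closure {g : G | g ∈ H ∧ ∃ k : ℕ, orderOf g = 3 ^ k}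

theorem O3_le (H : Subgroup G) : O3 H ≤ H := (closure_le _).2 fun _ hg => hg.1

theorem mem_O3 {H : Subgroup G} {g : G} (hg : g ∈ H) {k : ℕ} (h : g ^ 3 ^ k = 1) : g ∈ O3 H := by
  obtain ⟨j, -, hj⟩ := (Nat.dvd_prime_pow Nat.prime_three).1 (orderOf_dvd_of_pow_eq_one h)
  exact subset_closure ⟨hg, j, hj⟩

theorem norm_O3 [Finite G] {H : Subgroup G} {g : G} (hg : g ∈ N[H]) : g ∈ N[O3 H] := by
  refine mem_normalizer_of_cj_le ?_
  rw [O3, cj_closure, closure_le]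
  rintro _ ⟨y, ⟨hy, k, hk⟩, rfl⟩
  exact subset_closure ⟨conj_mem_of_mem_normalizer hg hy, k, by rw [orderOf_conj', hk]⟩

theorem O3_le_of_index {H K : Subgroup G} [K.Normal] (hK : K.index = 2) : O3 H ≤ K := by
  rw [O3, closure_le]
  rintro g ⟨-, k, hk⟩
  obtain ⟨m, hm⟩ : Odd (3 ^ k) := Odd.pow (by decide)
  have h1 : g ^ (2 * m + 1) = 1 := by rw [← hm, ← hk, pow_orderOf_eq_one]
  have h2 : g ^ 2 ∈ K := hK ▸ K.pow_index_mem g
  rw [pow_succ, pow_mul] at h1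
  rw [SetLike.mem_coe, eq_inv_of_mul_eq_one_right h1]
  exact inv_mem (pow_mem h2 m)

theorem inv_of_cube {z : G} (h : z ^ 3 = 1) : z⁻¹ = z * z :=
  inv_eq_of_mul_eq_one_left (by rw [← h, pow_succ, sq])

theorem mem_zp3 {z g : G} (h : z ^ 3 = 1) : g ∈ zpowers z ↔ g = 1 ∨ g = z ∨ g = z⁻¹ := by
  constructor
  · rintro ⟨k, rfl⟩
    have h3 : z ^ (3 : ℤ) = 1 := by exact_mod_cast h
    have e : z ^ k = z ^ (k % 3) := by
      conv_lhs => rw [← Int.emod_add_mul_ediv k 3, zpow_add, zpow_mul, h3, one_zpow, mul_one]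
    have : k % 3 = 0 ∨ k % 3 = 1 ∨ k % 3 = 2 := by omega
    show z ^ k = 1 ∨ z ^ k = z ∨ z ^ k = z⁻¹
    rcases this with a | a | a <;> rw [e, a]
    · simp
    · simp
    · rw [inv_of_cube h, zpow_two]; simp
  · rintro (rfl | rfl | rfl)
    exacts [one_mem _, mem_zpowers _, inv_mem (mem_zpowers _)]

theorem eq_one_of_sq_cube {g : G} (h2 : g * g = 1) (h3 : g ^ 3 = 1) : g = 1 := by
  rw [pow_succ, sq, h2, one_mul] at h3; exact h3

theorem mem_of_sq_cube {H : Subgroup G} {g : G} (h2 : g * g ∈ H) (h3 : g ^ 3 = 1) : g ∈ H := by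
  rw [← inv_of_cube h3] at h2; exact inv_mem_iff.1 h2

theorem dvd243 {n : ℕ} (h : n ∣ 243) : n = 1 ∨ n = 3 ∨ n = 9 ∨ n = 27 ∨ n = 81 ∨ n = 243 := by
  obtain ⟨j, hj, rfl⟩ := (Nat.dvd_prime_pow Nat.prime_three (m := 5)).1 h
  interval_cases j <;> simp

theorem sl_inv : ∀ w : SL25, w * w = 1 → w = 1 ∨ w = -1 := by decide +kernel

theorem sl_three : ∀ w : SL25, w ^ 3 = 1 → w ≠ 1 → ∃ g : SL25, g * w = slX * g := by
  decide +kernel

/-- An element of order four inverting `slX`. -/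
def slF : SL25 := ⟨!![0, 2; 2, 0], by decide⟩
/-- An element carrying `slX` to a conjugate generating with it a subgroup containing `-1`. -/
def slG : SL25 := ⟨!![0, 1; 4, 3], by decide⟩

/-- The hypotheses on the 3-local structure. -/
structure Hyp (S J Q : Subgroup G) (z : G) (ΓL : Subgroup (SL25 × G))
    (ΓM : Subgroup (Perm (Fin 6) × G)) : Prop where
  syl : IsSyl 3 S ⊤
  zS : Z[S] = zpowers z
  z3 : z ^ 3 = 1
  z1 : z ≠ 1
  JS : J ≤ S
  Jc : ∀ a ∈ J, ∀ b ∈ J, a * b = b * a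
  Je : ∀ a ∈ J, a ^ 3 = 1
  cJ : Nat.card J = 81
  QS : Q ≤ S
  NQ : N[zpowers z] ≤ N[Q]
  Qe : ∀ a ∈ Q, a ^ 3 = 1
  cQ : Nat.card Q = 243
  Qz : Z[Q] = zpowers z
  QQ : ∀ a ∈ Q, ∀ b ∈ Q, a * b * a⁻¹ * b⁻¹ ∈ zpowers z
  CQ' : z ∈ J → C[Q] ≤ Q
  grL : Gr ΓL (O3 N[zpowers z]) Q
  surL : ∀ σ, ∃ y, (σ, y) ∈ ΓL
  grM : Gr ΓM (O3 N[J]) J
  ranM : ∀ σ, (∃ y, (σ, y) ∈ ΓM) ↔ Perm.sign σ = 1

/-- The elements of `C(z)` centralising `q` modulo `⟨z⟩`. -/
def Kq (z q : G) : Subgroup G where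
  carrier := {g | g * z = z * g ∧ g * q * g⁻¹ * q⁻¹ ∈ zpowers z}
  one_mem' := ⟨by simp, by simp⟩
  mul_mem' := by
    rintro a b ⟨a1, a2⟩ ⟨b1, b2⟩
    refine ⟨by rw [mul_assoc, b1, ← mul_assoc, a1, mul_assoc], ?_⟩
    have e : a * b * q * (a * b)⁻¹ * q⁻¹ = a * (b * q * b⁻¹ * q⁻¹) * a⁻¹ * (a * q * a⁻¹ * q⁻¹) := by
      group
    rw [e]
    refine mul_mem ?_ a2
    obtain ⟨k, hk⟩ := b2
    rw [← hk, ← conj_zpow, mul_inv_eq_iff_eq_mul.2 a1]
    exact zpow_mem (mem_zpowers z) k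
  inv_mem' := by
    rintro a ⟨a1, a2⟩
    have a3 : a⁻¹ * z = z * a⁻¹ := (Commute.inv_left a1 :)
    refine ⟨a3, ?_⟩
    have e : a⁻¹ * q * a⁻¹⁻¹ * q⁻¹ = (a⁻¹ * (a * q * a⁻¹ * q⁻¹) * a⁻¹⁻¹)⁻¹ := by group
    rw [e]
    refine inv_mem ?_
    obtain ⟨k, hk⟩ := a2
    rw [← hk, ← conj_zpow, mul_inv_eq_iff_eq_mul.2 a3]
    exact zpow_mem (mem_zpowers z) k

theorem norm_of_comm {z g : G} (h : g * z = z * g) : g ∈ N[zpowers z] :=
  le_normalizer_of_le_centralizer (A := C[zpowers z]) le_rfl (by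
    rw [centralizer_zpowers]; exact mem_centralizer_singleton_iff.2 h)

theorem comm_of_zp {z g c : G} (h : g * z = z * g) (hc : c ∈ zpowers z) : g * c = c * g := by
  obtain ⟨k, rfl⟩ := hc
  exact (Commute.zpow_right h k :)

theorem conj_cases {z g : G} (z3 : z ^ 3 = 1) (z1 : z ≠ 1) (hg : g ∈ N[zpowers z]) :
    g * z * g⁻¹ = z ∨ g * z * g⁻¹ = z⁻¹ := by
  rcases (mem_zp3 z3).1 (conj_mem_of_mem_normalizer hg (mem_zpowers z)) with e | e | e
  · exact absurd (by simpa using e) z1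
  exacts [Or.inl e, Or.inr e]

theorem norm_of_inv [Finite G] {z g : G} (h : g * z * g⁻¹ = z⁻¹) : g ∈ N[zpowers z] :=
  mem_normalizer_of_cj_le (by rw [cj_zpowers, h, zpowers_inv])

variable {S J Q : Subgroup G} {z : G} {ΓL : Subgroup (SL25 × G)}
  {ΓM : Subgroup (Perm (Fin 6) × G)}

namespace Hyp

variable (h : Hyp S J Q z ΓL ΓM)
include h

theorem cZ : Nat.card (zpowers z) = 3 := by
  rw [Nat.card_zpowers, orderOf_eq_prime h.z3 h.z1]

theorem zQ : z ∈ Q := (h.Qz.ge (mem_zpowers z)).1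

theorem ZQ : zpowers z ≤ Q := (zpowers_le).2 h.zQ

theorem Sz {s : G} (hs : s ∈ S) : s * z = z * s := (h.zS.ge (mem_zpowers z)).2 s hs

theorem zne : z⁻¹ ≠ z := fun e =>
  h.z1 (eq_one_of_sq_cube (by nth_rewrite 1 [← e]; exact inv_mul_cancel z) h.z3)

theorem Lz {l : G} (hl : l ∈ O3 N[zpowers z]) : l * z = z * l := by
  have : O3 N[zpowers z] ≤ C1[z] := by
    rw [O3, closure_le]
    rintro g ⟨hg, k, hk⟩
    rw [SetLike.mem_coe, mem_centralizer_singleton_iff]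
    rcases conj_cases h.z3 h.z1 hg with e | e
    · exact mul_inv_eq_iff_eq_mul.1 e
    · exfalso
      obtain ⟨m, hm⟩ : Odd (3 ^ k) := Odd.pow (by decide)
      have h1 : g ^ (2 * m + 1) = 1 := by rw [← hm, ← hk, pow_orderOf_eq_one]
      have h2 : Commute (g ^ 2) z := by
        show g ^ 2 * z = z * g ^ 2
        rw [sq]
        calc g * g * z = g * (g * z * g⁻¹) * g⁻¹ * (g * g) := by group
          _ = g * z⁻¹ * g⁻¹ * (g * g) := by rw [e]
          _ = (g * z * g⁻¹)⁻¹ * (g * g) := by group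
          _ = z * (g * g) := by rw [e, inv_inv]
      have h3 : Commute g z := by
        rw [pow_succ, pow_mul] at h1
        rw [eq_inv_of_mul_eq_one_right h1]
        exact (h2.pow_left m).inv_left
      exact h.zne (by rw [← e, h3.eq, mul_inv_cancel_right])
  exact mem_centralizer_singleton_iff.1 (this hl)

theorem grLz {σ : SL25} {l : G} (hl : (σ, l) ∈ ΓL) : l * z = z * l := h.Lz (h.grL.mem hl)

theorem conjQ {g q : G} (hg : g * z = z * g) (hq : q ∈ Q) : g * q * g⁻¹ ∈ Q :=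
  conj_mem_of_mem_normalizer (h.NQ (norm_of_comm hg)) hq

theorem QKq {q : G} (hq : q ∈ Q) : Q ≤ Kq z q := fun a ha => ⟨h.Sz (h.QS ha), h.QQ a ha q hq⟩

theorem normQ {A : Subgroup G} [Finite G] (h1 : zpowers z ≤ A) (h2 : A ≤ Q) : Q ≤ N[A] :=
  fun q hq => mem_normalizer_of_cj_le (cj_le_iff.2 fun a ha => by
    have := mul_mem (h1 (h.QQ q hq a (h2 ha))) ha
    simpa using this)

variable [Finite G]

theorem pS : IsPGroup 3 S := syl_isPGroup h.syl

theorem SL : S ≤ O3 N[zpowers z] := fun s hs => by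
  obtain ⟨k, hk⟩ := h.pS ⟨s, hs⟩
  exact mem_O3 (norm_of_comm (h.Sz hs)) (k := k) (congrArg Subtype.val hk)

theorem cL : Nat.card (O3 N[zpowers z]) = 29160 := by
  rw [h.grL.card (V := ⊤) (fun y => (h.grL.dom y).trans (by simp)) fun σ _ => h.surL σ, h.cQ,
    card_top, card_sl25]

theorem cS : Nat.card S = 729 := by
  have h1 : IsSyl 3 S (O3 N[zpowers z]) :=
    syl_of_maximal h.SL h.pS fun P _ hP hSP => syl_eq_of_le h.syl hP hSP le_top
  rw [syl_card h1, h.cL]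
  decide +kernel

theorem card_cases {A : Subgroup G} (hA : A ≤ Q) : Nat.card A = 1 ∨ Nat.card A = 3 ∨
    Nat.card A = 9 ∨ Nat.card A = 27 ∨ Nat.card A = 81 ∨ A = Q := by
  rcases dvd243 (h.cQ ▸ card_dvd_of_le' hA) with e | e | e | e | e | e
  · simp [e]
  · simp [e]
  · simp [e]
  · simp [e]
  · simp [e]
  · simp [eq_of_le_of_card_ge hA (by rw [e, h.cQ])]

omit [Finite G] in
theorem inv_mod {s : G} (hs : s * s = 1) (hz : s * z = z * s) (hC : Q ⊓ C1[s] ≤ zpowers z) {q : G}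
    (hq : q ∈ Q) : s * q * s⁻¹ * q ∈ zpowers z := by
  have hq' := h.conjQ hz hq
  refine hC ⟨mul_mem hq' hq, mem_centralizer_singleton_iff.2 ?_⟩
  have hc := h.QQ q hq _ hq'
  have e0 : s * (s * q * s⁻¹) * s⁻¹ = q := by
    calc s * (s * q * s⁻¹) * s⁻¹ = (s * s) * q * (s * s)⁻¹ := by group
      _ = q := by rw [hs]; group
  generalize s * q * s⁻¹ = q' at *
  have e1 : s * q * s⁻¹ = q' := by
    rw [← e0]
    calc s * (s * q' * s⁻¹) * s⁻¹ = (s * s) * q' * (s * s)⁻¹ := by group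
      _ = q' := by rw [hs]; group
  have e2 : s * (q' * q) * s⁻¹ = (q * q' * q⁻¹ * q'⁻¹) * (q' * q) := by
    calc s * (q' * q) * s⁻¹ = (s * q' * s⁻¹) * (s * q * s⁻¹) := by group
      _ = _ := by rw [e0, e1]; group
  generalize q * q' * q⁻¹ * q'⁻¹ = c at *
  generalize q' * q = w at *
  have e3 : s * c * s⁻¹ = c := mul_inv_eq_iff_eq_mul.2 (comm_of_zp hz hc)
  have e4 : w = c * c * w := by
    calc w = (s * s) * w * (s * s)⁻¹ := by rw [hs]; group
      _ = s * (s * w * s⁻¹) * s⁻¹ := by group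
      _ = (s * c * s⁻¹) * (s * w * s⁻¹) := by nth_rewrite 1 [e2]; group
      _ = c * c * w := by rw [e3, e2, mul_assoc]
  have e5 : c = 1 := eq_one_of_sq_cube (by simpa using e4.symm) (h.Qe c (h.ZQ hc))
  rw [e5, one_mul] at e2
  exact (mul_inv_eq_iff_eq_mul.1 e2).symm

theorem card_le_cent {A : Subgroup G} (hA : A ≤ Q) {q : G} (hq : q ∈ Q) :
    Nat.card A ≤ 3 * Nat.card ↥(A ⊓ C1[q]) := by
  let φ : A →* G := MonoidHom.mk' (fun a => (a : G) * q * (a : G)⁻¹ * q⁻¹) fun a b => by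
    have e := comm_of_zp (h.Sz (h.QS (mul_mem hq (mul_mem (inv_mem (hA a.2)) (inv_mem hq)))))
      (h.QQ _ (hA b.2) q hq)
    calc ((a * b : A) : G) * q * ((a * b : A) : G)⁻¹ * q⁻¹
        = a * ((b * q * (b : G)⁻¹ * q⁻¹) * (q * ((a : G)⁻¹ * q⁻¹))) := by push_cast; group
      _ = _ := by rw [← e]; group
  have h1 : φ.range ≤ zpowers z := by
    rintro _ ⟨a, rfl⟩
    exact h.QQ _ (hA a.2) q hq
  have h2 : φ.ker = (A ⊓ C1[q]).subgroupOf A := by
    ext a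
    rw [mem_subgroupOf, mem_inf, mem_centralizer_singleton_iff, MonoidHom.mem_ker]
    show (a : G) * q * (a : G)⁻¹ * q⁻¹ = 1 ↔ _
    rw [mul_inv_eq_one, mul_inv_eq_iff_eq_mul]
    exact ⟨fun e => ⟨a.2, e⟩, fun e => e.2⟩
  rw [← φ.ker.card_mul_index, index_ker, h2, card_subgroupOf inf_le_left, mul_comm]
  exact Nat.mul_le_mul_right _ (h.cZ ▸ card_le_of_le h1)

theorem abel_le {A : Subgroup G} (hA : A ≤ Q) (hc : A ≤ C[A]) : Nat.card A ≤ 27 := by
  by_contra hlt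
  have hn : ¬ Q ≤ C[A] := fun e => by
    have : A ≤ zpowers z := h.Qz ▸ le_inf hA (le_centralizer_iff.1 e)
    have := card_le_of_le this
    rw [h.cZ] at this
    omega
  obtain ⟨q, hq, hq'⟩ := SetLike.not_le_iff_exists.1 hn
  have h81 : 81 ≤ Nat.card A := by
    rcases h.card_cases hA with e | e | e | e | e | e
    any_goals omega
    rw [e, h.cQ]; norm_num
  have h1 := h.card_le_cent hA hq
  have h2 : A < Q ⊓ C[A ⊓ C1[q]] := by
    refine lt_of_le_of_ne (le_inf hA (hc.trans (centralizer_anti inf_le_left))) fun e => hq' ?_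
    exact hc (e.ge ⟨hq, mem_centralizer_iff_le.2 inf_le_right⟩)
  have h3 := card_lt_of_lt h2
  have h4 : Q ⊓ C[A ⊓ C1[q]] = Q := by
    rcases h.card_cases (inf_le_left : Q ⊓ C[A ⊓ C1[q]] ≤ Q) with e | e | e | e | e | e
    on_goal 6 => exact e
    all_goals omega
  have h5 : A ⊓ C1[q] ≤ zpowers z :=
    h.Qz ▸ le_inf (inf_le_left.trans hA) (le_centralizer_iff.1 (h4.ge.trans inf_le_right))
  have := card_le_of_le h5
  rw [h.cZ] at this
  omega

theorem sup_eq {A : Subgroup G} (hA : A ≤ S) (hn : ¬ A ≤ Q) : Q ⊔ A = S := by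
  have h1 : Q < Q ⊔ A := lt_of_le_of_ne le_sup_left fun e => hn (le_sup_right.trans e.ge)
  have h2 := card_lt_of_lt h1
  have h3 := card_dvd_of_le' (sup_le h.QS hA)
  refine eq_of_le_of_card_ge (sup_le h.QS hA) ?_
  rw [h.cS] at h3 ⊢
  rw [h.cQ] at h2
  obtain ⟨j, hj, e⟩ := (Nat.dvd_prime_pow Nat.prime_three (m := 6)).1 h3
  rw [e] at h2 ⊢
  interval_cases j <;> simp_all

theorem SQ : S ≤ N[Q] := fun _ hs => h.NQ (norm_of_comm (h.Sz hs))

theorem JC : J ≤ C[J] := fun a ha => mem_centralizer_iff.2 fun b hb => h.Jc b hb a ha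

theorem zJ : z ∈ J := by
  have zS : zpowers z ≤ S := h.ZQ.trans h.QS
  have zC : zpowers z ≤ C[S] := h.zS.ge.trans inf_le_right
  have h1 : J ⊔ zpowers z ≤ S := sup_le h.JS zS
  have h2 : J ⊔ zpowers z ≤ C[J ⊔ zpowers z] := by
    refine sup_le ?_ (zC.trans (centralizer_anti h1))
    rw [centralizer_sup]
    exact le_inf h.JC (h.JS.trans (le_centralizer_iff.1 zC))
  have h3 := h.abel_le (inf_le_right : (J ⊔ zpowers z) ⊓ Q ≤ Q)
    (inf_le_left.trans (h2.trans (centralizer_anti inf_le_left)))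
  have h4 := card_sup_mul_card_inf (h1.trans h.SQ)
  have h5 := card_le_of_le (sup_le h1 h.QS)
  rw [h.cS] at h5
  rw [h.cQ] at h4
  have h6 := eq_of_le_of_card_ge (le_sup_left : J ≤ J ⊔ zpowers z)
    (by rw [h.cJ]; nlinarith [Nat.mul_le_mul h5 h3])
  exact h6.ge (mem_sup_right (mem_zpowers z))

theorem CQ : C[Q] ≤ Q := h.CQ' h.zJ

theorem exists_t0 : ∃ t0, ((-1 : SL25), t0) ∈ ΓL ∧ ∀ q ∈ Q, t0 * q * t0⁻¹ * q ∈ zpowers z := by
  obtain ⟨g0, hg0⟩ := h.surL (-1)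
  have h2 : g0 ^ 2 ∈ Q := h.grL.memK (ppow hg0 2) (by simp)
  have ht : ((-1 : SL25), g0 ^ 3) ∈ ΓL := by
    have := ppow hg0 3
    rwa [show (-1 : SL25) ^ 3 = -1 by decide] at this
  have tt : g0 ^ 3 * g0 ^ 3 = 1 := by rw [← h.Qe _ h2]; group
  generalize g0 ^ 3 = t at ht tt
  obtain ⟨y0, hy0⟩ := h.surL slY
  obtain ⟨n, hn, e⟩ := exists_cent h.Qe tt (g := y0)
    (h.grL.memK (pmul ht (pconj hy0 ht)) (by simp))
  have hy1 := h.grL.Kmul hy0 hn
  generalize n * y0 = y1 at e hy1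
  have h5 : y1 ^ 5 ∈ Q := h.grL.memK (ppow hy1 5) slY_pow
  have hy : (slY, y1 ^ 6) ∈ ΓL := by
    have := ppow hy1 6
    rwa [pow_succ, slY_pow, one_mul] at this
  have y5 : (y1 ^ 6) ^ 5 = 1 := by
    rw [← pow_mul, show 6 * 5 = 5 * 3 * 2 from rfl, pow_mul, pow_mul, h.Qe _ h5, one_pow]
  have yt : Commute (y1 ^ 6) t := Commute.pow_left e 6
  generalize y1 ^ 6 = y at hy y5 yt
  have hp : IsPGroup 5 (zpowers y) := IsPGroup.of_card (n := 1) (by
    rw [Nat.card_zpowers, pow_one]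
    exact orderOf_eq_prime y5 fun e => slY_ne_one (h.grL.one hy (e ▸ Q.one_mem)))
  have yQ : zpowers y ≤ N[Q] := zpowers_le.2 (h.NQ (norm_of_comm (h.grLz hy)))
  have Zy : zpowers z ≤ C[zpowers y] := by
    rw [centralizer_zpowers, zpowers_le]
    exact mem_centralizer_singleton_iff.2 (h.grLz hy).symm
  have three : ∀ A, A ≤ Q → A ≠ Q → Nat.card A ≡ 3 [MOD 5] → zpowers z ≤ A → A = zpowers z := by
    intro A hA hA' hm hz
    refine (eq_of_le_of_card_ge hz ?_).symm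
    rcases h.card_cases hA with e | e | e | e | e | e
    · rw [e] at hm; exact absurd hm (by decide)
    · rw [e, h.cZ]
    · rw [e] at hm; exact absurd hm (by decide)
    · rw [e] at hm; exact absurd hm (by decide)
    · rw [e] at hm; exact absurd hm (by decide)
    · exact absurd e hA'
  have hB : Q ⊓ C[zpowers y] = zpowers z := by
    refine three _ inf_le_left (fun e => ?_) ?_ (le_inf h.ZQ Zy)
    · refine slY_ne_one (h.grL.one hy (h.CQ ?_))
      exact le_centralizer_iff.1 (e.ge.trans inf_le_right) (mem_zpowers y)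
    · have := H3.card_modEq_card_inf_centralizer hp yQ
      rw [h.cQ] at this
      exact this.symm.trans (by decide)
  have Zt : zpowers z ≤ Q ⊓ C1[t] :=
    le_inf h.ZQ (zpowers_le.2 (mem_centralizer_singleton_iff.2 (h.grLz ht).symm))
  have hA : Q ⊓ C1[t] = zpowers z := by
    refine three _ inf_le_left (fun e => ?_) ?_ Zt
    · refine sl25_neg_one_ne (h.grL.one ht (h.CQ ?_))
      exact mem_centralizer_iff_le.2 (e.ge.trans inf_le_right)
    · have h1 : zpowers y ≤ N[Q ⊓ C1[t]] := le_normalizer_inf yQ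
        (le_normalizer_of_le (zpowers_le.2 (mem_centralizer_singleton_iff.2 yt.eq)))
      have := H3.card_modEq_card_inf_centralizer hp h1
      rwa [le_antisymm ((inf_le_inf_right _ inf_le_left).trans hB.le) (le_inf Zt Zy), h.cZ] at this
  exact ⟨t, ht, fun q hq => h.inv_mod tt (h.grLz ht) hA.le hq⟩

omit [Finite G] in
theorem exists_W : ∃ W : Subgroup G, ∀ q, q ∈ W ↔ q ∈ Q ∧ S ≤ Kq z q := by
  have nz : ∀ {q c}, q ∈ Q → c ∈ zpowers z → q * c * q⁻¹ ∈ zpowers z := fun hq hc =>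
    conj_mem_of_mem_normalizer (norm_of_comm (h.Sz (h.QS hq))) hc
  refine ⟨⟨⟨⟨{q | q ∈ Q ∧ S ≤ Kq z q}, ?_⟩, Q.one_mem, fun s hs => ⟨h.Sz hs, by simp⟩⟩, ?_⟩,
    fun q => Iff.rfl⟩
  · rintro a b ⟨a1, a2⟩ ⟨b1, b2⟩
    refine ⟨mul_mem a1 b1, fun s hs => ⟨h.Sz hs, ?_⟩⟩
    have := mul_mem (a2 hs).2 (nz a1 (b2 hs).2)
    convert this using 1
    group
  · rintro a ⟨a1, a2⟩
    refine ⟨inv_mem a1, fun s hs => ⟨h.Sz hs, ?_⟩⟩
    have := inv_mem (nz (inv_mem a1) (a2 hs).2)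
    convert this using 1
    group

theorem exists_x0 : ∃ x ∈ J, x ∉ Q := by
  refine SetLike.not_le_iff_exists.1 fun e => ?_
  have := h.abel_le e fun a ha => mem_centralizer_iff.2 fun b hb => h.Jc b hb a ha
  rw [h.cJ] at this
  omega

theorem inf_eq {A : Subgroup G} (hA : A ≤ S) (hc : A ≤ C[A]) (h81 : Nat.card A = 81) :
    Nat.card ↥(A ⊓ Q) = 27 ∧ ∀ q, q ∈ A ⊓ Q ↔ q ∈ Q ∧ S ≤ Kq z q := by
  obtain ⟨W, hW⟩ := h.exists_W
  have WQ : W ≤ Q := fun q hq => ((hW q).1 hq).1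
  have ZW : zpowers z ≤ W :=
    zpowers_le.2 ((hW z).2 ⟨h.zQ, fun s hs => ⟨h.Sz hs, by rw [h.Sz hs]; simp⟩⟩)
  have h27 : Nat.card W ≤ 27 := by
    obtain ⟨x, hx, hxQ⟩ := h.exists_x0
    obtain ⟨w, hw⟩ := h.grL.ex (h.SL (h.JS hx))
    obtain ⟨g, hg⟩ := sl_three w (h.grL.one (ppow hw 3) (h.Je x hx ▸ Q.one_mem))
      fun e => hxQ (h.grL.memK hw e)
    obtain ⟨l, hl⟩ := h.surL (g⁻¹ * slG * g)
    obtain ⟨t, ht, hti⟩ := h.exists_t0
    have e1 : (w * (g⁻¹ * slG * g * w * (g⁻¹ * slG * g)⁻¹)) ^ 2 = -1 := by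
      have e2 : w = g⁻¹ * slX * g := by rw [mul_assoc, ← hg]; group
      have e3 : (slX * (slG * slX * slG⁻¹)) ^ 2 = -1 := by decide +kernel
      calc _ = g⁻¹ * (slX * (slG * slX * slG⁻¹)) ^ 2 * g⁻¹⁻¹ := by rw [← conj_pow, e2]; group
        _ = -1 := by rw [e3]; simp
    have h1 := ppow (pmul hw (pconj hl hw)) 2
    rw [e1] at h1
    have h2 : W ⊓ cj l W ≤ zpowers z := by
      rintro q ⟨hq, hq'⟩
      have k1 : x ∈ Kq z q := ((hW q).1 hq).2 (h.JS hx)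
      have k2 : l * x * l⁻¹ ∈ Kq z q := by
        obtain ⟨q', hq'', rfl⟩ := mem_cj'.1 hq'
        refine ⟨h.grLz (pconj hl hw), ?_⟩
        have := conj_mem_of_mem_normalizer (norm_of_comm (h.grLz hl))
          (((hW q').1 hq'').2 (h.JS hx)).2
        convert this using 1
        group
      have k3 : t ∈ Kq z q := by
        have := mul_mem (h.QKq (WQ hq) (h.grL.div ht h1)) (pow_mem (mul_mem k1 k2) 2)
        simpa using this
      have := mul_mem (inv_mem k3.2) (hti q (WQ hq))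
      refine mem_of_sq_cube ?_ (h.Qe q (WQ hq))
      convert this using 1
      group
    have WQ' : cj l W ≤ Q := cj_le_of_mem_normalizer (h.NQ (norm_of_comm (h.grLz hl))) WQ
    have h3 := card_sup_mul_card_inf' (WQ'.trans (h.normQ ZW WQ))
    have h4 := card_le_of_le (sup_le WQ WQ')
    have h5 := card_le_of_le h2
    rw [card_cj] at h3
    rw [h.cQ] at h4
    rw [h.cZ] at h5
    nlinarith [Nat.mul_le_mul h4 h5]
  have hn : ¬ A ≤ Q := fun e => by have := h.abel_le e hc; omega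
  have h1 : A ⊓ Q ≤ W := fun q hq => (hW q).2 ⟨hq.2, by
    rw [← h.sup_eq hA hn]
    refine sup_le (h.QKq hq.2) fun a ha => ⟨h.Sz (hA ha), ?_⟩
    rw [hc hq.1 a ha]; simp⟩
  have h2 := card_sup_mul_card_inf (hA.trans h.SQ)
  rw [sup_comm, h.sup_eq hA hn, h.cS, h81, h.cQ] at h2
  have h3 : Nat.card ↥(A ⊓ Q) = 27 := by omega
  refine ⟨h3, fun q => ?_⟩
  rw [eq_of_le_of_card_ge h1 (by omega), hW]

theorem cJQ : Nat.card ↥(J ⊓ Q) = 27 := (h.inf_eq h.JS h.JC h.cJ).1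

theorem ZJ : zpowers z ≤ J := zpowers_le.2 h.zJ

theorem QJ : Q ⊔ J = S := by
  obtain ⟨x, hx, hxQ⟩ := h.exists_x0
  exact h.sup_eq h.JS fun e => hxQ (e hx)

theorem cent_JQ_Q : Q ⊓ C[J ⊓ Q] ≤ J := by
  rintro q ⟨hq, hq'⟩
  have h1 : J ⊓ Q ≤ C[J ⊓ Q] := inf_le_left.trans (h.JC.trans (centralizer_anti inf_le_left))
  have h2 : J ⊓ Q ⊔ zpowers q ≤ C[J ⊓ Q ⊔ zpowers q] := by
    rw [centralizer_sup]
    refine le_inf (sup_le h1 (zpowers_le.2 hq')) (le_centralizer_iff.1 (zpowers_le.2 ?_))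
    rw [centralizer_sup]
    exact ⟨hq', by rw [centralizer_zpowers]; exact mem_centralizer_singleton_self q⟩
  have h3 := h.abel_le (sup_le inf_le_right (zpowers_le.2 hq)) h2
  have := eq_of_le_of_card_ge (le_sup_left : J ⊓ Q ≤ J ⊓ Q ⊔ zpowers q) (by rw [h.cJQ]; exact h3)
  exact (this.ge (mem_sup_right (mem_zpowers q))).1

theorem SJQ : S ≤ N[J ⊓ Q] := by
  rw [← h.QJ]
  exact sup_le (h.normQ (le_inf h.ZJ h.ZQ) inf_le_right)
    (le_normalizer_inf le_normalizer (h.JS.trans h.SQ))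

theorem cent_JQ : C[J ⊓ Q] = J := by
  have h0 : J ≤ C[J ⊓ Q] := h.JC.trans (centralizer_anti inf_le_left)
  have hp : IsPGroup 3 C[J ⊓ Q] := by
    rintro ⟨c, hc⟩
    have cz : c * z = z * c := (hc z ⟨h.zJ, h.zQ⟩).symm
    have h3 : c ^ 3 ∈ C[Q] := mem_centralizer_iff.2 fun q hq => by
      have a1 : c * q * c⁻¹ * q⁻¹ ∈ Q := mul_mem (h.conjQ cz hq) (inv_mem hq)
      have a2 : c * q * c⁻¹ * q⁻¹ ∈ J := h.cent_JQ_Q ⟨a1, mem_centralizer_iff.2 fun v hv => by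
        have b1 := hc _ (conj_mem_of_mem_normalizer' (h.SJQ (h.QS hq)) hv)
        have b2 := hc v hv
        calc v * (c * q * c⁻¹ * q⁻¹) = (v * c) * q * c⁻¹ * q⁻¹ := by group
          _ = c * q * c⁻¹ * (c * (q⁻¹ * v * q)) * c⁻¹ * q⁻¹ := by rw [b2]; group
          _ = c * q * c⁻¹ * q⁻¹ * v := by rw [← b1]; group⟩
      have a3 := hc _ ⟨a2, a1⟩
      have a4 := h.Je _ a2
      have a5 : c * q = (c * q * c⁻¹ * q⁻¹) * q * c := by group
      generalize c * q * c⁻¹ * q⁻¹ = u at a3 a4 a5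
      have a6 : ∀ k : ℕ, c ^ k * q = u ^ k * q * c ^ k := fun k => by
        induction k with
        | zero => simp
        | succ k ih =>
          have : Commute c (u ^ k) := (Commute.symm a3).pow_right k
          rw [pow_succ', mul_assoc, ih, ← mul_assoc, ← mul_assoc, this.eq, mul_assoc _ c, a5,
            pow_succ]
          group
      rw [a6, a4, one_mul]
    exact ⟨2, Subtype.ext (by
      show c ^ 3 ^ 2 = 1
      rw [sq, pow_mul]; exact h.Qe _ (h.CQ h3))⟩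
  have h1 : C[J ⊓ Q] ≤ S :=
    le_syl_of_le_normalizer h.syl le_top hp (Or.inl (le_normalizer_centralizer h.SJQ))
  have h2 := card_sup_mul_card_inf (h1.trans h.SQ)
  have h3 := card_le_of_le (sup_le h1 h.QS)
  have h4 : C[J ⊓ Q] ⊓ Q ≤ J ⊓ Q := fun q hq => ⟨h.cent_JQ_Q ⟨hq.2, hq.1⟩, hq.2⟩
  have h5 := card_le_of_le h4
  rw [h.cS] at h3
  rw [h.cJQ] at h5
  rw [h.cQ] at h2
  refine (eq_of_le_of_card_ge h0 ?_).symm
  rw [h.cJ]
  nlinarith [Nat.mul_le_mul h3 h5]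

theorem CJ : C[J] = J := le_antisymm ((centralizer_anti inf_le_left).trans h.cent_JQ.le) h.JC

theorem uniq {A : Subgroup G} (hA : A ≤ S) (hc : A ≤ C[A]) (h81 : Nat.card A = 81) : A = J := by
  have e : A ⊓ Q = J ⊓ Q := by
    ext q
    rw [(h.inf_eq hA hc h81).2, (h.inf_eq h.JS h.JC h.cJ).2]
  refine eq_of_le_of_card_ge ?_ (by rw [h81, h.cJ])
  rw [← h.cent_JQ, ← e]
  exact hc.trans (centralizer_anti inf_le_left)

theorem norm_of_le {g : G} (hg : J ≤ cj g S) : g ∈ N[J] := by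
  refine inv_mem_iff.1 (cj_eq_self_iff.1 (h.uniq (le_cj_iff_cj_inv_le.1 hg) ?_ ?_))
  · rw [← cj_centralizer]; exact cj_mono h.JC
  · rw [card_cj, h.cJ]

theorem NSJ : N[S] ≤ N[J] := fun _ hg => h.norm_of_le (by rw [cj_eq_self hg]; exact h.JS)

theorem SJ : S ≤ N[J] := le_normalizer.trans h.NSJ

theorem SM : S ≤ O3 N[J] := fun s hs => by
  obtain ⟨k, hk⟩ := h.pS ⟨s, hs⟩
  exact mem_O3 (h.SJ hs) (k := k) (congrArg Subtype.val hk)

omit [Finite G] in
theorem NSZ : N[S] ≤ N[zpowers z] := h.zS ▸ normalizer_le_normalizer_center S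

theorem NS {g : G} (h1 : g ∈ N[J]) (h2 : g ∈ N[zpowers z]) : g ∈ N[S] := by
  rw [← h.QJ]
  exact le_normalizer_sup (zpowers_le.2 (h.NQ h2)) (zpowers_le.2 h1) (mem_zpowers g)

end Hyp

end Cfsg.Agent.H67.T3
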