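import Cfsg.Agent.H67.T3B

/-! The 3-local characterisation of McL: the involution `t` and fusion in `J`. -/

set_option autoImplicit false

namespace Cfsg.Agent.H67.T3

open Subgroup Equiv Cfsg Cfsg.Agent.H63 Cfsg.Agent.H67 Cfsg.Agent.H91

variable {G : Type*} [Group G]

theorem cube_comm {c q u : G} (h1 : c * q * c⁻¹ * q⁻¹ = u) (h2 : u * c = c * u) (h3 : u ^ 3 = 1) :
    q * c ^ 3 = c ^ 3 * q := by
  have a5 : c * q = u * q * c := by rw [← h1]; group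
  have a6 : ∀ k : ℕ, c ^ k * q = u ^ k * q * c ^ k := fun k => by
    induction k with
    | zero => simp
    | succ k ih =>
      have : Commute c (u ^ k) := (Commute.symm h2).pow_right k
      rw [pow_succ', mul_assoc, ih, ← mul_assoc, ← mul_assoc, this.eq, mul_assoc _ c, a5, pow_succ]
      group
  rw [a6, h3, one_mul]

theorem Bas.ax1 {A : Subgroup G} {u v : G} (h : Bas A u v) {p : V2} (hp : E u v p ∈ zpowers u) :
    p.2 = 0 := by
  rcases (mem_zp3 h.cu).1 hp with e | e | e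
  · rw [h.inj p e]; rfl
  · rw [h.injE (e.trans (E_10 u v).symm)]
  · rw [← E_10 u v, ← h.neg] at e
    rw [E_10] at e
    rw [h.injE e]; rfl

theorem Bas.ax2 {A : Subgroup G} {u v : G} (h : Bas A u v) {p : V2} (hp : E u v p ∈ zpowers v) :
    p.1 = 0 := by
  rcases (mem_zp3 h.cv).1 hp with e | e | e
  · rw [h.inj p e]; rfl
  · rw [h.injE (e.trans (E_01 u v).symm)]
  · nth_rewrite 2 [← E_01 u v] at e
    rw [← h.neg] at e
    rw [h.injE e]; rfl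

/-- The hypotheses with the chosen elements of `N(J)`. -/
structure St (S J Q : Subgroup G) (z : G) (ΓL : Subgroup (SL25 × G))
    (ΓM : Subgroup (Perm (Fin 6) × G)) (t f1 a : G) : Prop extends Hyp S J Q z ΓL ΓM where
  hU : ∀ y, y ∈ S ↔ ∃ σ ∈ U0, (σ, y) ∈ ΓM
  gf : (pF, f1) ∈ ΓM
  ft : f1 * f1 = t
  tt : t * t = 1
  ga : (pA, a) ∈ ΓM
  aa : a * a = 1
  ta : a * t = t * a

variable {S J Q : Subgroup G} {z : G} {ΓL : Subgroup (SL25 × G)}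
  {ΓM : Subgroup (Perm (Fin 6) × G)} {t f1 a : G}

theorem Hyp.exists_st [Finite G] (h : Hyp S J Q z ΓL ΓM) :
    ∃ ΓM' t f1 a, St S J Q z ΓL ΓM' t f1 a := by
  let V : Subgroup (Perm (Fin 6)) :=
    (ΓM ⊓ S.comap (MonoidHom.snd _ G)).map (MonoidHom.fst _ G)
  have hV : ∀ σ, σ ∈ V ↔ ∃ y ∈ S, (σ, y) ∈ ΓM := fun σ =>
    ⟨fun ⟨p, hp, e⟩ => ⟨p.2, hp.2, e ▸ hp.1⟩, fun ⟨y, h1, h2⟩ => ⟨(σ, y), ⟨h2, h1⟩, rfl⟩⟩
  have hS : ∀ y, y ∈ S ↔ ∃ σ ∈ V, (σ, y) ∈ ΓM := fun y =>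
    ⟨fun hy => by
      obtain ⟨σ, hσ⟩ := h.grM.ex (h.SM hy)
      exact ⟨σ, (hV σ).2 ⟨y, hy, hσ⟩, hσ⟩,
    fun ⟨σ, h1, h2⟩ => by
      obtain ⟨y', h3, h4⟩ := (hV σ).1 h1
      simpa using mul_mem (h.JS (h.grM.div h2 h4)) h3⟩
  have cV := h.grM.card hS fun σ hσ => let ⟨y, _, hy⟩ := (hV σ).1 hσ; ⟨y, hy⟩
  rw [h.cS, h.cJ] at cV
  have cV' : Nat.card V = 9 := by omega
  obtain ⟨w, -, hw⟩ := exists_cj_le_syl syl_U0 le_top (IsPGroup.of_card (n := 2) cV')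
  have hw' : cj w V = U0 := eq_of_le_of_card_ge hw (by rw [card_cj, cV', card_U0])
  obtain ⟨Γ, hΓ, e⟩ := h.grM.conj w
  have ran : ∀ σ, (∃ y, (σ, y) ∈ Γ) ↔ Perm.sign σ = 1 := fun σ => by
    simp only [e, h.ranM, map_mul, map_inv]
    rw [mul_right_comm, inv_mul_cancel, one_mul]
  obtain ⟨g, hg⟩ := (ran pF).2 (by decide)
  have g12 : (g ^ 4) ^ 3 = 1 := h.Je _ (hΓ.memK (ppow hg 4) (by decide))
  have gf : (pF, g ^ 9) ∈ Γ := by
    have := ppow hg 9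
    rwa [show pF ^ 9 = pF by decide] at this
  have tt : g ^ 9 * g ^ 9 * (g ^ 9 * g ^ 9) = 1 := by
    calc _ = ((g ^ 4) ^ 3) ^ 3 := by group
      _ = 1 := by rw [g12, one_pow]
  have gt := pmul gf gf
  generalize g ^ 9 = f at gf tt gt
  obtain ⟨a0, ha0⟩ := (ran pA).2 (by decide)
  obtain ⟨n, hn, e1⟩ := exists_cent h.Je tt (g := a0)
    (hΓ.memK (pmul gt (pconj ha0 gt)) (by decide))
  have ha1 := hΓ.Kmul ha0 hn
  generalize n * a0 = a1 at e1 ha1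
  refine ⟨Γ, f * f, f, a1 ^ 3, { h with
    grM := hΓ, ranM := ran, hU := fun y => ?_, gf := gf, ft := rfl, tt := tt, ga := ?_, aa := ?_
    ta := Commute.pow_left e1 3 }⟩
  · simp only [hS, e, ← hw', mem_cj]
    exact ⟨fun ⟨σ, h1, h2⟩ => ⟨w * σ * w⁻¹, by simpa [mul_assoc] using h1,
      by simpa [mul_assoc] using h2⟩, fun ⟨σ, h1, h2⟩ => ⟨_, h1, h2⟩⟩
  · have := ppow ha1 3
    rwa [show pA ^ 3 = pA by decide] at this
  · rw [← h.Je _ (hΓ.memK (ppow ha1 2) (by decide))]; group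

namespace St

variable (h : St S J Q z ΓL ΓM t f1 a)
include h

theorem gt : (pT, t) ∈ ΓM := by
  have := pmul h.gf h.gf
  rwa [h.ft, show pF * pF = pT by decide] at this

theorem t1 : t ≠ 1 := fun e => absurd (h.grM.fn _ (e ▸ h.gt)) (by decide)

theorem ti : t⁻¹ = t := inv_eq_of_mul_eq_one_right h.tt
theorem ai : a⁻¹ = a := inv_eq_of_mul_eq_one_right h.aa

theorem grJ {σ : Perm (Fin 6)} {m : G} (hm : (σ, m) ∈ ΓM) : m ∈ N[J] := O3_le _ (h.grM.mem hm)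

theorem nU_of {w : Perm (Fin 6)} {m : G} (hm : (w, m) ∈ ΓM) (hS : m ∈ N[S]) : nU w := by
  have : ∀ σ ∈ U0, Perm.sign σ = 1 → w * σ * w⁻¹ ∈ U0 := fun σ hσ hs => by
    obtain ⟨s, hs⟩ := (h.ranM σ).2 hs
    obtain ⟨τ, h1, h2⟩ := (h.hU _).1 (conj_mem_of_mem_normalizer hS ((h.hU s).2 ⟨σ, hσ, hs⟩))
    rwa [h.grM.eq (pconj hm hs) h2]
  exact ⟨this _ (by decide) (by decide), this _ (by decide) (by decide)⟩

variable [Finite G]

theorem of_nU {w : Perm (Fin 6)} {m : G} (hm : (w, m) ∈ ΓM) (hw : nU w) : m ∈ N[S] :=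
  mem_normalizer_of_cj_le (cj_le_iff.2 fun s hs => by
    obtain ⟨σ, h1, h2⟩ := (h.hU s).1 hs
    refine (h.hU _).2 ⟨_, ?_, pconj hm h2⟩
    obtain ⟨i, j, rfl⟩ := U0_enum σ h1
    have := mul_mem (pow_mem hw.1 i.val) (pow_mem hw.2 j.val)
    rw [conj_pow, conj_pow] at this
    convert this using 1
    group)

theorem fZ : f1 ∈ N[zpowers z] := h.NSZ (h.of_nU h.gf (by decide))

theorem tz : t * z = z * t := by
  rw [← h.ft]
  rcases conj_cases h.z3 h.z1 h.fZ with e | e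
  · exact (Commute.mul_left (mul_inv_eq_iff_eq_mul.1 e) (mul_inv_eq_iff_eq_mul.1 e) :)
  · calc f1 * f1 * z = f1 * (f1 * z * f1⁻¹) * f1⁻¹ * (f1 * f1) := by group
      _ = f1 * z⁻¹ * f1⁻¹ * (f1 * f1) := by rw [e]
      _ = (f1 * z * f1⁻¹)⁻¹ * (f1 * f1) := by group
      _ = z * (f1 * f1) := by rw [e, inv_inv]

theorem tS {s : G} (hs : s ∈ S) : t * s * t⁻¹ * s ∈ J := by
  obtain ⟨σ, h1, h2⟩ := (h.hU s).1 hs
  exact h.grM.memK (pmul (pconj h.gt h2) h2) (pT_inv σ h1)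

theorem tJQ {v : G} (hv : v ∈ J ⊓ Q) : t * v * t⁻¹ * v ∈ zpowers z := by
  have hv' : t * v * t⁻¹ ∈ J ⊓ Q :=
    ⟨conj_mem_of_mem_normalizer (h.grJ h.gt) hv.1, h.conjQ h.tz hv.2⟩
  refine h.Qz.le ⟨mul_mem hv'.2 hv.2, mem_centralizer_iff.2 fun q hq => ?_⟩
  have a1 := h.tS (h.QS hq)
  have a2 := h.QQ q hq v hv.2
  have a3 : t * (q * v * q⁻¹ * v⁻¹) * t⁻¹ = q * v * q⁻¹ * v⁻¹ :=
    mul_inv_eq_iff_eq_mul.2 (comm_of_zp h.tz a2)
  have a4 := h.Jc _ a1 _ (mul_mem (h.ZJ a2) hv'.1)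
  have a5 := comm_of_zp (h.Sz (h.QS hq)) a2
  have a6 := h.Jc _ (h.ZJ a2) _ hv'.1
  have a7 : q * v = (q * v * q⁻¹ * v⁻¹) * v * q := by group
  have a8 : (t * q * t⁻¹ * q) * (q⁻¹ * (t * v * t⁻¹) * q) =
      (t * (q * v * q⁻¹ * v⁻¹) * t⁻¹) * (t * v * t⁻¹) * (t * q * t⁻¹ * q) := by group
  rw [a3, ← a4] at a8
  have a9 := mul_left_cancel a8
  generalize q * v * q⁻¹ * v⁻¹ = c at *
  generalize t * v * t⁻¹ = v' at *
  have b1 : v' * q = c * (q * v') := by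
    calc v' * q = q * (q⁻¹ * v' * q) := by group
      _ = c * (q * v') := by rw [a9, ← mul_assoc, a5, mul_assoc]
  calc q * (v' * v) = c⁻¹ * (c * (q * v')) * v := by group
    _ = c⁻¹ * v' * (q * v) := by rw [← b1]; group
    _ = c⁻¹ * (v' * c) * v * q := by rw [a7]; group
    _ = v' * v * q := by rw [← a6]; group

theorem tQ {q : G} (hq : q ∈ Q) : t * q * t⁻¹ * q ∈ zpowers z := by
  have a1 : t * q * t⁻¹ * q ∈ J ⊓ Q := ⟨h.tS (h.QS hq), mul_mem (h.conjQ h.tz hq) hq⟩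
  have a2 := h.tJQ a1
  have a3 := h.QQ q hq _ a1.2
  have a4 : t * (t * q * t⁻¹ * q) * t⁻¹ = q * (t * q * t⁻¹ * q) * q⁻¹ := by
    calc _ = (t * t) * q * (t * t)⁻¹ * (t * q * t⁻¹) := by group
      _ = _ := by rw [h.tt]; group
  rw [a4] at a2
  refine mem_of_sq_cube ?_ (h.Je _ a1.1)
  have := mul_mem (inv_mem a3) a2
  convert this using 1
  group

theorem CQt {q : G} (hq : q ∈ Q) (e : q * t = t * q) : q ∈ zpowers z := by
  have := h.tQ hq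
  rw [← e, mul_inv_cancel_right] at this
  exact mem_of_sq_cube this (h.Qe q hq)

theorem tL : ((-1 : SL25), t) ∈ ΓL := by
  obtain ⟨t0, ht0, hi⟩ := h.exists_t0
  have gz : t * t0 * z = z * (t * t0) := (Commute.mul_left h.tz (h.grLz ht0) :)
  have h3 : (t * t0) ^ 3 ∈ C[Q] := mem_centralizer_iff.2 fun q hq => by
    have a1 : t * t0 * q * (t * t0)⁻¹ * q⁻¹ ∈ zpowers z := by
      have := mul_mem (conj_mem_of_mem_normalizer (norm_of_comm h.tz) (hi q hq))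
        (h.tQ (inv_mem hq))
      convert this using 1
      group
    exact cube_comm rfl (comm_of_zp gz a1).symm (h.Qe _ (h.ZQ a1))
  have h9 : t * t0 ∈ O3 N[zpowers z] :=
    mem_O3 (norm_of_comm gz) (k := 2) (by rw [sq, pow_mul]; exact h.Qe _ (h.CQ h3))
  obtain ⟨σ, hσ⟩ := h.grL.ex (by simpa using mul_mem h9 (inv_mem (h.grL.mem ht0)) :
    t ∈ O3 N[zpowers z])
  rcases sl_inv σ (h.grL.one (pmul hσ hσ) (h.tt ▸ Q.one_mem)) with e | e
  · exact absurd (eq_one_of_sq_cube h.tt (h.Qe t (h.grL.memK hσ e))) h.t1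
  · exact e ▸ hσ

theorem xJ : a * z * a⁻¹ ∈ J := conj_mem_of_mem_normalizer (h.grJ h.ga) h.zJ

theorem xt : a * z * a⁻¹ * t = t * (a * z * a⁻¹) :=
  ((Commute.mul_left h.ta h.tz.symm).mul_left (Commute.inv_left h.ta) :)

theorem xZ : a * z * a⁻¹ ∉ zpowers z := fun e =>
  absurd (h.nU_of h.ga (h.NS (h.grJ h.ga)
    (mem_normalizer_of_cj_le (by rw [cj_zpowers]; exact zpowers_le.2 e)))) (by decide)

theorem xQ : a * z * a⁻¹ ∉ Q := fun e => h.xZ (h.CQt e h.xt)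

theorem basD : Bas (J ⊓ C1[t]) z (a * z * a⁻¹) := by
  refine bas_of ?_ ⟨h.zJ, mem_centralizer_singleton_iff.2 h.tz.symm⟩
    ⟨h.xJ, mem_centralizer_singleton_iff.2 h.xt⟩ h.z3 (h.Je _ h.xJ) (h.Jc _ h.zJ _ h.xJ) h.z1 h.xZ
  have h1 : J ⊓ C1[t] ≤ S := inf_le_left.trans h.JS
  have h2 := card_sup_mul_card_inf (h1.trans h.SQ)
  have h3 := card_le_of_le (sup_le h1 h.QS)
  have h4 : J ⊓ C1[t] ⊓ Q ≤ zpowers z := fun q hq =>
    h.CQt hq.2 (mem_centralizer_singleton_iff.1 hq.1.2)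
  have h5 := card_le_of_le h4
  rw [h.cS] at h3
  rw [h.cZ] at h5
  rw [h.cQ] at h2
  nlinarith [Nat.mul_le_mul h3 h5]

theorem fusion {v g : G} (hv : v ∈ J) (e : g * z * g⁻¹ = v) (ht : t ∈ N[zpowers v]) :
    v ∈ zpowers z ∨ v ∈ zpowers (a * z * a⁻¹) := by
  have h1 : cj g S ≤ C1[v] := by
    rw [← e, ← cj_centralizer_singleton]
    exact cj_mono fun s hs => mem_centralizer_singleton_iff.2 (h.Sz hs)
  have sylc : ∀ g {H}, cj g S ≤ H → IsSyl 3 (cj g S) H := fun g H hH =>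
    syl_of_maximal hH (isPGroup_cj h.pS g) fun P _ hP hSP => eq_of_le_of_card_ge hSP
      (by rw [card_cj]; exact card_le_syl h.syl le_top hP) |>.symm
  obtain ⟨c, hc, h2⟩ := exists_le_cj_syl (sylc g h1)
    (fun j hj => mem_centralizer_singleton_iff.2 (h.Jc j hj v hv)) (h.pS.to_le h.JS)
  rw [cj_cj] at h2
  have h3 := h.norm_of_le h2
  have h4 : c * g * z * (c * g)⁻¹ = v := by
    calc _ = c * (g * z * g⁻¹) * c⁻¹ := by group
      _ = v := by rw [e, mem_centralizer_singleton_iff.1 hc, mul_inv_cancel_right]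
  generalize c * g = g' at h3 h4
  obtain ⟨m, hm, h5⟩ := syl_conj (cj_one S ▸ sylc 1 (by rw [cj_one]; exact h.SM))
    (sylc g' (cj_le_of_mem_normalizer (norm_O3 (le_normalizer h3)) h.SM))
  have h6 : zpowers v = cj m (zpowers z) := by
    rw [← h4, ← cj_zpowers, cj_eq_cj_iff]
    exact h.NSZ (cj_eq_cj_iff.1 h5)
  obtain ⟨w, hw⟩ := h.grM.ex hm
  have h7 := pmul (pmul (pinv hw) h.gt) hw
  have h8 : m⁻¹ * t * m ∈ N[zpowers z] := by
    rw [h6, ← cj_normalizer] at ht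
    exact mem_cj.1 ht
  rcases nU_fix w (h.nU_of h7 (h.NS (h.grJ h7) h8)) with e1 | e1
  · left
    rw [← cj_eq_self (h.NSZ (h.of_nU hw e1)), ← h6]
    exact mem_zpowers v
  · right
    have := cj_eq_self (h.NSZ (h.of_nU (pmul h.ga hw) e1))
    rw [cj_mul, cj_eq_iff_eq_cj_inv, h.ai] at this
    rw [← cj_zpowers, ← this, ← h6]
    exact mem_zpowers v

theorem act_a : Act z (a * z * a⁻¹) a sw :=
  h.basD.act_of (E_01 _ _).symm (by
    rw [show (sw.b, sw.d) = (1, 0) from rfl, E_10]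
    calc a * (a * z * a⁻¹) * a⁻¹ = (a * a) * z * (a * a)⁻¹ := by group
      _ = z := by rw [h.aa]; group)

theorem mono {g : G} {m : M2} (hg : Act z (a * z * a⁻¹) g m) : Mono m := by
  obtain ⟨n, -, hn, -⟩ := h.basD.act_inv hg
  have key : ∀ g' p, g' * z * g'⁻¹ = E z (a * z * a⁻¹) p → p.2 = 0 ∨ p.1 = 0 := fun g' p e =>
    (h.fusion (h.basD.memE p).1 e (norm_of_comm
      (mem_centralizer_singleton_iff.1 (h.basD.memE p).2).symm)).imp h.basD.ax1 h.basD.ax2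
  refine mono_of m ?_ ?_ n hn
  · simpa [M2.ap] using key g (m.ap (1, 0)) (by rw [← hg, E_10])
  · simpa [M2.ap] using key (g * a) (m.ap (0, 1)) (by rw [← hg, E_01]; group)

theorem normZ_of_diag {g : G} {m : M2} (hg : Act z (a * z * a⁻¹) g m) (hm : Diag m) :
    g ∈ N[zpowers z] := by
  refine mem_normalizer_of_cj_le ?_
  have := hg (1, 0)
  rw [E_10] at this
  rw [cj_zpowers, zpowers_le, this]
  simp only [M2.ap, E, hm.2.1, mul_one, mul_zero, add_zero, ZMod.val_zero, pow_zero]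
  exact pow_mem (mem_zpowers z) _

theorem NDJ {g : G} (hg : g ∈ N[J ⊓ C1[t]]) : g ∈ N[J] := by
  have key : ∀ g m, Act z (a * z * a⁻¹) g m → Diag m → g ∈ N[J] := fun g m hg hm => by
    refine h.NSJ ?_
    rw [← h.sup_eq (A := J ⊓ C1[t]) (inf_le_left.trans h.JS) fun e => h.xQ (e h.basD.mem_v)]
    exact le_normalizer_sup (zpowers_le.2 (h.NQ (h.normZ_of_diag hg hm)))
      (zpowers_le.2 (h.basD.norm_of_act hg)) (mem_zpowers g)
  obtain ⟨m, hm⟩ := h.basD.ex_act hg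
  rcases h.mono hm with e | e
  · exact key g m hm e
  · simpa using mul_mem (inv_mem (h.grJ h.ga)) (key _ _ (h.act_a.mul hm) e)

theorem liftR (σ : SL25) : ∃ y, (σ, y) ∈ ΓL ∧ y * t = t * y := by
  obtain ⟨y, hy⟩ := h.surL σ
  obtain ⟨n, hn, e⟩ := exists_cent h.Qe h.tt (g := y)
    (h.grL.memK (pmul h.tL (pconj hy h.tL)) (by simp))
  exact ⟨_, h.grL.Kmul hy hn, e⟩

theorem cR : Nat.card ↥(O3 N[zpowers z] ⊓ C1[t]) = 360 := by
  have hR : Gr (ΓL ⊓ C1[t].comap (MonoidHom.snd _ G)) (O3 N[zpowers z] ⊓ C1[t]) (zpowers z) :=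
    ⟨fun y => ⟨fun hy => let ⟨σ, hσ⟩ := h.grL.ex hy.1; ⟨σ, hσ, hy.2⟩,
      fun ⟨σ, h1, h2⟩ => ⟨h.grL.mem h1, h2⟩⟩, fun σ hσ => h.grL.fn σ hσ.1,
      fun y => ⟨fun hy => h.CQt ((h.grL.ker y).1 hy.1) (mem_centralizer_singleton_iff.1 hy.2),
        fun hy => ⟨(h.grL.ker y).2 (h.ZQ hy),
          mem_centralizer_singleton_iff.2 (comm_of_zp h.tz hy).symm⟩⟩⟩
  rw [hR.card (V := ⊤) (fun y => (hR.dom y).trans (by simp)) fun σ _ =>
    let ⟨y, h1, h2⟩ := h.liftR σ; ⟨y, h1, mem_centralizer_singleton_iff.2 h2⟩, h.cZ, card_top,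
    card_sl25]

theorem sylD : IsSyl 3 (J ⊓ C1[t]) C1[t] := by
  by_contra hn
  obtain ⟨P, h1, h2, hP⟩ := exists_lt_pgroup_normalizer inf_le_right
    ((h.pS.to_le h.JS).to_le inf_le_left) hn
  have h3 : P ≤ O3 N[zpowers z] ⊓ C1[t] := fun g hg => by
    obtain ⟨m, hm⟩ := h.basD.ex_act (h2 hg).2
    have a1 := (hm.mul hm).mul (hm.mul hm)
    rw [mono_four m (h.mono hm)] at a1
    have a2 := h.basD.cent_of_act a1
    obtain ⟨k, hk⟩ := hP ⟨g, hg⟩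
    have hk' : g ^ 3 ^ k = 1 := congrArg Subtype.val hk
    have a3 : g ∈ zpowers (g ^ 4) := by
      rw [mem_zpowers_pow_iff]
      obtain ⟨j, -, hj⟩ := (Nat.dvd_prime_pow Nat.prime_three).1 (orderOf_dvd_of_pow_eq_one hk')
      rw [hj]
      exact Nat.Coprime.pow_right j (by decide)
    have a4 : g ∈ C[J ⊓ C1[t]] := zpowers_le.2 (by
      rwa [show g ^ 4 = g * g * (g * g) by simp only [pow_succ, pow_zero, one_mul, mul_assoc]]) a3
    exact ⟨mem_O3 (norm_of_comm (a4 z h.basD.mem_u).symm) hk', (h2 hg).1⟩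
  have h4 := card_dvd_of_le' h3
  have h5 := card_lt_of_lt h1
  obtain ⟨k, hk⟩ := IsPGroup.iff_card.1 hP
  rw [h.cR, hk] at h4
  rw [h.basD.card, hk] at h5
  have h6 : 2 < k := (Nat.pow_lt_pow_iff_right (by norm_num : 1 < 3)).1 h5
  exact absurd ((pow_dvd_pow 3 h6).trans h4) (by decide)

theorem conj_ta : ∃ m ∈ O3 N[J], m * a * m⁻¹ = t := by
  obtain ⟨w, hw1, hw2⟩ : ∃ w : Perm (Fin 6), Perm.sign w = 1 ∧ pT * (w * pA * w⁻¹) = 1 :=
    ⟨swap 2 3 * swap 4 5, by decide, by decide⟩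
  obtain ⟨m, hm⟩ := (h.ranM w).2 hw1
  have h1 := h.grM.memK (pmul h.gt (pconj hm h.ga)) hw2
  have h2 := dih_conj h.tt (s := m * a * m⁻¹) (by
    calc _ = m * (a * a) * m⁻¹ := by group
      _ = 1 := by rw [h.aa]; group) (m := 1) (h.Je _ h1)
  refine ⟨_ * m, mul_mem (h.grM.le (pow_mem h1 (1 + 1))) (h.grM.mem hm), ?_⟩
  refine Eq.trans ?_ h2
  generalize (t * (m * a * m⁻¹)) ^ (1 + 1) = w
  group

theorem at_ne : a ≠ t := fun e => absurd (h.grM.eq h.ga (e ▸ h.gt)) (by decide)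

theorem a1 : a ≠ 1 := fun e => absurd (h.grM.fn _ (e ▸ h.ga)) (by decide)

/-- The elements of `J` inverted by `t`. -/
theorem exists_Lam : ∃ (Λ : Subgroup G) (v w : G), Bas Λ v w ∧
    ∀ j, j ∈ Λ ↔ j ∈ J ∧ t * j * t⁻¹ = j⁻¹ := by
  let Λ : Subgroup G := ⟨⟨⟨{j | j ∈ J ∧ t * j * t⁻¹ = j⁻¹}, fun {i j} hi hj =>
    ⟨mul_mem hi.1 hj.1, by
      rw [h.Jc i hi.1 j hj.1, mul_inv_rev, ← hi.2, ← hj.2, ← h.Jc i hi.1 j hj.1]; group⟩⟩,
    J.one_mem, by simp⟩, fun {j} hj => ⟨inv_mem hj.1, by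
      calc t * j⁻¹ * t⁻¹ = (t * j * t⁻¹)⁻¹ := by group
        _ = _ := by rw [hj.2]⟩⟩
  have hΛ : ∀ j, j ∈ Λ ↔ j ∈ J ∧ t * j * t⁻¹ = j⁻¹ := fun j => Iff.rfl
  have ΛJ : Λ ≤ J := fun j hj => hj.1
  have h1 : J ⊓ C1[t] ⊔ Λ = J := by
    refine le_antisymm (sup_le inf_le_left ΛJ) fun j hj => ?_
    have hj' := conj_mem_of_mem_normalizer (h.grJ h.gt) hj
    have e := h.Jc _ hj _ hj'
    have e2 : t * (t * j * t⁻¹) * t⁻¹ = j := by
      calc _ = (t * t) * j * (t * t)⁻¹ := by group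
        _ = j := by rw [h.tt]; group
    refine mem_of_sq_cube ?_ (h.Je j hj)
    have a1 : t * j * t⁻¹ * j ∈ J ⊓ C1[t] := ⟨mul_mem hj' hj, mem_centralizer_singleton_iff.2 (by
      rw [← e]
      calc j * (t * j * t⁻¹) * t = (t * (t * j * t⁻¹) * t⁻¹) * (t * j) := by rw [e2]; group
        _ = t * (t * j * t⁻¹ * j) := by group
        _ = _ := by rw [← e])⟩
    have a2 : (t * j * t⁻¹)⁻¹ * j ∈ Λ := ⟨mul_mem (inv_mem hj') hj, by
      calc _ = (t * (t * j * t⁻¹) * t⁻¹)⁻¹ * (t * j * t⁻¹) := by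
            simp only [mul_inv_rev, inv_inv, mul_assoc, inv_mul_cancel_left]
        _ = _ := by rw [e2]; group⟩
    have := mul_mem (mem_sup_left a1 : _ ∈ J ⊓ C1[t] ⊔ Λ) (mem_sup_right a2)
    rw [← e] at this
    convert this using 1
    group
  have h2 : J ⊓ C1[t] ⊓ Λ = ⊥ := eq_bot_iff.2 fun j hj => by
    have e := hj.2.2
    rw [← mem_centralizer_singleton_iff.1 hj.1.2, mul_inv_cancel_right] at e
    exact eq_one_of_sq_cube (by nth_rewrite 1 [e]; exact inv_mul_cancel j) (h.Je j hj.1.1)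
  have h3 := card_sup_of_inf_eq_bot (Or.inl (le_normalizer_of_le_centralizer
    (inf_le_left.trans (h.JC.trans (centralizer_anti ΛJ))))) h2
  rw [h1, h.cJ, h.basD.card] at h3
  have h4 : Nat.card Λ = 9 := by omega
  obtain ⟨v, hv, v1⟩ := exists_ne_one_of_ne_bot (H := Λ) (by rintro e; rw [e] at h4; simp at h4)
  have v3 := h.Je v hv.1
  obtain ⟨w, hw, hw'⟩ : ∃ w ∈ Λ, w ∉ zpowers v := by
    refine SetLike.not_le_iff_exists.1 fun e => ?_
    have := card_le_of_le e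
    rw [h4, Nat.card_zpowers, orderOf_eq_prime v3 v1] at this
    omega
  exact ⟨Λ, v, w, bas_of h4.le hv hw v3 (h.Je w hw.1) (h.Jc v hv.1 w hw.1) v1 hw', hΛ⟩

end St

end Cfsg.Agent.H67.T3
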