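import Cfsg.Agent.H67.T3B

/-! The 3-local characterisation of McL: more finite checks. -/

set_option autoImplicit false
set_option synthInstance.maxSize 2000

namespace Cfsg.Agent.H67.T3

open Subgroup Equiv Cfsg Cfsg.Agent.H63 Cfsg.Agent.H67 Cfsg.Agent.H91

/-- The relations between the three matrices. -/
def Rel (F1 F A : M2) : Prop :=
  F1 * F1 = -1 ∧ F * F = -1 ∧ F ≠ F1 ∧ F ≠ -F1 ∧ A * A = 1 ∧ A * F1 * A * F1 = 1

theorem gl0 : ∀ F1 : M2, F1 * F1 = -1 → ∀ F : M2, F * F = -1 → F ≠ F1 → F ≠ -F1 → ∀ A : M2,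
    A * A = 1 → A * F1 * A * F1 = 1 → (F * (A * F * A) = F1 ∨ F * (A * F * A) = -F1) ∧
      F * (A * F * A) ≠ A * F * A * F ∧ F * F1 ≠ F1 * F ∧ F * -F1 ≠ -F1 * F ∧
      ∀ H : M2, (H * F = F * H ∨ H * F = -1 * (F * H)) →
        (A * H * A * F = F * (A * H * A) ∨ A * H * A * F = -1 * (F * (A * H * A))) →
        ∀ H' : M2, H * H' = 1 → (H = 1 ∨ H = -1) ∨ (H * F = 1 ∨ H * F = -1) ∨
          (H * (A * F * A) = 1 ∨ H * (A * F * A) = -1) ∨ (H = F1 ∨ H = -F1) := by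
  decide +kernel

theorem gl1 : ∀ F1 : M2, F1 * F1 = -1 → ∀ H : M2, (H = F1 ∨ H = -F1) → H * H * -1 = 1 ∧
    (H * H * H = F1 ∨ H * H * H = -F1) ∧ (∀ C : M2, (C = F1 ∨ C = -F1) →
      H * C = -1 ∨ H * C * -1 = -1) ∧
    ∀ A : M2, A * A = 1 → A * F1 * A * F1 = 1 → A * H * (A * H) = 1 := by
  decide +kernel

theorem gl2 : ∀ A : M2, A * A = 1 → ∀ s : M2, (s = 1 ∨ s = -1) → A * s * A = s := by
  decide +kernel

theorem gl3 : ∀ F1 : M2, F1 * F1 = -1 → F1 * -F1 = 1 := by decide +kernel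

theorem sl_cent : ∀ γ : SL25, γ * slX = slX * γ →
    ∃ i : Fin 3, γ = slX ^ i.val ∨ γ = slX ^ i.val * -1 := by decide +kernel

theorem slF_X : slF * slX * slF⁻¹ = slX⁻¹ := by decide +kernel
theorem slF_sq : slF * slF = -1 := by decide +kernel

theorem s5_cent : ∀ τ : Perm (Fin 5), τ * (swap 0 1 * swap 1 2) = swap 0 1 * swap 1 2 * τ →
    τ * (swap 2 3 * swap 3 4) = swap 2 3 * swap 3 4 * τ → τ = 1 := by decide +kernel

theorem s5_three : ∀ u : Perm (Fin 5), u ^ 3 = 1 → u ≠ 1 →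
    (∃ τ : Perm (Fin 5), τ * u = u * τ ∧ Perm.sign τ = -1) ∧
    ∀ τ : Perm (Fin 5), τ * u = u * τ → Perm.sign τ = 1 → ∃ i : Fin 3, τ = u ^ i.val := by
  decide +kernel

/-- A three-cycle. -/
def c3 : Perm (Fin 3) := Equiv.addRight 1

theorem s3_facts : ∀ σ : Perm (Fin 3), (σ * c3 * σ⁻¹ = c3 → Perm.sign σ = 1) ∧
    (σ * c3 * σ⁻¹ = c3⁻¹ → Perm.sign σ = -1) ∧
    (Perm.sign σ = 1 → ∃ i : Fin 3, σ = c3 ^ i.val) := by decide +kernel

/-- The action of `f` on `D`. -/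
def dF : M2 := ⟨1, 0, 0, -1⟩

end Cfsg.Agent.H67.T3
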