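import Cfsg.Agent.H67.T3C
import Cfsg.Agent.H67.T3T
import Cfsg.Agent.H91.FCStruct

/-! The 3-local characterisation of McL: the subgroup `SL(2,5)` and the action on `[J, t]`. -/

set_option autoImplicit false

namespace Cfsg.Agent.H67.T3

open Subgroup Equiv Cfsg Cfsg.Agent.H63 Cfsg.Agent.H67 Cfsg.Agent.H91
open scoped commutatorElement

variable {G : Type*} [Group G]

/-- The hypotheses with the chosen subgroup `SL(2,5)` and basis of `[J, t]`. -/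
structure Su (S J Q : Subgroup G) (z : G) (ΓL : Subgroup (SL25 × G))
    (ΓM : Subgroup (Perm (Fin 6) × G)) (t f1 a : G) (ι : SL25 →* G) (Λ : Subgroup G) (v w : G) :
    Prop extends St S J Q z ΓL ΓM t f1 a where
  inj : Function.Injective ι
  ιX : ι slX = a * z * a⁻¹
  ιt : ι (-1) = t
  ιL : ∀ σ, ι σ ∈ O3 N[zpowers z]
  dec : ∀ r ∈ O3 N[zpowers z], r * t = t * r → ∃ c ∈ zpowers z, ∃ σ, r = c * ι σ
  ιZ : ∀ σ, ι σ ∈ zpowers z → σ = 1
  bL : Bas Λ v w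
  hL : ∀ j, j ∈ Λ ↔ j ∈ J ∧ t * j * t⁻¹ = j⁻¹

variable {S J Q : Subgroup G} {z : G} {ΓL : Subgroup (SL25 × G)}
  {ΓM : Subgroup (Perm (Fin 6) × G)} {t f1 a : G} {ι : SL25 →* G} {Λ : Subgroup G} {v w : G}

theorem Act.eq {u v g : G} {m n : M2} (h : Act u v g m) (e : m = n) : Act u v g n := e ▸ h

theorem m2_mul_one : ∀ m : M2, m * 1 = m := by decide
theorem m2_one_mul : ∀ m : M2, 1 * m = m := by decide

theorem Bas.inf_zp {A : Subgroup G} {u v c : G} (h : Bas A u v) (h1 : c ∈ zpowers u)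
    (h2 : c ∈ zpowers v) : c = 1 := by
  obtain ⟨p, rfl⟩ := (h.mem c).1 (zpowers_le.2 h.mem_u h1)
  rw [show p = 0 from Prod.ext (h.ax2 h2) (h.ax1 h1), E_zero]

theorem St.exists_su [Finite G] (h : St S J Q z ΓL ΓM t f1 a) :
    ∃ ι Λ v w, Su S J Q z ΓL ΓM t f1 a ι Λ v w := by
  obtain ⟨Λ, v, w, bL, hL⟩ := h.exists_Lam
  have toZ : ∀ {σ y}, (σ, y) ∈ ΓL → σ = 1 → Commute y t → y ∈ zpowers z := fun hy e c =>
    h.CQt (h.grL.memK hy e) c
  obtain ⟨wx, hx⟩ := h.grL.ex (h.SL (h.JS h.xJ))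
  obtain ⟨g, hg⟩ := sl_three wx (h.grL.one (ppow hx 3) (h.Je _ h.xJ ▸ Q.one_mem))
    fun e => h.xQ (h.grL.memK hx e)
  obtain ⟨l, hl, lt⟩ := h.liftR g
  have hX0 := pconj hl hx
  rw [mul_inv_eq_iff_eq_mul.2 hg] at hX0
  have X0t : Commute (l * (a * z * a⁻¹) * l⁻¹) t :=
    (Commute.mul_left lt h.xt).mul_left (Commute.inv_left lt)
  have X03 : (l * (a * z * a⁻¹) * l⁻¹) ^ 3 = 1 := by rw [conj_pow, h.Je _ h.xJ]; group
  generalize l * (a * z * a⁻¹) * l⁻¹ = X0 at hX0 X0t X03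
  obtain ⟨Y0, hY0, Y0t⟩ := h.liftR slY
  have hY : (slY, Y0 ^ 6) ∈ ΓL := by
    have := ppow hY0 6
    rwa [pow_succ, slY_pow, one_mul] at this
  have Y5 : (Y0 ^ 6) ^ 5 = 1 := by
    rw [← pow_mul, show 6 * 5 = 5 * 3 * 2 from rfl, pow_mul, pow_mul,
      h.Qe _ (h.grL.memK (ppow hY0 5) slY_pow), one_pow]
  have Yt : Commute (Y0 ^ 6) t := Commute.pow_left Y0t 6
  generalize Y0 ^ 6 = Y at hY Y5 Yt
  have hc : (X0 * Y) ^ 4 ∈ zpowers z :=
    toZ (ppow (pmul hX0 hY) 4) (by decide) ((X0t.mul_left Yt).pow_left 4)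
  obtain ⟨c, ec⟩ : ∃ c, c = (X0 * Y) ^ 4 := ⟨_, rfl⟩
  rw [← ec] at hc
  have c3 := h.Qe c (h.ZQ hc)
  have cX : Commute X0 c⁻¹ := Commute.inv_right (comm_of_zp (h.grLz hX0) hc)
  have cY : Commute Y c⁻¹ := Commute.inv_right (comm_of_zp (h.grLz hY) hc)
  have hX := h.grL.mulK hX0 (inv_mem (h.ZQ hc))
  have X3 : (X0 * c⁻¹) ^ 3 = 1 := by rw [cX.mul_pow, X03, inv_pow, c3]; simp
  have XY4 : (X0 * c⁻¹ * Y) ^ 4 = 1 := by
    rw [mul_assoc, ← cY.eq, ← mul_assoc, (cX.mul_left cY).mul_pow, ← ec, inv_pow, pow_succ, c3]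
    simp
  have Xt : Commute (X0 * c⁻¹) t :=
    X0t.mul_left (Commute.inv_left (comm_of_zp h.tz hc).symm)
  generalize X0 * c⁻¹ = X at hX X3 XY4 Xt
  have XY2 : (X * Y) ^ 2 = t := by
    have c1 : Commute ((X * Y) ^ 2) t := (Xt.mul_left Yt).pow_left 2
    have h1 := toZ (pmul (ppow (pmul hX hY) 2) h.tL) (by decide) (c1.mul_left (Commute.refl t))
    have h2 := eq_one_of_sq_cube (by
      rw [← sq, c1.mul_pow, ← pow_mul, XY4, sq, h.tt, one_mul]) (h.Qe _ (h.ZQ h1))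
    rw [eq_inv_of_mul_eq_one_left h2, h.ti]
  obtain ⟨ι0, inj0, iX, iY⟩ := exists_hom_sl25 X3 Y5 XY4 (by rw [XY2]; exact Xt.eq)
    (by rw [XY2]; exact h.t1)
  have gr0 : ∀ σ, (σ, ι0 σ) ∈ ΓL ∧ ι0 σ * t = t * ι0 σ := fun σ => by
    have : Subgroup.closure {slX, slY} ≤ (ΓL ⊓ C1[t].comap (MonoidHom.snd _ G)).comap
        ((MonoidHom.id SL25).prod ι0) := by
      rw [closure_le]
      rintro s (rfl | rfl)
      · rw [← iX] at hX Xt
        exact ⟨hX, mem_centralizer_singleton_iff.2 Xt.eq⟩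
      · rw [← iY] at hY Yt
        exact ⟨hY, mem_centralizer_singleton_iff.2 Yt.eq⟩
    have h1 := this (closure_slXY ▸ mem_top σ)
    exact ⟨h1.1, mem_centralizer_singleton_iff.1 h1.2⟩
  have dec0 : ∀ {σ r}, (σ, r) ∈ ΓL → r * t = t * r → r * (ι0 σ)⁻¹ ∈ zpowers z := fun hr c =>
    toZ (pmul hr (pinv (gr0 _).1)) (mul_inv_cancel _)
      (Commute.mul_left c (Commute.inv_left (gr0 _).2))
  let ι : SL25 →* G := ι0.comp (MulAut.conj g⁻¹).toMonoidHom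
  have hι : ∀ σ, ι σ = ι0 (g⁻¹ * σ * g) := fun σ => by simp [ι]
  have ιz : ∀ σ, ι σ * z = z * ι σ := fun σ => hι σ ▸ h.grLz (gr0 _).1
  have ewx : g⁻¹ * slX * g = wx := by rw [mul_assoc, ← hg]; group
  refine ⟨ι, Λ, v, w, { h with
    inj := inj0.comp (MulAut.conj g⁻¹).injective, ιX := ?_, ιt := ?_
    ιL := fun σ => hι σ ▸ h.grL.mem (gr0 _).1, dec := fun r hr c => ?_, ιZ := fun σ hσ => ?_
    bL := bL, hL := hL }⟩
  · have h1 := dec0 hx h.xt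
    rw [← ewx, ← hι] at h1
    have h2 : ι slF * ι slX * (ι slF)⁻¹ = (ι slX)⁻¹ := by
      rw [← map_inv, ← map_mul, ← map_mul, slF_X, map_inv]
    have h3 : ι slF * t = t * ι slF := hι slF ▸ (gr0 _).2
    have h4 := comm_of_zp (ιz slF) h1
    have h5 := h.Jc _ (h.ZJ h1) _ h.xJ
    have h7 : ι slF * a * z * (ι slF * a)⁻¹ = ι slF * (a * z * a⁻¹) * (ι slF)⁻¹ := by group
    have h8 : Commute (ι slF * (a * z * a⁻¹) * (ι slF)⁻¹) t :=
      (Commute.mul_left h3 h.xt).mul_left (Commute.inv_left h3)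
    have xJ := h.xJ
    have xZ := h.xZ
    have bD := h.basD
    have fu := h.fusion (g := ι slF * a) (v := ι slF * (a * z * a⁻¹) * (ι slF)⁻¹)
    generalize a * z * a⁻¹ = x at *
    obtain ⟨c, ec⟩ : ∃ c, c = x * (ι slX)⁻¹ := ⟨_, rfl⟩
    rw [← ec] at h1 h4 h5
    have e1 : ι slX = c⁻¹ * x := by rw [ec]; group
    have h6 : ι slF * x * (ι slF)⁻¹ = c * c * x⁻¹ := by
      calc _ = (ι slF * c) * ι slX * (ι slF)⁻¹ := by rw [e1]; group
        _ = c * (ι slF * ι slX * (ι slF)⁻¹) := by rw [h4]; group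
        _ = c * (x⁻¹ * (c * x)) * x⁻¹ := by rw [h2, e1]; group
        _ = c * c * x⁻¹ := by rw [h5]; group
    rw [h6] at h7 h8 fu
    rcases fu (mul_mem (h.ZJ (mul_mem h1 h1)) (inv_mem xJ)) h7 (norm_of_comm h8.symm.eq) with e | e
    · exact absurd (by simpa [mul_assoc] using mul_mem (inv_mem e) (mul_mem h1 h1)) xZ
    · have := bD.inf_zp (mul_mem h1 h1) (by simpa using mul_mem e (mem_zpowers x))
      rw [e1, eq_one_of_sq_cube this (h.Qe c (h.ZQ h1))]; simp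
  · rw [hι, show g⁻¹ * -1 * g = (slX * slY) ^ 2 by rw [slXY_sq]; simp, map_pow, map_mul, iX, iY,
      XY2]
  · obtain ⟨σ, hσ⟩ := h.grL.ex hr
    exact ⟨_, dec0 hσ c, g * σ * g⁻¹, by rw [hι]; simp [mul_assoc]⟩
  · have := h.grL.one (gr0 (g⁻¹ * σ * g)).1 (h.ZQ (hι σ ▸ hσ))
    calc σ = g * (g⁻¹ * σ * g) * g⁻¹ := by group
      _ = 1 := by rw [this]; group

namespace Su

variable (h : Su S J Q z ΓL ΓM t f1 a ι Λ v w)
include h

theorem ιz (σ : SL25) : ι σ * z = z * ι σ := h.Lz (h.ιL σ)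

theorem ιt' (σ : SL25) : ι σ * t = t * ι σ := by rw [← h.ιt, ← map_mul, ← map_mul]; simp

theorem ff : ι slF * ι slF = t := by rw [← map_mul, slF_sq, h.ιt]

theorem fx : ι slF * (a * z * a⁻¹) * (ι slF)⁻¹ = (a * z * a⁻¹)⁻¹ := by
  rw [← h.ιX, ← map_inv, ← map_mul, ← map_mul, slF_X, map_inv]

theorem xne : (a * z * a⁻¹)⁻¹ ≠ a * z * a⁻¹ := fun e =>
  h.zne (by simpa [mul_assoc] using e)

variable [Finite G]

theorem norm_ι {n : G} (h1 : n * t = t * n) (h2 : n ∈ N[zpowers z]) (σ : SL25) :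
    ∃ κ, n * ι σ * n⁻¹ = ι κ := by
  have key : ∀ α, ∃ c ∈ zpowers z, ∃ κ, n * ι α * n⁻¹ = c * ι κ := fun α =>
    h.dec _ (conj_mem_of_mem_normalizer (norm_O3 (le_normalizer h2)) (h.ιL α))
      ((Commute.mul_left h1 (h.ιt' α)).mul_left (Commute.inv_left h1) :)
  have : commutator SL25 ≤ (ι.range.comap (MulAut.conj n).toMonoidHom).comap ι := by
    rw [commutator_def, commutator_le]
    intro α _ β _
    obtain ⟨c, hc, α', e1⟩ := key α
    obtain ⟨d, hd, β', e2⟩ := key β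
    refine ⟨⁅α', β'⁆, ?_⟩
    have c1 := comm_of_zp (h.ιz β') hc
    have c2 := comm_of_zp (h.ιz α') hd
    have c3 := h.Jc _ (h.ZJ hc) _ (h.ZJ hd)
    have c4 := comm_of_zp (h.ιz α') hc
    have c5 := comm_of_zp (h.ιz β') hd
    show ι ⁅α', β'⁆ = n * ι ⁅α, β⁆ * n⁻¹
    rw [map_commutatorElement, map_commutatorElement, conjugate_commutatorElement, e1, e2,
      commutatorElement_def, commutatorElement_def]
    have c6 : Commute (ι α' * ι β' * (ι α')⁻¹) c :=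
      (Commute.mul_left c4 c1).mul_left (Commute.inv_left c4)
    calc _ = c * (ι α' * ι β' * (ι α')⁻¹) * c⁻¹ * (ι β')⁻¹ := by rw [← c6.eq]; group
      _ = d * (c * (ι α' * ι β' * (ι α')⁻¹) * c⁻¹ * (ι β')⁻¹) * d⁻¹ := by
        have : Commute (c * (ι α' * ι β' * (ι α')⁻¹) * c⁻¹ * (ι β')⁻¹) d :=
          (((Commute.mul_left c3 ((Commute.mul_left c2 c5).mul_left
            (Commute.inv_left c2))).mul_left (Commute.inv_left c3)).mul_left (Commute.inv_left c5))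
        rw [← this.eq]; group
      _ = (d * c * ι α') * ι β' * (c * ι α')⁻¹ * (d * ι β')⁻¹ := by group
      _ = _ := by rw [← c3, mul_assoc c d, ← c2]; group
  obtain ⟨κ, hκ⟩ := this (commutator_sl25 ▸ mem_top σ)
  exact ⟨κ, hκ.symm⟩

theorem act_f : Act z (a * z * a⁻¹) (ι slF) dF :=
  h.basD.act_of (by rw [show (dF.a, dF.c) = (1, 0) from rfl, E_10, h.ιz, mul_inv_cancel_right])
    (by rw [show (dF.b, dF.d) = -(0, 1) from by decide, h.basD.neg, E_01, h.fx])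

theorem act_r : Act z (a * z * a⁻¹) (a * ι slF * a) ⟨-1, 0, 0, 1⟩ :=
  ((h.act_a.mul h.act_f).mul h.act_a).eq (by decide)

theorem rz : a * ι slF * a * z * (a * ι slF * a)⁻¹ = z⁻¹ := by
  have := h.act_r (1, 0)
  rwa [show M2.ap ⟨-1, 0, 0, 1⟩ (1, 0) = -(1, 0) by decide, h.basD.neg, E_10] at this

theorem rx : a * ι slF * a * (a * z * a⁻¹) = a * z * a⁻¹ * (a * ι slF * a) := by
  have := h.act_r (0, 1)
  rw [show M2.ap ⟨-1, 0, 0, 1⟩ (0, 1) = (0, 1) by decide, E_01] at this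
  exact mul_inv_eq_iff_eq_mul.1 this

omit [Finite G] in
theorem rt : a * ι slF * a * t = t * (a * ι slF * a) :=
  ((Commute.mul_left h.ta (h.ιt' slF)).mul_left h.ta :)

theorem act_c : Act z (a * z * a⁻¹) (ι slF * (a * ι slF * a)) (-1) :=
  (h.act_f.mul h.act_r).eq (by decide)

omit [Finite G] in
theorem ΛJ : Λ ≤ J := fun j hj => ((h.hL j).1 hj).1

theorem exL {b : G} (h1 : b ∈ N[J]) (h2 : b * t = t * b) : ∃ m, Act v w b m :=
  h.bL.ex_act (mem_normalizer_of_cj_le (cj_le_iff.2 fun j hj => (h.hL _).2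
    ⟨conj_mem_of_mem_normalizer h1 (h.ΛJ hj), by
      calc _ = (t * b) * j * (t * b)⁻¹ := by group
        _ = b * (t * j * t⁻¹) * b⁻¹ := by rw [← h2]; group
        _ = _ := by rw [((h.hL j).1 hj).2]; group⟩))

omit [Finite G] in
theorem actL_t : Act v w t (-1) := h.bL.act_of_inv fun y hy => ((h.hL y).1 hy).2

theorem actL_J {j : G} (hj : j ∈ J) : Act v w j 1 :=
  h.bL.act_of_cent (centralizer_anti h.ΛJ (h.JC hj))

omit [Finite G] in
theorem decJ {j : G} (hj : j ∈ J) : ∃ d ∈ J ⊓ C1[t], ∃ l ∈ Λ, j = d * l := by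
  have hj' := conj_mem_of_mem_normalizer (h.grJ h.gt) hj
  have e := h.Jc _ hj _ hj'
  have e2 : t * (t * j * t⁻¹) * t⁻¹ = j := by
    calc _ = (t * t) * j * (t * t)⁻¹ := by group
      _ = j := by rw [h.tt]; group
  have a1 : t * j * t⁻¹ * j ∈ J ⊓ C1[t] := ⟨mul_mem hj' hj, mem_centralizer_singleton_iff.2 (by
    rw [← e]
    calc j * (t * j * t⁻¹) * t = (t * (t * j * t⁻¹) * t⁻¹) * (t * j) := by rw [e2]; group
      _ = t * (t * j * t⁻¹ * j) := by group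
      _ = _ := by rw [← e])⟩
  have a2 : (t * j * t⁻¹)⁻¹ * j ∈ Λ := (h.hL _).2 ⟨mul_mem (inv_mem hj') hj, by
    calc _ = (t * (t * j * t⁻¹) * t⁻¹)⁻¹ * (t * j * t⁻¹) := by
          simp only [mul_inv_rev, inv_inv, mul_assoc, inv_mul_cancel_left]
      _ = _ := by rw [e2]; group⟩
  refine ⟨_, inv_mem a1, _, inv_mem a2, ?_⟩
  rw [← mul_inv_rev, h.Jc _ (h.ΛJ a2) _ a1.1, ← e]
  generalize t * j * t⁻¹ = j'
  rw [show j * j' * (j'⁻¹ * j) = j * j by group, ← inv_of_cube (h.Je j hj), inv_inv]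

theorem ΛQ : Λ ≤ Q := fun j hj => by
  obtain ⟨σ, hσ⟩ := h.grL.ex (h.SL (h.JS (h.ΛJ hj)))
  have h1 := pconj h.tL hσ
  rw [((h.hL j).1 hj).2] at h1
  have h2 : σ * σ = 1 := by
    have := pmul h1 hσ
    rw [inv_mul_cancel] at this
    simpa using h.grL.fn _ this
  exact h.grL.memK hσ
    (eq_one_of_sq_cube h2 (h.grL.one (ppow hσ 3) (h.Je j (h.ΛJ hj) ▸ Q.one_mem)))

theorem L1 {b : G} (h1 : b * z = z * b) (h2 : Act v w b 1) : b ∈ J := by
  rw [← h.cent_JQ]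
  refine mem_centralizer_iff.2 fun j hj => ?_
  obtain ⟨d, hd, l, hl, rfl⟩ := h.decJ hj.1
  have h3 : d ∈ Q := by simpa using Q.mul_mem hj.2 (Q.inv_mem (h.ΛQ hl))
  have h4 := comm_of_zp h1 (h.CQt h3 (mem_centralizer_singleton_iff.1 hd.2))
  exact (Commute.mul_left h4.symm (h.bL.cent_of_act h2 l hl) :)

theorem L2 {b : G} {s : M2} (h1 : b * z = z * b) (h2 : Act v w b s) (hs : s = 1 ∨ s = -1) :
    b ∈ J ∨ b * t ∈ J := by
  rcases hs with rfl | rfl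
  · exact Or.inl (h.L1 h1 h2)
  · exact Or.inr (h.L1 (Commute.mul_left h1 h.tz :) ((h2.mul h.actL_t).eq (by decide)))

theorem L3 {b : G} {s : M2} (h1 : b * z = z * b) (h2 : Act v w b s) (hs : s = 1 ∨ s = -1) :
    b * (a * z * a⁻¹) * b⁻¹ ≠ (a * z * a⁻¹)⁻¹ := fun e => by
  have : Commute b (a * z * a⁻¹) := by
    rcases h.L2 h1 h2 hs with e | e
    · exact h.Jc _ e _ h.xJ
    · have := (Commute.mul_left (h.Jc _ e _ h.xJ) h.xt.symm :)
      rwa [mul_assoc, h.tt, mul_one] at this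
  exact h.xne (by rw [← e, this.eq, mul_inv_cancel_right])

theorem exA : ∃ A, Act v w a A ∧ A * A = 1 := by
  obtain ⟨A, hA⟩ := h.exL (h.grJ h.ga) h.ta
  exact ⟨A, hA, h.bL.act_eq (hA.mul hA) (h.aa ▸ act_one v w)⟩

theorem L4 {b : G} {s : M2} (h1 : b * (a * z * a⁻¹) = a * z * a⁻¹ * b) (h2 : Act v w b s)
    (hs : s = 1 ∨ s = -1) : b * z * b⁻¹ ≠ z⁻¹ := fun e => by
  obtain ⟨A, hA, AA⟩ := h.exA
  have h3 := (hA.mul h2).mul hA
  rw [gl2 A AA s hs] at h3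
  refine h.L3 ?_ h3 hs ?_
  · calc a * b * a * z = a * (b * (a * z * a⁻¹)) * a := by group
      _ = (a * a) * z * (a⁻¹ * b * a) := by rw [h1]; group
      _ = _ := by rw [h.aa, h.ai]; group
  · calc _ = a * b * ((a * a) * z * (a * a)⁻¹) * b⁻¹ * a⁻¹ := by group
      _ = a * (b * z * b⁻¹) * a⁻¹ := by rw [h.aa]; group
      _ = _ := by rw [e]; group

theorem fJ : ι slF ∈ N[J] := h.NDJ (h.basD.norm_of_act h.act_f)

theorem exRel : ∃ F1 F A, Act v w (ι slF) F ∧ Act v w a A ∧ Rel F1 F A := by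
  have ft : f1 * t = t * f1 := by rw [← h.ft, mul_assoc]
  obtain ⟨F1, hF1⟩ := h.exL (h.grJ h.gf) ft
  obtain ⟨F, hF⟩ := h.exL h.fJ (h.ιt' slF)
  obtain ⟨A, hA, AA⟩ := h.exA
  have e1 : F1 * F1 = -1 := h.bL.act_eq (hF1.mul hF1) (h.ft ▸ h.actL_t)
  have j0 : a * f1 * a * f1 ∈ J :=
    h.grM.memK (pmul (pmul (pmul h.ga h.gf) h.ga) h.gf) (by decide)
  have key : ¬ (F1 * F = 1 ∨ F1 * F = -1) := fun hs => by
    have a0 : f1⁻¹ * z * f1⁻¹⁻¹ ∈ J := conj_mem_of_mem_normalizer (inv_mem (h.grJ h.gf)) h.zJ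
    have a1 : f1 * (a * z * a⁻¹) * f1⁻¹ = a * (f1⁻¹ * z * f1⁻¹⁻¹) * a⁻¹ := by
      have e0 : f1 * a = a * (a * f1 * a * f1) * f1⁻¹ := by
        calc f1 * a = (a * a) * f1 * a := by rw [h.aa, one_mul]
          _ = _ := by group
      calc _ = (f1 * a) * z * (f1 * a)⁻¹ := by group
        _ = a * ((a * f1 * a * f1) * (f1⁻¹ * z * f1⁻¹⁻¹)) * (a * f1 * a * f1)⁻¹ * a⁻¹ := by
          rw [e0]; group
        _ = _ := by rw [h.Jc _ j0 _ a0]; group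
    have a2 : f1 * ι slF * (a * z * a⁻¹) * (f1 * ι slF)⁻¹ = (f1 * (a * z * a⁻¹) * f1⁻¹)⁻¹ := by
      calc _ = f1 * (ι slF * (a * z * a⁻¹) * (ι slF)⁻¹) * f1⁻¹ := by group
        _ = _ := by rw [h.fx]; group
    rcases conj_cases h.z3 h.z1 (inv_mem h.fZ) with e | e
    · refine h.L3 (Commute.mul_left ?_ (h.ιz slF)) (hF1.mul hF) hs (by rw [a2, a1, e])
      exact Commute.inv_left_iff.1 (mul_inv_eq_iff_eq_mul.1 e)
    · refine h.L4 (mul_inv_eq_iff_eq_mul.1 (by rw [a2, a1, e]; group)) (hF1.mul hF) hs ?_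
      calc _ = f1 * (ι slF * z) * (ι slF)⁻¹ * f1⁻¹ := by group
        _ = (f1 * z⁻¹ * f1⁻¹)⁻¹ := by rw [h.ιz]; group
        _ = (f1 * (f1⁻¹ * z * f1⁻¹⁻¹) * f1⁻¹)⁻¹ := by rw [e]
        _ = _ := by group
  refine ⟨F1, F, A, hF, hA, e1, h.bL.act_eq (hF.mul hF) (h.ff ▸ h.actL_t), ?_, ?_, AA,
    h.bL.act_eq (((hA.mul hF1).mul hA).mul hF1) (h.actL_J j0)⟩
  · rintro rfl; exact key (Or.inr e1)
  · rintro rfl; exact key (Or.inl (gl3 _ e1))

theorem cJ' : ι slF * (a * ι slF * a) ∈ N[J] := h.NDJ (h.basD.norm_of_act h.act_c)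

omit [Finite G] in
theorem ct : ι slF * (a * ι slF * a) * t = t * (ι slF * (a * ι slF * a)) :=
  (Commute.mul_left (h.ιt' slF) h.rt :)

theorem memD {b : G} {m : M2} (h1 : Act z (a * z * a⁻¹) b m) (hm : m = 1) {s : M2}
    (h2 : Act v w b s) (hs : s = 1) (h3 : b * t = t * b) : b ∈ J ⊓ C1[t] :=
  ⟨h.L1 (h.basD.cent_of_act (h1.eq hm) z h.basD.mem_u).symm (h2.eq hs),
    mem_centralizer_singleton_iff.2 h3⟩

theorem act_t : Act z (a * z * a⁻¹) t 1 :=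
  h.basD.act_of_cent (mem_centralizer_iff_le.2 inf_le_right)

theorem cc : ι slF * (a * ι slF * a) * (ι slF * (a * ι slF * a)) * t ∈ J ⊓ C1[t] := by
  obtain ⟨F1, F, A, hF, hA, r1, r2, r3, r4, r5, r6⟩ := h.exRel
  have hC := hF.mul ((hA.mul hF).mul hA)
  exact h.memD ((h.act_c.mul h.act_c).mul h.act_t) (by decide) ((hC.mul hC).mul h.actL_t)
    (gl1 F1 r1 _ (gl0 F1 r1 F r2 r3 r4 A r5 r6).1).1
    ((Commute.mul_left h.ct h.ct).mul_left (Commute.refl t) :)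

theorem acac : a * (ι slF * (a * ι slF * a)) * (a * (ι slF * (a * ι slF * a))) ∈ J ⊓ C1[t] := by
  obtain ⟨F1, F, A, hF, hA, r1, r2, r3, r4, r5, r6⟩ := h.exRel
  have hC := hA.mul (hF.mul ((hA.mul hF).mul hA))
  exact h.memD ((h.act_a.mul h.act_c).mul (h.act_a.mul h.act_c)) (by decide) (hC.mul hC)
    ((gl1 F1 r1 _ (gl0 F1 r1 F r2 r3 r4 A r5 r6).1).2.2.2 A r5 r6)
    ((Commute.mul_left h.ta h.ct).mul_left (Commute.mul_left h.ta h.ct) :)

theorem fr_ne {j : G} (hj : j ∈ J) :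
    ι slF * (a * ι slF * a * j) ≠ a * ι slF * a * j * ι slF := fun e => by
  obtain ⟨F1, F, A, hF, hA, r1, r2, r3, r4, r5, r6⟩ := h.exRel
  have hR := (((hA.mul hF).mul hA).mul (h.actL_J hj)).eq (m2_mul_one _)
  exact (gl0 F1 r1 F r2 r3 r4 A r5 r6).2.1 (h.bL.act_eq (hF.mul hR) (e ▸ hR.mul hF))

theorem B0_f {b : G} {H F : M2} (h1 : b ∈ C[J ⊓ C1[t]]) (h2 : b * t = t * b) (hH : Act v w b H)
    (hF : Act v w (ι slF) F) : H * F = F * H ∨ H * F = -1 * (F * H) := by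
  have bz := (h1 z h.basD.mem_u).symm
  have bx := (h1 _ h.basD.mem_v).symm
  obtain ⟨κ, hκ⟩ := h.norm_ι h2 (norm_of_comm bz) slF
  have h3 : κ * slF⁻¹ * slX = slX * (κ * slF⁻¹) := by
    apply h.inj
    rw [map_mul, map_mul, map_mul, map_mul, map_inv, ← hκ, h.ιX]
    have fx := h.fx
    generalize a * z * a⁻¹ = x at *
    generalize ι slF = f at *
    have e1 : f⁻¹ * x * f = x⁻¹ := by
      calc f⁻¹ * x * f = (f⁻¹ * x⁻¹ * f)⁻¹ := by group
        _ = x⁻¹ := by rw [← fx]; nth_rewrite 2 [fx]; group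
    calc _ = b * f * (b⁻¹ * (f⁻¹ * x * f) * b) * b⁻¹ * f⁻¹ := by group
      _ = b * (f * (b⁻¹ * (x * b))⁻¹ * f⁻¹) * f * b⁻¹ * f⁻¹ := by
        rw [e1, ← bx, show b⁻¹ * x⁻¹ * b = ((b⁻¹ * (x * b)))⁻¹ by group, ← bx]; group
      _ = b * (f * x * f⁻¹)⁻¹ * f * b⁻¹ * f⁻¹ := by rw [← bx]; group
      _ = _ := by rw [fx, inv_inv, bx]; group
  obtain ⟨i, hi⟩ := sl_cent _ h3
  have hx : Act v w (ι (slX ^ i.val)) 1 := h.actL_J (by rw [map_pow, h.ιX]; exact pow_mem h.xJ _)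
  have e : b * ι slF = ι (κ * slF⁻¹) * (ι slF * b) := by rw [map_mul, map_inv, ← hκ]; group
  rcases hi with hi | hi
  · left
    rw [hi] at e
    exact h.bL.act_eq (hH.mul hF) (e ▸ (hx.mul (hF.mul hH)).eq (m2_one_mul _))
  · right
    rw [hi, map_mul, h.ιt] at e
    exact h.bL.act_eq (hH.mul hF) (e ▸ ((hx.mul h.actL_t).eq (m2_one_mul _)).mul (hF.mul hH))

theorem B0 {b : G} (h1 : b ∈ C[J ⊓ C1[t]]) (h2 : b * t = t * b) : b ∈ J ∨ b * t ∈ J ∨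
    (b * ι slF ≠ ι slF * b ∧ b * b * t ∈ J ∧ ∃ e, (e = b * (ι slF * (a * ι slF * a)) ∨
      e = b * (ι slF * (a * ι slF * a)) * t) ∧ Act v w e (-1)) := by
  obtain ⟨F1, F, A, hF, hA, r1, r2, r3, r4, r5, r6⟩ := h.exRel
  obtain ⟨g1, -, g3, g4, g5⟩ := gl0 F1 r1 F r2 r3 r4 A r5 r6
  have bz := (h1 z h.basD.mem_u).symm
  have bx := (h1 _ h.basD.mem_v).symm
  obtain ⟨H, hH⟩ := h.exL (h.NDJ (centralizer_le_normalizer _ h1)) h2
  obtain ⟨H', -, hH', -⟩ := h.bL.act_inv hH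
  have h3 : a * b * a ∈ C[J ⊓ C1[t]] := h.basD.cent_of_act
    (((h.act_a.mul (h.basD.act_of_cent h1)).mul h.act_a).eq (by decide))
  have hR := (hA.mul hF).mul hA
  rcases g5 H (h.B0_f h1 h2 hH hF) (h.B0_f h3 ((Commute.mul_left h.ta h2).mul_left h.ta)
    ((hA.mul hH).mul hA) hF) H' hH' with e | e | e | e
  · exact (h.L2 bz hH e).imp_right Or.inl
  · refine absurd ?_ (h.L3 (Commute.mul_left bz (h.ιz slF)) (hH.mul hF) e)
    calc _ = b * (ι slF * (a * z * a⁻¹) * (ι slF)⁻¹) * b⁻¹ := by group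
      _ = (b * (a * z * a⁻¹) * b⁻¹)⁻¹ := by rw [h.fx]; group
      _ = _ := by rw [bx, mul_inv_cancel_right]
  · refine absurd ?_ (h.L4 (Commute.mul_left bx h.rx) (hH.mul hR) e)
    calc _ = b * (a * ι slF * a * z * (a * ι slF * a)⁻¹) * b⁻¹ := by group
      _ = (b * z * b⁻¹)⁻¹ := by rw [h.rz]; group
      _ = _ := by rw [bz, mul_inv_cancel_right]
  · obtain ⟨k1, -, k3, -⟩ := gl1 F1 r1 H e
    refine Or.inr (Or.inr ⟨fun e' => ?_, h.L1 ((Commute.mul_left bz bz).mul_left h.tz)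
      (((hH.mul hH).mul h.actL_t).eq k1), ?_⟩)
    · have := h.bL.act_eq (hF.mul hH) (e' ▸ hH.mul hF)
      rcases e with rfl | rfl
      exacts [g3 this, g4 this]
    · rcases k3 _ g1 with e' | e'
      · exact ⟨_, Or.inl rfl, (hH.mul (hF.mul hR)).eq e'⟩
      · exact ⟨_, Or.inr rfl, ((hH.mul (hF.mul hR)).mul h.actL_t).eq e'⟩

theorem cent_K {y : G} (h1 : y * z = z * y) (h2 : ∀ σ, y * ι σ = ι σ * y) :
    y ∈ zpowers z ∨ y * t ∈ zpowers z := by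
  have key : ∀ y ∈ J, y * t = t * y → y * ι slF = ι slF * y → y ∈ zpowers z := by
    intro y hy yt yf
    obtain ⟨p, rfl⟩ := (h.basD.mem y).1 ⟨hy, mem_centralizer_singleton_iff.2 yt⟩
    have h3 := h.act_f p
    rw [← yf, mul_inv_cancel_right] at h3
    have h4 := (by decide : ∀ p : V2, p = dF.ap p → p.2 = 0) p (h.basD.injE h3)
    simp only [E, h4, ZMod.val_zero, pow_zero, mul_one]
    exact pow_mem (mem_zpowers z) _
  have yt : y * t = t * y := h.ιt ▸ h2 (-1)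
  have h3 : y ∈ C[J ⊓ C1[t]] := by
    rw [← h.basD.closure, centralizer_closure]
    rintro g (rfl | rfl)
    exacts [h1.symm, h.ιX ▸ (h2 slX).symm]
  rcases h.B0 h3 yt with e | e | e
  · exact Or.inl (key y e yt (h2 slF))
  · exact Or.inr (key _ e (Commute.mul_left yt (Commute.refl t) :)
      (Commute.mul_left (h2 slF) (h.ιt' slF).symm :))
  · exact absurd (h2 slF) e.1

/-- An involution centralising `[J, t]` is not conjugate to `t`. -/
theorem not_conj {s : G} (hs : Act v w s 1) : ¬ IsConj t s := fun hc => by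
  obtain ⟨g, rfl⟩ := isConj_iff.1 hc
  have h1 : cj g⁻¹ Λ ≤ C1[t] := by
    rw [← le_cj_iff_cj_inv_le, cj_centralizer_singleton]
    exact mem_centralizer_iff_le.1 (h.bL.cent_of_act hs)
  obtain ⟨c, -, h2⟩ := exists_cj_le_syl h.sylD h1
    (isPGroup_cj ((h.pS.to_le h.JS).to_le h.ΛJ) g⁻¹)
  have h3 := eq_of_le_of_card_ge h2 (by rw [card_cj, card_cj, h.bL.card, h.basD.card])
  have h4 := h3.ge h.basD.mem_u
  rw [cj_cj, mem_cj] at h4
  obtain ⟨h5, h6⟩ := (h.hL _).1 h4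
  have h7 : (c * g⁻¹)⁻¹ * z * (c * g⁻¹) ∈ C1[t] := by
    rcases h.fusion h5 (g := (c * g⁻¹)⁻¹) (by rw [inv_inv]) (norm_of_inv h6) with e | e
    exacts [(zpowers_le.2 h.basD.mem_u e).2, (zpowers_le.2 h.basD.mem_v e).2]
  rw [← mem_centralizer_singleton_iff.1 h7, mul_inv_cancel_right] at h6
  have h8 := eq_one_of_sq_cube (by nth_rewrite 1 [h6]; exact inv_mul_cancel _) (h.Je _ h5)
  exact h.z1 (by simpa [mul_assoc] using congrArg (fun y => (c * g⁻¹) * y * (c * g⁻¹)⁻¹) h8)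

theorem inv_J {e : G} (h1 : Act z (a * z * a⁻¹) e (-1)) (h2 : Act v w e (-1))
    (h3 : e * t = t * e) : e * e = 1 := by
  have h4 := h.memD (h1.mul h1) (by decide) (h2.mul h2) (by decide) (Commute.mul_left h3 h3 :)
  have h5 := h.basD.inv_of_act h1 h4
  rw [show e * (e * e) * e⁻¹ = e * e by group] at h5
  exact eq_one_of_sq_cube (by nth_rewrite 1 [h5]; exact inv_mul_cancel _) (h.Je _ h4.1)

end Su

end Cfsg.Agent.H67.T3
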