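import Cfsg.Agent.H67.T3D

/-! The 3-local characterisation of McL: the normaliser of `⟨z⟩` in `C(t)`. -/

set_option autoImplicit false

namespace Cfsg.Agent.H67.T3

open Subgroup Equiv Cfsg Cfsg.Agent.H63 Cfsg.Agent.H67 Cfsg.Agent.H91

variable {G : Type*} [Group G]

theorem mem_zp2 {t g : G} (h : t * t = 1) : g ∈ zpowers t ↔ g = 1 ∨ g = t := by
  constructor
  · rintro ⟨k, rfl⟩
    have h3 : t ^ (2 : ℤ) = 1 := by rw [zpow_two, h]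
    have e : t ^ k = t ^ (k % 2) := by
      conv_lhs => rw [← Int.emod_add_mul_ediv k 2, zpow_add, zpow_mul, h3, one_zpow, mul_one]
    have : k % 2 = 0 ∨ k % 2 = 1 := by omega
    show t ^ k = 1 ∨ t ^ k = t
    rcases this with a | a <;> rw [e, a] <;> simp
  · rintro (rfl | rfl)
    exacts [one_mem _, mem_zpowers _]

theorem pow_fin_add {u : G} (h : u ^ 3 = 1) (i j : Fin 3) :
    u ^ (i + j).val = u ^ i.val * u ^ j.val := pow_val_add h i j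

theorem pow_fin_neg {u : G} (h : u ^ 3 = 1) (i : Fin 3) : u ^ (-i).val = (u ^ i.val)⁻¹ :=
  eq_inv_of_mul_eq_one_left (by rw [← pow_fin_add h, neg_add_cancel]; simp)

theorem zp_fin {u c : G} (h : u ^ 3 = 1) (hc : c ∈ zpowers u) : ∃ i : Fin 3, c = u ^ i.val := by
  rcases (mem_zp3 h).1 hc with e | e | e
  · exact ⟨0, by simp [e]⟩
  · exact ⟨1, by simp [e]⟩
  · exact ⟨2, by rw [e, inv_of_cube h]; exact (sq u).symm⟩

theorem sign_cases {α : Type*} [Fintype α] [DecidableEq α] {σ : Perm α} (h : Perm.sign σ ≠ 1) :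
    Perm.sign σ = -1 := (Int.units_eq_one_or _).resolve_left h

variable {S J Q : Subgroup G} {z : G} {ΓL : Subgroup (SL25 × G)}
  {ΓM : Subgroup (Perm (Fin 6) × G)} {t f1 a : G} {ι : SL25 →* G} {Λ : Subgroup G} {v w : G}

namespace Su

variable [Finite G] (h : Su S J Q z ΓL ΓM t f1 a ι Λ v w)
include h

omit [Finite G] in
theorem ιN (σ : SL25) : ι σ ∈ C1[t] ⊓ N[zpowers z] :=
  ⟨mem_centralizer_singleton_iff.2 (h.ιt' σ), norm_of_comm (h.ιz σ)⟩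

theorem rN : a * ι slF * a ∈ C1[t] ⊓ N[zpowers z] :=
  ⟨mem_centralizer_singleton_iff.2 h.rt, norm_of_inv h.rz⟩

theorem zN : z ∈ C1[t] ⊓ N[zpowers z] :=
  ⟨mem_centralizer_singleton_iff.2 h.tz.symm, norm_of_comm rfl⟩

theorem exists_theta : ∃ (Θ : Subgroup (Perm (Fin 5) × G)) (K : Subgroup G),
    Gr Θ (C1[t] ⊓ N[zpowers z]) K ∧ (∀ y, y ∈ C1[t] ⊓ N[zpowers z] →
      (y ∈ K ↔ ∀ σ, y * ι σ = ι σ * y)) ∧
    ∀ τ, Perm.sign τ = 1 ↔ ∃ σ, (τ, ι σ) ∈ Θ := by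
  let ι' : SL25 →* ↥(C1[t] ⊓ N[zpowers z]) := ι.codRestrict _ h.ιN
  have : ι'.range.Normal := ⟨by
    rintro _ ⟨σ, rfl⟩ n
    obtain ⟨κ, hκ⟩ := h.norm_ι (mem_centralizer_singleton_iff.1 n.2.1) n.2.2 σ
    exact ⟨κ, Subtype.ext hκ.symm⟩⟩
  obtain ⟨φ, h1, h2⟩ := exists_hom_perm_five ι' fun _ _ e => h.inj (congrArg Subtype.val e)
  obtain ⟨Θ, hΘ, e⟩ := exists_gr φ (K := φ.ker.map (Subgroup.subtype _))
    (fun y => ⟨fun hy => ⟨y, hy, rfl⟩, fun ⟨y', hy, e⟩ => Subtype.ext e ▸ hy⟩) (map_subtype_le _)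
  have h3 : ∀ τ, Perm.sign τ = 1 ↔ ∃ σ, (τ, ι σ) ∈ Θ := fun τ => by
    rw [← Perm.mem_alternatingGroup, ← h1]
    exact exists_congr fun σ => ⟨fun e' => (e _ _).2 ⟨h.ιN σ, e'⟩, fun e' => ((e _ _).1 e').2⟩
  refine ⟨Θ, _, hΘ, fun y hy => ⟨?_, fun hc => ?_⟩, h3⟩
  · rintro ⟨n, hn, rfl⟩ σ
    exact congrArg Subtype.val (h2 n hn σ)
  · obtain ⟨τ, hτ⟩ := hΘ.ex hy
    have : ∀ κ, Perm.sign κ = 1 → τ * κ = κ * τ := fun κ hκ => by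
      obtain ⟨σ, hσ⟩ := (h3 κ).1 hκ
      exact hΘ.eq (pmul hτ hσ) (hc σ ▸ pmul hσ hτ)
    exact hΘ.memK hτ (s5_cent τ (this _ (by decide)) (this _ (by decide)))

theorem exists_sigma (hr : ∀ n ∈ C1[t] ⊓ N[zpowers z], ∃ c ∈ zpowers z, ∃ κ,
      n * (a * ι slF * a) * n⁻¹ = a * ι slF * a * c * ι κ) :
    ∃ Γ : Subgroup (Perm (Fin 3) × G), (∀ n ∈ C1[t] ⊓ N[zpowers z], ∃ σ, (σ, n) ∈ Γ) ∧
      (∀ σ, (σ, 1) ∈ Γ → σ = 1) ∧ (c3, z) ∈ Γ ∧ ∀ κ, (1, ι κ) ∈ Γ := by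
  have rN := h.rN
  have rz := h.rz
  generalize a * ι slF * a = r at *
  have nm : ∀ n ∈ C1[t] ⊓ N[zpowers z], ∀ σ, ∃ κ, n * ι σ * n⁻¹ = ι κ := fun n hn =>
    h.norm_ι (mem_centralizer_singleton_iff.1 hn.1) hn.2
  let Γ : Subgroup (Perm (Fin 3) × G) := ⟨⟨⟨{p | p.2 ∈ C1[t] ⊓ N[zpowers z] ∧ ∀ i : Fin 3, ∃ κ,
      p.2 * (r * z ^ i.val) * p.2⁻¹ = r * z ^ (p.1 i).val * ι κ}, by
    rintro ⟨σ, n⟩ ⟨σ', n'⟩ ⟨a1, a2⟩ ⟨b1, b2⟩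
    refine ⟨mul_mem a1 b1, fun i => ?_⟩
    obtain ⟨κ, hκ⟩ := b2 i
    obtain ⟨κ', hκ'⟩ := a2 (σ' i)
    obtain ⟨κ'', hκ''⟩ := nm n a1 κ
    refine ⟨κ' * κ'', ?_⟩
    dsimp only at hκ hκ' ⊢
    calc n * n' * (r * z ^ i.val) * (n * n')⁻¹ = n * (n' * (r * z ^ i.val) * n'⁻¹) * n⁻¹ := by group
      _ = n * (r * z ^ (σ' i).val) * n⁻¹ * (n * ι κ * n⁻¹) := by rw [hκ]; group
      _ = _ := by rw [hκ', hκ'', map_mul, mul_assoc]; rfl⟩,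
    one_mem _, fun i => ⟨1, by simp⟩⟩, by
    rintro ⟨σ, n⟩ ⟨a1, a2⟩
    refine ⟨inv_mem a1, fun i => ?_⟩
    obtain ⟨κ, hκ⟩ := a2 (σ⁻¹ i)
    obtain ⟨κ', hκ'⟩ := nm n⁻¹ (inv_mem a1) κ⁻¹
    refine ⟨κ', ?_⟩
    dsimp only at hκ
    rw [show σ (σ⁻¹ i) = i by simp] at hκ
    rw [map_inv] at hκ'
    calc n⁻¹ * (r * z ^ i.val) * n⁻¹⁻¹
        = n⁻¹ * (r * z ^ i.val * ι κ) * n * (n⁻¹ * (ι κ)⁻¹ * n⁻¹⁻¹) := by group
      _ = _ := by rw [← hκ, hκ']; simp [mul_assoc]⟩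
  have hΓ : ∀ σ n, (σ, n) ∈ Γ ↔ n ∈ C1[t] ⊓ N[zpowers z] ∧ ∀ i : Fin 3, ∃ κ,
      n * (r * z ^ i.val) * n⁻¹ = r * z ^ (σ i).val * ι κ := fun _ _ => Iff.rfl
  refine ⟨Γ, fun n hn => ?_, fun σ hσ => ?_, (hΓ _ _).2 ⟨h.zN, fun i => ⟨1, ?_⟩⟩,
    fun κ => (hΓ _ _).2 ⟨h.ιN κ, fun i => ?_⟩⟩
  · obtain ⟨c, hc, κ, e⟩ := hr n hn
    obtain ⟨j, rfl⟩ := zp_fin h.z3 hc
    have key : ∀ i k : Fin 3, n * z ^ i.val * n⁻¹ = z ^ k.val →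
        n * (r * z ^ i.val) * n⁻¹ = r * z ^ (j + k).val * ι κ := fun i k e' => by
      have := (Commute.pow_right (h.ιz κ) k.val).eq
      calc _ = n * r * n⁻¹ * (n * z ^ i.val * n⁻¹) := by group
        _ = r * z ^ j.val * (ι κ * z ^ k.val) := by rw [e, e']; group
        _ = _ := by rw [this, pow_fin_add h.z3]; group
    rcases conj_cases h.z3 h.z1 hn.2 with e' | e'
    · exact ⟨Equiv.addLeft j, (hΓ _ _).2 ⟨hn, fun i => ⟨κ, key i i (by rw [← conj_pow, e'])⟩⟩⟩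
    · exact ⟨Equiv.addLeft j * Equiv.neg _, (hΓ _ _).2 ⟨hn, fun i => ⟨κ, key i (-i)
        (by rw [← conj_pow, e', pow_fin_neg h.z3, inv_pow])⟩⟩⟩
  · ext i
    obtain ⟨κ, e⟩ := ((hΓ _ _).1 hσ).2 i
    rw [one_mul, inv_one, mul_one, mul_assoc, mul_right_inj] at e
    have e1 : ι κ ∈ zpowers z := by
      rw [eq_inv_mul_of_mul_eq e.symm]
      exact mul_mem (inv_mem (pow_mem (mem_zpowers z) _)) (pow_mem (mem_zpowers z) _)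
    rw [h.ιZ κ e1, map_one, mul_one, pow_eq_pow_iff_modEq, orderOf_eq_prime h.z3 h.z1] at e
    exact (Nat.ModEq.eq_of_lt_of_lt e i.2 (σ i).2).symm
  · have e1 : z * r = r * z⁻¹ := by
      calc z * r = (r * z * r⁻¹)⁻¹ * r := by rw [rz, inv_inv]
        _ = _ := by group
    rw [map_one, mul_one, show c3 i = i + 1 from rfl, pow_fin_add h.z3, ← mul_assoc, e1,
      show ((1 : Fin 3) : ℕ) = 1 from rfl, pow_one]
    calc r * z⁻¹ * z ^ i.val * z⁻¹ = r * (z ^ i.val * (z * (z ^ 3)⁻¹)) := by group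
      _ = _ := by rw [h.z3]; simp
  · obtain ⟨κ', e⟩ := nm _ (inv_mem (mul_mem rN (pow_mem h.zN i.val))) κ
    refine ⟨κ' * κ⁻¹, ?_⟩
    rw [map_mul, map_inv, ← e, Perm.one_apply]
    group

theorem exists_Phi : ∃ Φ : Subgroup ((Perm (Fin 3) × Perm (Fin 5)) × G),
    Gr Φ (C1[t] ⊓ N[zpowers z]) (zpowers t) ∧
    (∀ σ τ n, ((σ, τ), n) ∈ Φ → (n * z = z * n ↔ Perm.sign σ = 1)) ∧ ((c3, 1), z) ∈ Φ ∧
    (∀ τ, Perm.sign τ = 1 → ∃ n, ((1, τ), n) ∈ Φ) ∧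
    (∃ τ, ((1, τ), ι slF) ∈ Φ ∧ Perm.sign τ = 1) ∧
    (∃ σ τ, ((σ, τ), a * ι slF * a) ∈ Φ ∧ Perm.sign σ = -1 ∧ Perm.sign τ = -1) ∧
    ((∀ b ∈ C[J ⊓ C1[t]], b * t = t * b → b ∈ J ∨ b * t ∈ J) →
      ∀ σ τ n, ((σ, τ), n) ∈ Φ → Perm.sign σ = 1 → Perm.sign τ = 1) ∧
    ∀ b ∈ C[J ⊓ C1[t]], b * t = t * b → b ∉ J → b * t ∉ J →
      ∃ σ τ, ((σ, τ), b) ∈ Φ ∧ Perm.sign σ = 1 ∧ Perm.sign τ = -1 := by
  obtain ⟨Θ, K, hΘ, hK, ev⟩ := h.exists_theta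
  have θz : (1, z) ∈ Θ := (hΘ.ker z).2 ((hK z h.zN).2 fun σ => (h.ιz σ).symm)
  have θt : (1, t) ∈ Θ := (hΘ.ker t).2 ((hK t ⟨mem_centralizer_singleton_self t, norm_of_comm h.tz⟩).2 fun σ => (h.ιt' σ).symm)
  have θZ : ∀ c ∈ zpowers z, (1, c) ∈ Θ := fun c hc => by
    obtain ⟨i, rfl⟩ := zp_fin h.z3 hc
    simpa using ppow θz i.val
  have kerC : ∀ y, (1, y) ∈ Θ → y * z = z * y → y ∈ zpowers z ∨ y * t ∈ zpowers z :=
    fun y hy e => h.cent_K e ((hK y (hΘ.mem hy)).1 ((hΘ.ker y).1 hy))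
  have evenC : ∀ τ y, (τ, y) ∈ Θ → y * z = z * y → Perm.sign τ = 1 →
      ∃ c ∈ zpowers z, ∃ κ, y = c * ι κ := fun τ y hy e hs => by
    obtain ⟨κ, hκ⟩ := (ev τ).1 hs
    have h1 := pmul hy (pinv hκ)
    rw [mul_inv_cancel] at h1
    rcases kerC _ h1 (Commute.mul_left e (Commute.inv_left (h.ιz κ))) with e' | e'
    · exact ⟨_, e', κ, by group⟩
    · refine ⟨_, e', -1 * κ, ?_⟩
      rw [map_mul, h.ιt]
      calc y = y * (ι κ)⁻¹ * (t * t) * ι κ := by rw [h.tt]; group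
        _ = _ := by group
  obtain ⟨τr, θr⟩ := hΘ.ex h.rN
  obtain ⟨u, θx⟩ := hΘ.ex (h.ιX ▸ h.ιN slX)
  have u3 : u ^ 3 = 1 := hΘ.fn _ (h.Je _ h.xJ ▸ ppow θx 3)
  have u1 : u ≠ 1 := fun e => h.xne (by
    rw [← h.fx, ← (hK _ (hΘ.mem θx)).1 (hΘ.memK θx e) slF, mul_inv_cancel_right])
  obtain ⟨⟨τ0, τ0u, τ0s⟩, cu⟩ := s5_three u u3 u1
  have evx : ∀ τ b, (τ, b) ∈ Θ → b * (a * z * a⁻¹) = a * z * a⁻¹ * b → Perm.sign τ = 1 →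
      ∃ j ∈ J ⊓ C1[t], (1, b * j) ∈ Θ := fun τ b hb e hs => by
    obtain ⟨i, hi⟩ := cu τ (hΘ.eq (pmul hb θx) (e ▸ pmul θx hb)) hs
    have := pmul hb (pinv (ppow θx i.val))
    rw [← hi, mul_inv_cancel] at this
    exact ⟨_, inv_mem (pow_mem h.basD.mem_v _), this⟩
  have sr : Perm.sign τr = -1 := sign_cases fun hs => by
    obtain ⟨j, hj, e⟩ := evx _ _ θr h.rx hs
    exact h.fr_ne hj.1 ((hK _ (hΘ.mem e)).1 ((hΘ.ker _).1 e) slF).symm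
  obtain ⟨Γ, dom, fn, σz, σι⟩ := h.exists_sigma fun n hn => by
    obtain ⟨τ, hτ⟩ := hΘ.ex hn
    suffices H : (a * ι slF * a)⁻¹ * (n * (a * ι slF * a) * n⁻¹) * z =
        z * ((a * ι slF * a)⁻¹ * (n * (a * ι slF * a) * n⁻¹)) by
      obtain ⟨c, hc, κ, e⟩ := evenC _ _ (pmul (pinv θr) (pconj hτ θr)) H (by
        simp only [map_mul, map_inv, sr]
        rcases Int.units_eq_one_or (Perm.sign τ) with e | e <;> rw [e] <;> decide)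
      exact ⟨c, hc, κ, by rw [mul_assoc _ c, ← e]; group⟩
    · have rz := h.rz
      generalize a * ι slF * a = r at *
      have rz' : r⁻¹ * z⁻¹ * r = z := by rw [← rz]; group
      have : n * r * n⁻¹ * z * (n * r * n⁻¹)⁻¹ = z⁻¹ := by
        rcases conj_cases h.z3 h.z1 hn.2 with e | e
        · calc _ = n * r * n⁻¹ * (n * z * n⁻¹) * (n * r * n⁻¹)⁻¹ := by rw [e]
            _ = n * (r * z * r⁻¹) * n⁻¹ := by group
            _ = (n * z * n⁻¹)⁻¹ := by rw [rz]; group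
            _ = _ := by rw [e]
        · calc _ = n * r * n⁻¹ * (n * z * n⁻¹)⁻¹ * (n * r * n⁻¹)⁻¹ := by rw [e, inv_inv]
            _ = n * (r * z * r⁻¹)⁻¹ * n⁻¹ := by group
            _ = _ := by rw [rz, inv_inv, e]
      calc _ = r⁻¹ * (n * r * n⁻¹ * z * (n * r * n⁻¹)⁻¹) * r * (r⁻¹ * (n * r * n⁻¹)) := by group
        _ = _ := by rw [this, rz']
  have eqσ : ∀ {σ σ' n}, (σ, n) ∈ Γ → (σ', n) ∈ Γ → σ = σ' := fun a b => by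
    have := pmul a (pinv b)
    rw [mul_inv_cancel] at this
    exact mul_inv_eq_one.1 (fn _ this)
  let Φ : Subgroup ((Perm (Fin 3) × Perm (Fin 5)) × G) :=
    Γ.comap ((MonoidHom.fst _ _).prodMap (MonoidHom.id G)) ⊓
      Θ.comap ((MonoidHom.snd _ _).prodMap (MonoidHom.id G))
  have hΦ : ∀ σ τ n, ((σ, τ), n) ∈ Φ ↔ (σ, n) ∈ Γ ∧ (τ, n) ∈ Θ := fun _ _ _ => Iff.rfl
  have dom' : ∀ {τ n}, (τ, n) ∈ Θ → ∃ σ, ((σ, τ), n) ∈ Φ := fun hn =>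
    let ⟨σ, hσ⟩ := dom _ (hΘ.mem hn); ⟨σ, hσ, hn⟩
  have sgn : ∀ σ τ n, ((σ, τ), n) ∈ Φ → (n * z = z * n ↔ Perm.sign σ = 1) := by
    intro σ τ n hn
    obtain ⟨h1, h2⟩ := (hΦ _ _ _).1 hn
    have h3 := pconj h1 σz
    rcases conj_cases h.z3 h.z1 (hΘ.mem h2).2 with e | e
    · exact iff_of_true (mul_inv_eq_iff_eq_mul.1 e) ((s3_facts σ).1 (eqσ h3 (e.symm ▸ σz)))
    · refine iff_of_false (fun e' => h.zne ?_) ?_
      · rw [← e]; exact mul_inv_eq_iff_eq_mul.2 e'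
      · rw [(s3_facts σ).2.1 (eqσ h3 (e.symm ▸ pinv σz))]; decide
  have σt : (1, t) ∈ Γ := h.ιt ▸ σι (-1)
  have kerσ : ∀ c ∈ zpowers z, (1, c) ∈ Γ → c = 1 := fun c hc e => by
    rcases (mem_zp3 h.z3).1 hc with rfl | rfl | rfl
    · rfl
    · exact absurd (eqσ e σz) (by decide)
    · exact absurd (eqσ e (pinv σz)) (by decide)
  refine ⟨Φ, ⟨fun y => ⟨fun hy => ?_, fun ⟨p, hp⟩ => hΘ.mem hp.2⟩,
    fun p hp => Prod.ext (fn _ hp.1) (hΘ.fn _ hp.2), fun y => ⟨fun hy => ?_, fun hy => ?_⟩⟩, sgn,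
    ⟨σz, θz⟩, fun τ hτ => ?_, ?_, ?_, fun hB σ τ n hn hs => ?_, fun b hb bt b1 b2 => ?_⟩
  · obtain ⟨τ, hτ⟩ := hΘ.ex hy
    obtain ⟨σ, hσ⟩ := dom' hτ
    exact ⟨_, hσ⟩
  · rw [mem_zp2 h.tt]
    rcases kerC y hy.2 ((sgn 1 1 y hy).2 (map_one _)) with e | e
    · exact Or.inl (kerσ y e hy.1)
    · have := kerσ _ e (by simpa using pmul ((hΦ 1 1 y).1 hy).1 σt)
      exact Or.inr (by rw [eq_inv_of_mul_eq_one_left this, h.ti])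
  · rcases (mem_zp2 h.tt).1 hy with rfl | rfl
    exacts [one_mem _, ⟨σt, θt⟩]
  · obtain ⟨κ, hκ⟩ := (ev τ).1 hτ
    exact ⟨_, σι κ, hκ⟩
  · obtain ⟨τ, hτ⟩ := hΘ.ex (h.ιN slF)
    exact ⟨τ, ⟨σι slF, hτ⟩, (ev τ).2 ⟨_, hτ⟩⟩
  · obtain ⟨σ, hσ⟩ := dom' θr
    refine ⟨σ, τr, hσ, sign_cases fun e => h.zne ?_, sr⟩
    rw [← h.rz]; exact mul_inv_eq_iff_eq_mul.2 ((sgn _ _ _ hσ).2 e)
  · by_contra hτ
    obtain ⟨κ, hκ⟩ := (ev (τ0 * τ⁻¹)).1 (by rw [map_mul, map_inv, τ0s, sign_cases hτ]; decide)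
    have h1 := pmul hκ ((hΦ _ _ _).1 hn).2
    rw [inv_mul_cancel_right] at h1
    have bN := hΘ.mem h1
    have bz : ι κ * n * z = z * (ι κ * n) := (Commute.mul_left (h.ιz κ) ((sgn _ _ _ hn).2 hs) :)
    generalize ι κ * n = b at h1 bN bz
    obtain ⟨κ', e⟩ := h.norm_ι (mem_centralizer_singleton_iff.1 bN.1) bN.2 slX
    have h2 := pmul (pconj h1 θx) (pinv θx)
    rw [τ0u, mul_inv_cancel_right, mul_inv_cancel, ← h.ιX, e, ← map_inv, ← map_mul] at h2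
    have k3 : κ' ^ 3 = 1 := h.inj (by
      rw [map_pow, ← e, conj_pow, ← map_pow, slX_pow]; simp)
    have h3 : κ' = slX := by
      rcases kerC _ h2 (h.ιz _) with e' | e'
      · exact mul_inv_eq_one.1 (h.ιZ _ e')
      · rw [← h.ιt, ← map_mul] at e'
        have := h.ιZ _ e'
        rw [show κ' = -slX by
          calc κ' = -(κ' * slX⁻¹ * -1) * slX := by simp
            _ = -slX := by rw [this]; simp] at k3
        exact absurd k3 (by decide)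
    rw [h3, h.ιX] at e
    have h4 : b ∈ C[J ⊓ C1[t]] := by
      rw [← h.basD.closure, centralizer_closure]
      rintro g (rfl | rfl)
      exacts [bz.symm, (mul_inv_eq_iff_eq_mul.1 e).symm]
    have h5 : ∀ τ y, (τ, y) ∈ Θ → y ∈ J → Perm.sign τ = 1 := fun τ y hy e =>
      sign_of_cube (hΘ.fn _ (h.Je y e ▸ ppow hy 3))
    rcases hB b h4 (mem_centralizer_singleton_iff.1 bN.1) with e' | e'
    · exact absurd ((h5 _ _ h1 e').symm.trans τ0s) (by decide)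
    · exact absurd ((h5 τ0 _ (by simpa using pmul h1 θt) e').symm.trans τ0s) (by decide)
  · have bz := (hb z h.basD.mem_u).symm
    obtain ⟨τ, hτ⟩ := hΘ.ex ⟨mem_centralizer_singleton_iff.2 bt, norm_of_comm bz⟩
    obtain ⟨σ, hσ⟩ := dom' hτ
    refine ⟨σ, τ, hσ, (sgn _ _ _ hσ).1 bz, sign_cases fun hs => ?_⟩
    obtain ⟨j, hj, e⟩ := evx _ _ hτ (hb _ h.basD.mem_v).symm hs
    rcases kerC _ e (Commute.mul_left bz (h.Jc _ hj.1 _ h.zJ)) with e' | e'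
    · exact b1 (by simpa using mul_mem (h.ZJ e') (inv_mem hj.1))
    · refine b2 ?_
      rw [mul_assoc, mem_centralizer_singleton_iff.1 hj.2, ← mul_assoc] at e'
      simpa using mul_mem (h.ZJ e') (inv_mem hj.1)

end Su

end Cfsg.Agent.H67.T3
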