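import Cfsg.Agent.H67.T3E
import Cfsg.Agent.H9.Dihedral
import Cfsg.Prelude.Def_Local

/-! The 3-local characterisation of McL: the group `C(t)/⟨t⟩`. -/

set_option autoImplicit false
set_option linter.unusedVariables false

namespace Cfsg.Agent.H67.T3

open Subgroup Equiv Cfsg Cfsg.Agent.H63 Cfsg.Agent.H67

universe u

/-- The statement of row 3329. -/
def S3329Stmt : Prop := ∀ {G : Type u} [Group G] [Finite G]
    (P : Sylow 3 G) (D : Subgroup G) (hDP : D = P) (y z : G) (hgen : Subgroup.closure {y, z} = D)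
    (hcomm : IsMulCommutative D) (hcard : Nat.card D = 9) (hexp : ∀ a ∈ D, a ^ 3 = 1)
    (hC : Subgroup.centralizer (D : Set G) = D)
    (eN : Subgroup.normalizer (D : Set G) ⧸ D.subgroupOf (Subgroup.normalizer (D : Set G)) ≃* DihedralGroup 4)
    (hyn : (D.subgroupOf (Subgroup.centralizer ({y} : Set G))).Normal)
    (hycard : Nat.card (Subgroup.centralizer ({y} : Set G)) = 18)
    (Ny : Subgroup G) (hNy : Ny = Subgroup.normalizer (Subgroup.zpowers y : Set G))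
    (hyN : D ≤ Ny) [hyNn : (D.subgroupOf Ny).Normal]
    (hyNcard : Nat.card (Ny ⧸ D.subgroupOf Ny) = 4) (hyNexp : ∀ g : Ny ⧸ D.subgroupOf Ny, g ^ 2 = 1)
    (eC : Subgroup.centralizer ({z} : Set G) ≃* Multiplicative (ZMod 3) × alternatingGroup (Fin 5))
    (eL : Subgroup.normalizer (Subgroup.zpowers z : Set G) ≃*
      (((Equiv.Perm.sign).comp (MonoidHom.fst (Equiv.Perm (Fin 3)) (Equiv.Perm (Fin 5)))) *
        ((Equiv.Perm.sign).comp (MonoidHom.snd (Equiv.Perm (Fin 3)) (Equiv.Perm (Fin 5))))).ker),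
    Nonempty (G ≃* alternatingGroup (Fin 8))

/-- The statement of row 3330. -/
def S3330Stmt : Prop := ∀ {G : Type u} [Group G] [Finite G]
    (P : Sylow 3 G) (D : Subgroup G) (hDP : D = P) (y z : G) (hgen : Subgroup.closure {y, z} = D)
    (hcomm : IsMulCommutative D) (hcard : Nat.card D = 9) (hexp : ∀ a ∈ D, a ^ 3 = 1)
    (hC : Nat.card (Subgroup.centralizer (D : Set G)) = 18)
    (eN : Subgroup.normalizer (D : Set G) ⧸ D.subgroupOf (Subgroup.normalizer (D : Set G)) ≃* DihedralGroup 4 × Multiplicative (ZMod 2))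
    [hcn : ((Subgroup.centralizer (D : Set G)).subgroupOf (Subgroup.normalizer (D : Set G))).Normal]
    (eNC : Subgroup.normalizer (D : Set G) ⧸ (Subgroup.centralizer (D : Set G)).subgroupOf (Subgroup.normalizer (D : Set G)) ≃* DihedralGroup 4)
    (hyn : (D.subgroupOf (Subgroup.centralizer ({y} : Set G))).Normal)
    (hycard : Nat.card (Subgroup.centralizer ({y} : Set G)) = 36)
    (hysq : ∀ g ∈ Subgroup.centralizer ({y} : Set G), g ^ 2 ∈ D)
    (Ny : Subgroup G) (hNy : Ny = Subgroup.normalizer (Subgroup.zpowers y : Set G))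
    (hyNn : (D.subgroupOf Ny).Normal) (hyNcard : Nat.card Ny = 72) (hyNsq : ∀ g ∈ Ny, g ^ 2 ∈ D)
    (eC : Subgroup.centralizer ({z} : Set G) ≃* Multiplicative (ZMod 3) × Equiv.Perm (Fin 5))
    (eL : Subgroup.normalizer (Subgroup.zpowers z : Set G) ≃* Equiv.Perm (Fin 3) × Equiv.Perm (Fin 5)),
    Nonempty (G ≃* Equiv.Perm (Fin 8)) ∨
      ∃ N : Subgroup G, N.Normal ∧ Cfsg.generalizedFittingSubgroup G = N ∧
        Nonempty (N ≃* alternatingGroup (Fin 5) × alternatingGroup (Fin 5)) ∧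
        (∀ K : Subgroup G, K.Normal → K ≤ N → K = ⊥ ∨ K = N) ∧
        N.index = 4 ∧ ∀ g : G, g ^ 2 ∈ N

/-- The dihedral group of order eight as monomial matrices. -/
def GD : DihedralGroup 4 → M2
  | .r i => if i = 0 then 1 else if i = 1 then dF * sw else if i = 2 then -1 else sw * dF
  | .sr i => if i = 0 then dF else if i = 1 then sw else if i = 2 then -dF else -sw

theorem GD_mul : ∀ d e, GD (d * e) = GD d * GD e := by decide
theorem GD_inv : ∀ d n, GD d * n = 1 → n = GD d⁻¹ := by decide +kernel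
theorem GD_inj : ∀ d, GD d = 1 → d = 1 := by decide
theorem GD_mono : ∀ m, Mono m → ∃ d, m = GD d := by decide +kernel

/-- The stabiliser of the vector `(1, 1)`. -/
def V1 : Subgroup (DihedralGroup 4) := ⟨⟨⟨{d | d = 1 ∨ d = .sr 1}, fun {d e} => by
  revert d e; decide⟩, Or.inl rfl⟩, fun {d} => by revert d; decide⟩

/-- The stabiliser of the line through `(1, 1)`. -/
def V4 : Subgroup (DihedralGroup 4) := ⟨⟨⟨{d | d = 1 ∨ d = .sr 1 ∨ d = .r 2 ∨ d = .sr 1 * .r 2},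
  fun {d e} => by revert d e; decide⟩, Or.inl rfl⟩, fun {d} => by revert d; decide⟩

instance : DecidablePred (· ∈ V1) := fun _ => inferInstanceAs (Decidable (_ ∨ _))
instance : DecidablePred (· ∈ V4) := fun _ => inferInstanceAs (Decidable (_ ∨ _))

theorem card_V1 : Nat.card V1 = 2 := by rw [Nat.card_eq_fintype_card]; decide
theorem card_V4 : Nat.card V4 = 4 := by rw [Nat.card_eq_fintype_card]; decide
theorem mem_V1 : ∀ d, d ∈ V1 ↔ (GD d).ap (1, 1) = (1, 1) := by decide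
theorem mem_V4 : ∀ d, d ∈ V4 ↔ (GD d).ap (1, 1) = (1, 1) ∨ (GD d).ap (1, 1) = -(1, 1) := by decide

theorem s5_sq : ∀ τ : Perm (Fin 5), Perm.sign τ = 1 → ∃ α : Perm (Fin 5), Perm.sign α = 1 ∧
    ∃ β : Perm (Fin 5), Perm.sign β = 1 ∧ τ = α ^ 2 * β ^ 2 := by decide +kernel

theorem a5_four : ∀ σ : Perm (Fin 5), Perm.sign σ = 1 → σ ^ 4 = 1 → σ ^ 2 = 1 := by decide +kernel

theorem s3_odd : ∀ σ : Perm (Fin 3), Perm.sign σ = -1 → σ ^ 4 = 1 := by decide

variable {X : Type u} [Group X]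

/-- What is known about `X = C(t)/⟨t⟩`. -/
structure XS (D : Subgroup X) (z x a f : X)
    (Φ : Subgroup ((Perm (Fin 3) × Perm (Fin 5)) × X)) : Prop where
  bas : Bas D z x
  syl : IsSyl 3 D ⊤
  aa : Act z x a sw
  af : Act z x f dF
  mono : ∀ g m, Act z x g m → Mono m
  Cy : C1[z * x] ≤ N[D]
  a2 : a * a = 1
  f2 : f * f = 1
  c2 : f * (a * f * a) * (f * (a * f * a)) ∈ D
  ac2 : a * (f * (a * f * a)) * (a * (f * (a * f * a))) ∈ D
  gr : Gr Φ N[zpowers z] ⊥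
  sg : ∀ σ τ n, ((σ, τ), n) ∈ Φ → (n * z = z * n ↔ Perm.sign σ = 1)
  pz : ((c3, 1), z) ∈ Φ
  ev : ∀ τ, Perm.sign τ = 1 → ∃ n, ((1, τ), n) ∈ Φ
  pf : ∃ τ, ((1, τ), f) ∈ Φ ∧ Perm.sign τ = 1
  od : ∃ σ τ, ((σ, τ), a * f * a) ∈ Φ ∧ Perm.sign σ = -1 ∧ Perm.sign τ = -1

variable {D : Subgroup X} {z x a f : X} {Φ : Subgroup ((Perm (Fin 3) × Perm (Fin 5)) × X)}

theorem a3_equiv : Nonempty (alternatingGroup (Fin 3) ≃* Multiplicative (ZMod 3)) :=
  ⟨mulEquivOfPrimeCardEq (p := 3) (by rw [Nat.card_eq_fintype_card]; decide) (by simp)⟩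

namespace XS

variable [Finite X] (h : XS D z x a f Φ)
include h

omit [Finite X] in
theorem ac : Act z x (f * (a * f * a)) (-1) :=
  (h.af.mul ((h.aa.mul h.af).mul h.aa)).eq (by decide)

omit [Finite X] in
theorem DC' : D ≤ C[D] := fun _ hg => mem_centralizer_iff.2 fun _ hb => h.bas.commute hb hg

theorem exists_delta : ∃ Δ : Subgroup (DihedralGroup 4 × X), Gr Δ N[D] C[D] ∧
    (∀ d g, (d, g) ∈ Δ ↔ Act z x g (GD d)) ∧ ∀ d, ∃ g, (d, g) ∈ Δ := by
  let Δ : Subgroup (DihedralGroup 4 × X) := ⟨⟨⟨{p | Act z x p.2 (GD p.1)}, fun {p q} hp hq =>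
    (Act.mul hp hq).eq (GD_mul _ _).symm⟩, act_one z x⟩, fun {p} hp => by
      obtain ⟨n, h1, h2, -⟩ := h.bas.act_inv hp
      exact h1.eq (GD_inv _ _ h2)⟩
  have hΔ : ∀ d g, (d, g) ∈ Δ ↔ Act z x g (GD d) := fun _ _ => Iff.rfl
  have h1 : (DihedralGroup.sr 0, f) ∈ Δ := h.af
  have h2 : (DihedralGroup.sr 1, a) ∈ Δ := h.aa
  refine ⟨Δ, ⟨fun g => ⟨fun hg => ?_, fun ⟨d, hd⟩ => h.bas.norm_of_act hd⟩,
    fun d hd => GD_inj d (h.bas.act_eq hd (act_one z x)),
    fun g => ⟨h.bas.cent_of_act, h.bas.act_of_cent⟩⟩, hΔ, fun d => ?_⟩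
  · obtain ⟨m, hm⟩ := h.bas.ex_act hg
    obtain ⟨d, rfl⟩ := GD_mono m (h.mono g m hm)
    exact ⟨d, hm⟩
  · obtain ⟨i, e | e⟩ := (by decide : ∀ d : DihedralGroup 4, ∃ i : Fin 4,
      d = (.sr 0 * .sr 1) ^ i.val ∨ d = .sr 0 * (.sr 0 * .sr 1) ^ i.val) d
    · exact ⟨_, e ▸ ppow (pmul h1 h2) _⟩
    · exact ⟨_, e ▸ pmul h1 (ppow (pmul h1 h2) _)⟩

omit [Finite X] in
theorem y3 : (z * x) ^ 3 = 1 := h.bas.cube (mul_mem h.bas.mem_u h.bas.mem_v)

omit [Finite X] in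
theorem y1 : z * x ≠ 1 := fun e => absurd (h.bas.inj (1, 1) (E_11 z x ▸ e)) (by decide)

theorem Ny : N[zpowers (z * x)] ≤ N[D] := fun g hg => by
  rcases conj_cases h.y3 h.y1 hg with e | e
  · exact h.Cy (mem_centralizer_singleton_iff.2 (mul_inv_eq_iff_eq_mul.1 e))
  · have h1 := h.bas.inv_of_act h.ac (mul_mem h.bas.mem_u h.bas.mem_v)
    have h2 := h.bas.norm_of_act h.ac
    generalize f * (a * f * a) = c at h1 h2
    have h3 : c * g ∈ C1[z * x] := mem_centralizer_singleton_iff.2 (mul_inv_eq_iff_eq_mul.1 (by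
      calc c * g * (z * x) * (c * g)⁻¹ = c * (g * (z * x) * g⁻¹) * c⁻¹ := by group
        _ = (c * (z * x) * c⁻¹)⁻¹ := by rw [e]; group
        _ = _ := by rw [h1, inv_inv]))
    simpa using mul_mem (inv_mem h2) (h.Cy h3)

theorem cards : Nat.card C1[z * x] = 2 * Nat.card C[D] ∧
    Nat.card N[zpowers (z * x)] = 4 * Nat.card C[D] ∧ Nat.card N[D] = 8 * Nat.card C[D] := by
  obtain ⟨Δ, hΔ, e, sur⟩ := h.exists_delta
  refine ⟨?_, ?_, ?_⟩
  · rw [hΔ.card (V := V1) (fun g => ⟨fun hg => ?_, fun ⟨d, h1, h2⟩ => ?_⟩) fun d _ => sur d,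
      card_V1]
    · obtain ⟨d, hd⟩ := hΔ.ex (h.Cy hg)
      refine ⟨d, (mem_V1 d).2 (h.bas.injE ?_), hd⟩
      rw [← (e _ _).1 hd, E_11, mem_centralizer_singleton_iff.1 hg, mul_inv_cancel_right]
    · have := (e _ _).1 h2 (1, 1)
      rw [(mem_V1 d).1 h1, E_11] at this
      exact mem_centralizer_singleton_iff.2 (mul_inv_eq_iff_eq_mul.1 this)
  · rw [hΔ.card (V := V4) (fun g => ⟨fun hg => ?_, fun ⟨d, h1, h2⟩ => ?_⟩) fun d _ => sur d,
      card_V4]
    · obtain ⟨d, hd⟩ := hΔ.ex (h.Ny hg)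
      refine ⟨d, (mem_V4 d).2 ((conj_cases h.y3 h.y1 hg).imp (fun e' => h.bas.injE ?_)
        fun e' => h.bas.injE ?_), hd⟩
      · rw [← (e _ _).1 hd, E_11, e']
      · rw [← (e _ _).1 hd, h.bas.neg, E_11, e']
    · have := (e _ _).1 h2 (1, 1)
      rcases (mem_V4 d).1 h1 with e' | e'
      · rw [e', E_11] at this
        exact norm_of_comm (mul_inv_eq_iff_eq_mul.1 this)
      · rw [e', h.bas.neg, E_11] at this
        exact norm_of_inv this
  · rw [hΔ.card (V := ⊤) (fun g => (hΔ.dom g).trans (by simp)) fun d _ => sur d, card_top,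
      DihedralGroup.nat_card]

theorem squares {k : X} (k1 : k ∈ C[D]) (k2 : k * k = 1) (hB : ∀ b ∈ C[D], b ∈ D ∨ b * k ∈ D)
    {g : X} (hg : g ∈ N[zpowers (z * x)]) : g ^ 2 ∈ D := by
  obtain ⟨Δ, hΔ, e, -⟩ := h.exists_delta
  have key : ∀ d w, (d, g) ∈ Δ → (d, w) ∈ Δ → w * w ∈ D → g ^ 2 ∈ D := fun d w h1 h2 h3 => by
    have b1 := hΔ.div h1 h2
    have wN := hΔ.mem h2
    have b2 := conj_mem_of_mem_normalizer (normalizer_le_normalizer_centralizer D wN) b1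
    rw [show g ^ 2 = g * w⁻¹ * (w * (g * w⁻¹) * w⁻¹) * (w * w) by rw [sq]; group]
    refine mul_mem ?_ h3
    by_cases b3 : g * w⁻¹ ∈ D
    · exact mul_mem b3 (conj_mem_of_mem_normalizer wN b3)
    · have b4 := (hB _ b1).resolve_left b3
      have b5 := (hB _ b2).resolve_left fun e' => b3 (by
        simpa [mul_assoc] using conj_mem_of_mem_normalizer' wN e')
      have b6 := k1 _ b5
      generalize w * (g * w⁻¹) * w⁻¹ = b' at b5 b6 ⊢
      generalize g * w⁻¹ = b at b4 ⊢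
      have := mul_mem b4 b5
      rwa [mul_assoc, ← b6, mul_assoc, k2, mul_one] at this
  obtain ⟨d, hd⟩ := hΔ.ex (h.Ny hg)
  have h1 : d ∈ V4 := (mem_V4 d).2 ((conj_cases h.y3 h.y1 hg).imp (fun e' => h.bas.injE (by
    rw [← (e _ _).1 hd, E_11, e'])) fun e' => h.bas.injE (by
    rw [← (e _ _).1 hd, h.bas.neg, E_11, e']))
  have ha : (DihedralGroup.sr 1, a) ∈ Δ := (e _ _).2 h.aa
  have hc : (DihedralGroup.r 2, f * (a * f * a)) ∈ Δ := (e _ _).2 h.ac
  rcases h1 with rfl | rfl | rfl | rfl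
  · exact key _ 1 hd (one_mem _) (by simp)
  · exact key _ _ hd ha (h.a2 ▸ one_mem _)
  · exact key _ _ hd hc h.c2
  · exact key _ _ hd (pmul ha hc) h.ac2

omit [Finite X] in
theorem rng {σ : Perm (Fin 3)} {τ : Perm (Fin 5)} (h1 : Perm.sign σ = 1) (h2 : Perm.sign τ = 1) :
    ∃ n, ((σ, τ), n) ∈ Φ := by
  obtain ⟨i, rfl⟩ := (s3_facts σ).2.2 h1
  obtain ⟨n, hn⟩ := h.ev τ h2
  exact ⟨_, by simpa using pmul (ppow h.pz i.val) hn⟩

omit [Finite X] in
theorem rng' {σ σ' : Perm (Fin 3)} {τ τ' : Perm (Fin 5)} {n : X} (hn : ((σ', τ'), n) ∈ Φ)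
    (h1 : Perm.sign σ = Perm.sign σ') (h2 : Perm.sign τ = Perm.sign τ') :
    ∃ n, ((σ, τ), n) ∈ Φ := by
  obtain ⟨m, hm⟩ := h.rng (σ := σ * σ'⁻¹) (τ := τ * τ'⁻¹) (by simp [h1]) (by simp [h2])
  exact ⟨_, by simpa using pmul hm hn⟩

omit [Finite X] in
theorem closure_yz : Subgroup.closure {z * x, z} = D := by
  refine le_antisymm ((closure_le _).2 ?_) (h.bas.closure ▸ (closure_le _).2 ?_)
  · rintro g (rfl | rfl)
    exacts [mul_mem h.bas.mem_u h.bas.mem_v, h.bas.mem_u]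
  · have h1 : z ∈ Subgroup.closure {z * x, z} := subset_closure (by simp)
    have h2 : z * x ∈ Subgroup.closure {z * x, z} := subset_closure (by simp)
    rintro g (rfl | rfl)
    · exact h1
    · simpa using mul_mem (inv_mem h1) h2

omit [Finite X] in
theorem Dy : D ≤ C1[z * x] :=
  h.DC'.trans (centralizer_le_centralizer_singleton (mul_mem h.bas.mem_u h.bas.mem_v))

omit [Finite X] in
theorem Dy' : D ≤ N[zpowers (z * x)] := fun _ hg =>
  norm_of_comm (mem_centralizer_singleton_iff.1 (h.Dy hg))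

omit [Finite X] in
theorem equiv {A : Subgroup X} {V : Subgroup (Perm (Fin 3) × Perm (Fin 5))}
    (hA : A ≤ N[zpowers z]) (h1 : ∀ p n, (p, n) ∈ Φ → (n ∈ A ↔ p ∈ V))
    (h2 : ∀ p ∈ V, ∃ n, (p, n) ∈ Φ) : Nonempty (A ≃* V) :=
  equiv_of_graph h.gr.fn (fun y hy => (h.gr.ker y).1 hy)
    (fun y hy => let ⟨p, hp⟩ := h.gr.ex (hA hy); ⟨p, (h1 p y hp).1 hy, hp⟩)
    fun p hp => let ⟨n, hn⟩ := h2 p hp; ⟨n, (h1 p n hn).2 hp, hn⟩

theorem case1 (H : S3329Stmt.{u}) (hC : C[D] = D)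
    (hs : ∀ σ τ n, ((σ, τ), n) ∈ Φ → Perm.sign σ = 1 → Perm.sign τ = 1) :
    Nonempty (X ≃* alternatingGroup (Fin 8)) := by
  obtain ⟨P, hP⟩ := exists_sylow_top h.syl
  obtain ⟨Δ, hΔ, -, sur⟩ := h.exists_delta
  obtain ⟨c1, c2, -⟩ := h.cards
  rw [hC] at hΔ c1 c2
  rw [h.bas.card] at c1 c2
  obtain ⟨eN⟩ := hΔ.quot sur
  obtain ⟨σr, τr, hr, s1, s2⟩ := h.od
  obtain ⟨eC⟩ := h.equiv (A := C1[z]) (V := (alternatingGroup _).prod (alternatingGroup _))
    (fun g hg => norm_of_comm (mem_centralizer_singleton_iff.1 hg))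
    (fun p n hn => by
      rw [mem_centralizer_singleton_iff, h.sg _ _ _ hn]
      exact ⟨fun e => ⟨e, hs _ _ _ hn e⟩, fun e => e.1⟩) fun p hp => h.rng hp.1 hp.2
  obtain ⟨eL⟩ := h.equiv (A := N[zpowers z]) (V := ((Perm.sign.comp (MonoidHom.fst (Perm (Fin 3))
    (Perm (Fin 5)))) * (Perm.sign.comp (MonoidHom.snd (Perm (Fin 3)) (Perm (Fin 5))))).ker) le_rfl
    (fun p n hn => iff_of_true (h.gr.mem hn) (by
      show Perm.sign p.1 * Perm.sign p.2 = 1
      by_cases e : Perm.sign p.1 = 1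
      · rw [e, hs _ _ _ hn e, mul_one]
      · have := hs _ _ _ (pmul hn hr) (by rw [map_mul, sign_cases e, s1]; decide)
        rw [map_mul, s2] at this
        rw [sign_cases e, mul_comm, this]))
    fun p hp => by
      have hp' : Perm.sign p.1 * Perm.sign p.2 = 1 := hp
      by_cases e : Perm.sign p.1 = 1
      · exact h.rng e (by rwa [e, one_mul] at hp')
      · refine h.rng' hr (by rw [s1, sign_cases e]) ?_
        rw [sign_cases e] at hp'
        rw [s2]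
        exact sign_cases fun e' => by rw [e'] at hp'; exact absurd hp' (by decide)
  obtain ⟨e3⟩ := a3_equiv
  have hn := NormalIn.normal_subgroupOf ⟨h.Dy', h.Ny⟩
  refine H P D hP.symm (z * x) z h.closure_yz ⟨⟨fun g g' => Subtype.ext (h.bas.commute g.2 g'.2)⟩⟩
    h.bas.card (fun _ => h.bas.cube) hC eN (NormalIn.normal_subgroupOf ⟨h.Dy, h.Cy⟩) c1 _ rfl h.Dy'
    ?_ (fun g => ?_) (eC.trans ((Subgroup.prodEquiv _ _).trans (e3.prodCongr (MulEquiv.refl _)))) eL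
  · have := Subgroup.card_eq_card_quotient_mul_card_subgroup (D.subgroupOf N[zpowers (z * x)])
    rw [c2, card_subgroupOf h.Dy', h.bas.card] at this
    omega
  · induction g using QuotientGroup.induction_on with
    | H g => exact (QuotientGroup.eq_one_iff _).2
              (h.squares (one_mem _) (mul_one _) (fun b hb => Or.inl (hC ▸ hb)) g.2)

theorem case2 (H : S3330Stmt.{u}) {k : X} (k1 : k ∈ C[D]) (k2 : k * k = 1) (k3 : k ∉ D)
    (hB : ∀ b ∈ C[D], b ∈ D ∨ b * k ∈ D)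
    (hk : ∃ σ τ, ((σ, τ), k) ∈ Φ ∧ Perm.sign σ = 1 ∧ Perm.sign τ = -1) :
    Nonempty (X ≃* Perm (Fin 8)) := by
  obtain ⟨P, hP⟩ := exists_sylow_top h.syl
  obtain ⟨Δ, hΔ, eΔ, sur⟩ := h.exists_delta
  obtain ⟨c1, c2, c3⟩ := h.cards
  have c0 : Nat.card C[D] = 18 := by
    rw [← card_mul_relIndex h.DC', h.bas.card, relIndex_eq_two_iff.2 ⟨k, k1, fun b hb => ?_⟩]
    by_cases e : b ∈ D
    · exact Or.inr ⟨e, fun e' => k3 (by simpa using mul_mem (inv_mem e) e')⟩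
    · exact Or.inl ⟨(hB b hb).resolve_left e, e⟩
  rw [c0] at c1 c2 c3
  have hcn := NormalIn.normal_subgroupOf (centralizer_normalIn_normalizer D)
  obtain ⟨eNC⟩ := hΔ.quot sur
  obtain ⟨σr, τr, hr, s1, s2⟩ := h.od
  obtain ⟨σk, τk, hk, s3, s4⟩ := hk
  have all : ∀ p, ∃ n, (p, n) ∈ Φ := fun p => by
    by_cases e : Perm.sign p.1 = 1 <;> by_cases e' : Perm.sign p.2 = 1
    · exact h.rng e e'
    · exact h.rng' hk (by rw [e, s3]) (by rw [s4, sign_cases e'])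
    · exact h.rng' (pmul hk hr) (by rw [map_mul, s3, s1, sign_cases e]; decide)
        (by rw [map_mul, s4, s2, e']; decide)
    · exact h.rng' hr (by rw [s1, sign_cases e]) (by rw [s2, sign_cases e'])
  obtain ⟨eC⟩ := h.equiv (A := C1[z]) (V := (alternatingGroup _).prod ⊤)
    (fun g hg => norm_of_comm (mem_centralizer_singleton_iff.1 hg))
    (fun p n hn => by
      rw [mem_centralizer_singleton_iff, h.sg _ _ _ hn]
      exact ⟨fun e => ⟨e, mem_top _⟩, fun e => e.1⟩) fun p _ => all p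
  obtain ⟨eL⟩ := h.equiv (A := N[zpowers z]) (V := ⊤) le_rfl
    (fun p n hn => iff_of_true (h.gr.mem hn) (mem_top _)) fun p _ => all p
  obtain ⟨e3⟩ := a3_equiv
  have eN : Nonempty (N[D] ⧸ D.subgroupOf N[D] ≃* DihedralGroup 4 × Multiplicative (ZMod 2)) := by
    have hf : (DihedralGroup.sr 0, f) ∈ Δ := (eΔ _ _).2 h.af
    have hr : (DihedralGroup.r 1, f * a) ∈ Δ := pmul hf ((eΔ (.sr 1) _).2 h.aa)
    let π := QuotientGroup.mk' (D.subgroupOf N[D])
    have hπ : ∀ n, π n = 1 ↔ (n : X) ∈ D := fun n => QuotientGroup.eq_one_iff n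
    let f' : N[D] := ⟨f, hΔ.mem hf⟩
    let r' : N[D] := ⟨f * a, hΔ.mem hr⟩
    let k' : N[D] := ⟨k, hΔ.le k1⟩
    have a1 : π r' ^ 4 = 1 := by
      rw [← map_pow, hπ]
      show (f * a) ^ 4 ∈ D
      convert h.c2 using 1
      simp only [pow_succ, pow_zero, one_mul, mul_assoc]
    have a2 : π f' * π f' = 1 := by
      rw [← map_mul, show f' * f' = 1 from Subtype.ext h.f2, map_one]
    have a3 : π f' * π r' * (π f')⁻¹ = (π r')⁻¹ := by
      rw [← map_inv, ← map_inv, ← map_mul, ← map_mul]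
      refine congrArg π (Subtype.ext ?_)
      show f * (f * a) * f⁻¹ = (f * a)⁻¹
      rw [← mul_assoc, h.f2, one_mul, mul_inv_rev, inv_eq_of_mul_eq_one_right h.a2]
    have a4 : π k' ^ 2 = 1 := by
      rw [sq, ← map_mul, show k' * k' = 1 from Subtype.ext k2, map_one]
    have a5 : ∀ q, Commute q (π k') := fun q => by
      obtain ⟨n, rfl⟩ := QuotientGroup.mk'_surjective _ q
      have b1 := conj_mem_of_mem_normalizer (normalizer_le_normalizer_centralizer D n.2) k1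
      have b2 := (hB _ b1).resolve_left fun e => k3 (by
        simpa [mul_assoc] using conj_mem_of_mem_normalizer' n.2 e)
      have b3 := (hπ (n * k' * n⁻¹ * k')).2 b2
      rw [map_mul, map_mul, map_mul, map_inv, ← a4, sq, mul_left_inj] at b3
      exact mul_inv_eq_iff_eq_mul.1 b3
    let χ : Multiplicative (ZMod 2) →* N[D] ⧸ D.subgroupOf N[D] :=
      MonoidHom.mk' (fun e => π k' ^ (Multiplicative.toAdd e).val) fun i j => by
        rw [toAdd_mul, ZMod.val_add, ← pow_eq_pow_mod _ a4, pow_add]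
    let s := H9.dihedralHom (n := 4) _ _ a1 a2 a3
    have hs : ∀ d, ∃ n : N[D], π n = s d ∧ (d, (n : X)) ∈ Δ := by
      rintro (i | i)
      · refine ⟨r' ^ i.val, ?_, ?_⟩
        · rw [map_pow, ← zpow_natCast, ← H9.dihedralHom_r _ _ a1 a2 a3]; simp [s]
        · simpa using ppow hr i.val
      · refine ⟨f' * r' ^ i.val, ?_, ?_⟩
        · rw [map_mul, map_pow, ← zpow_natCast, ← H9.dihedralHom_sr _ _ a1 a2 a3]; simp [s]
        · simpa using pmul hf (ppow hr i.val)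
    refine ⟨(MulEquiv.ofBijective (s.noncommCoprod χ fun d e => (a5 _).pow_right _)
      (Function.Injective.bijective_of_nat_card_le ?_ ?_)).symm⟩
    · rw [injective_iff_map_eq_one]
      rintro ⟨d, e⟩ he
      obtain ⟨n, h1, h2⟩ := hs d
      have h3 : π (n * k' ^ (Multiplicative.toAdd e).val) = 1 := by
        rw [map_mul, map_pow, h1]; exact he
      have h4 : d = 1 := hΔ.one (hΔ.mulK h2 (pow_mem k1 _)) (h.DC' ((hπ _).1 h3))
      rw [map_mul, h1, h4, map_one, one_mul, hπ] at h3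
      rcases (by decide : ∀ e : Multiplicative (ZMod 2), e = 1 ∨ (Multiplicative.toAdd e).val = 1)
        e with e' | e'
      · rw [h4, e']; rfl
      · rw [e', pow_one] at h3
        exact absurd h3 k3
    · have := Subgroup.card_eq_card_quotient_mul_card_subgroup (D.subgroupOf N[D])
      rw [c3, card_subgroupOf le_normalizer, h.bas.card] at this
      rw [Nat.card_prod, DihedralGroup.nat_card]
      simp only [Nat.card_eq_fintype_card, Fintype.card_multiplicative, ZMod.card]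
      omega
  obtain ⟨eN⟩ := eN
  refine (H P D hP.symm (z * x) z h.closure_yz
    ⟨⟨fun g g' => Subtype.ext (h.bas.commute g.2 g'.2)⟩⟩ h.bas.card (fun _ => h.bas.cube) c0 eN eNC
    (NormalIn.normal_subgroupOf ⟨h.Dy, h.Cy⟩) c1
    (fun g hg => h.squares k1 k2 hB (norm_of_comm (mem_centralizer_singleton_iff.1 hg))) _ rfl
    (NormalIn.normal_subgroupOf ⟨h.Dy', h.Ny⟩) c2 (fun g => h.squares k1 k2 hB)
    (eC.trans ((Subgroup.prodEquiv _ _).trans (e3.prodCongr Subgroup.topEquiv)))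
    (eL.trans Subgroup.topEquiv)).resolve_right ?_
  rintro ⟨N, hN, -, ⟨e⟩, -, -, hsq⟩
  have ev : ∀ τ n, ((1, τ), n) ∈ Φ → Perm.sign τ = 1 → n ∈ N := fun τ n hn hτ => by
    obtain ⟨α, hα, β, hβ, rfl⟩ := s5_sq τ hτ
    obtain ⟨n1, h1⟩ := h.ev α hα
    obtain ⟨n2, h2⟩ := h.ev β hβ
    have h3 := h.gr.div hn (by simpa using pmul (ppow h1 2) (ppow h2 2))
    rw [mul_inv_eq_one.1 (mem_bot.1 h3)]
    exact mul_mem (hsq _) (hsq _)
  obtain ⟨τf, hf, s5⟩ := h.pf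
  have rN : a * f * a ∈ N := by
    have := hN.conj_mem _ (ev _ _ hf s5) a
    rwa [inv_eq_of_mul_eq_one_right h.a2] at this
  obtain ⟨n, hn⟩ := h.ev (swap 0 1 * (swap 1 2 * swap 2 3) * τr⁻¹)
    (by rw [map_mul, map_inv, s2]; decide)
  have h1 := pmul hn hr
  have h2 : n * (a * f * a) ∈ N :=
    mul_mem (ev _ _ hn (by rw [map_mul, map_inv, s2]; decide)) rN
  generalize n * (a * f * a) = g at h1 h2
  rw [Prod.mk_mul_mk, one_mul, inv_mul_cancel_right] at h1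
  have h3 : g ^ 4 = 1 := mem_bot.1 (h.gr.memK (ppow h1 4) (Prod.ext (s3_odd _ s1)
    (by decide : (swap 0 1 * (swap 1 2 * swap 2 3) : Perm (Fin 5)) ^ 4 = 1)))
  have h4 : e ⟨g, h2⟩ ^ 4 = 1 := by rw [← map_pow, show (⟨g, h2⟩ : N) ^ 4 = 1 from Subtype.ext h3,
    map_one]
  have h5 : e ⟨g, h2⟩ ^ 2 = 1 := Prod.ext
    (Subtype.ext (a5_four _ (e ⟨g, h2⟩).1.2 (congrArg (fun p => (p.1 : Perm (Fin 5))) h4)))
    (Subtype.ext (a5_four _ (e ⟨g, h2⟩).2.2 (congrArg (fun p => (p.2 : Perm (Fin 5))) h4)))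
  rw [← map_pow, map_eq_one_iff e e.injective] at h5
  have h6 := h.gr.one (ppow h1 2) (mem_bot.2 (congrArg Subtype.val h5))
  exact absurd (congrArg Prod.snd h6)
    (by decide : (swap 0 1 * (swap 1 2 * swap 2 3) : Perm (Fin 5)) ^ 2 ≠ 1)

end XS

end Cfsg.Agent.H67.T3
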