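import Cfsg.Agent.H67.T3E
import Cfsg.Agent.H67.McS
import Cfsg.Agent.H87.Transfer
import Cfsg.Agent.S2073

/-! The 3-local characterisation of McL: double covers of `Alt(8)` and `Sym(8)`. -/

set_option autoImplicit false

namespace Cfsg.Agent.H67.T3

open Subgroup Equiv Cfsg Cfsg.Agent.H63 Cfsg.Agent.H67

variable {G : Type*} [Group G] {P : Subgroup (Perm (Fin 8) × G)} {t : G}

theorem dc_of (gr : Gr P C1[t] (zpowers t)) (tt : t * t = 1) (t1 : t ≠ 1)
    (sur : ∀ σ, Perm.sign σ = 1 → ∃ y, (σ, y) ∈ P) {σf : Perm (Fin 8)} {f : G} (hf : (σf, f) ∈ P)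
    (sf : Perm.sign σf = 1) (ff : f * f = t) :
    DC (P ⊓ (alternatingGroup _).comap (MonoidHom.fst _ G)) t := by
  have pt : (1, t) ∈ P := (gr.ker t).2 (mem_zpowers t)
  have h0 : DC0 (P ⊓ (alternatingGroup _).comap (MonoidHom.fst _ G)) t :=
    { sq := tt, ne := t1, mem := ⟨pt, (alternatingGroup (Fin 8)).one_mem⟩, fn := fun σ hσ => gr.fn σ hσ.1
      ker := fun y hy => (mem_zp2 tt).1 ((gr.ker y).1 hy.1), sgn := fun σ y hy => hy.2
      surj := fun σ hσ => let ⟨y, hy⟩ := sur σ hσ; ⟨y, hy, hσ⟩ }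
  refine ⟨h0, fun σ y hy hσ => ?_⟩
  have hs : σ * σ = 1 := by
    rw [← sq, ← orderOf_dvd_iff_pow_eq_one, ← Perm.lcm_cycleType, hσ]
    decide
  refine (h0.ker _ (hs ▸ pmul hy hy)).resolve_left fun e1 => t1 ?_
  obtain ⟨φ, hφ⟩ := h0.split hy hσ e1
  have h1 : (⟨σf, sf⟩ : alternatingGroup _) * ⟨σf, sf⟩ = 1 :=
    Subtype.ext (gr.eq (pmul hf hf) (ff ▸ pt))
  rw [← ff, h0.sq_uniq (hφ ⟨σf, sf⟩) ⟨hf, sf⟩, ← map_mul, h1, map_one]

/-- The standard involutions of `Sym(8)`. -/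
def std : ℕ → Perm (Fin 8)
  | 1 => swap 0 1
  | 2 => swap 0 1 * swap 2 3
  | 3 => swap 0 1 * swap 2 3 * swap 4 5
  | _ => swap 0 1 * swap 2 3 * swap 4 5 * swap 6 7

theorem std_type : ∀ k : Fin 4, (std (k + 1)).cycleType = Multiset.replicate (k + 1) 2 := by
  decide +kernel

theorem inv_conj {σ : Perm (Fin 8)} (h : σ * σ = 1) (h1 : σ ≠ 1) :
    IsConj (std 1) σ ∨ IsConj (std 2) σ ∨ IsConj (std 3) σ ∨ IsConj (std 4) σ := by
  have ho : orderOf σ = 2 := orderOf_eq_prime (by rw [pow_two, h]) h1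
  obtain ⟨m, hm⟩ := Perm.cycleType_prime_order (σ := σ) (ho ▸ Nat.prime_two)
  rw [ho] at hm
  have h2 := σ.sum_cycleType_le
  rw [hm, Multiset.sum_replicate, smul_eq_mul, Fintype.card_fin] at h2
  have h3 := Perm.isConj_iff_cycleType_eq.2 ((std_type ⟨m, by omega⟩).trans hm.symm)
  have : m = 0 ∨ m = 1 ∨ m = 2 ∨ m = 3 := by omega
  rcases this with rfl | rfl | rfl | rfl
  exacts [Or.inl h3, Or.inr (Or.inl h3), Or.inr (Or.inr (Or.inl h3)), Or.inr (Or.inr (Or.inr h3))]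

theorem sign_isConj {σ τ : Perm (Fin 8)} (h : IsConj σ τ) : Perm.sign τ = Perm.sign σ :=
  (isConj_iff_eq.1 ((Perm.sign : Perm (Fin 8) →* ℤˣ).map_isConj h)).symm

theorem nine_dvd {σ : Perm (Fin 8)} (h : σ * σ = 1) (h1 : σ ≠ 1) (h9 : 9 ∣ Nat.card C1[σ]) :
    IsConj (std 1) σ := by
  rw [Perm.nat_card_centralizer] at h9
  rcases inv_conj h h1 with e | e | e | e
  · exact e
  · rw [(Perm.isConj_iff_cycleType_eq.1 e).symm.trans (std_type 1)] at h9
    exact absurd h9 (by decide)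
  · rw [(Perm.isConj_iff_cycleType_eq.1 e).symm.trans (std_type 2)] at h9
    exact absurd h9 (by decide)
  · rw [(Perm.isConj_iff_cycleType_eq.1 e).symm.trans (std_type 3)] at h9
    exact absurd h9 (by decide)

/-- `C(t)` is a double cover of `Sym(8)` in which double transpositions lift to order four. -/
structure Cov (P : Subgroup (Perm (Fin 8) × G)) (t : G) : Prop where
  gr : Gr P C1[t] (zpowers t)
  sur : ∀ σ, ∃ y, (σ, y) ∈ P
  tt : t * t = 1
  t1 : t ≠ 1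
  dt : ∀ σ y, (σ, y) ∈ P → σ.cycleType = {2, 2} → y * y = t

namespace Cov

variable (h : Cov P t) {σ σ' : Perm (Fin 8)} {y y' : G}
include h

theorem cm (h1 : (σ, y) ∈ P) : y * t = t * y := mem_centralizer_singleton_iff.1 (h.gr.mem h1)

theorem conj (h1 : (σ, y) ∈ P) (h2 : (σ', y') ∈ P) (hc : IsConj σ σ') :
    ∃ c, c * t = t * c ∧ (y' = c * y * c⁻¹ ∨ y' = c * y * c⁻¹ * t) := by
  obtain ⟨κ, rfl⟩ := isConj_iff.1 hc
  obtain ⟨c, hc⟩ := h.sur κ
  refine ⟨c, h.cm hc, ((mem_zp2 h.tt).1 (h.gr.div' (pconj hc h1) h2)).imp (fun e => ?_) fun e => ?_⟩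
  · exact (inv_mul_eq_one.1 e).symm
  · exact inv_mul_eq_iff_eq_mul.1 e

theorem sq_eq (h1 : (σ, y) ∈ P) (h2 : (σ', y') ∈ P) (hc : IsConj σ σ') (e : y * y = t) :
    y' * y' = t := by
  obtain ⟨c, hc, e'⟩ := h.conj h1 h2 hc
  have h3 : c * y * c⁻¹ * (c * y * c⁻¹) = t := by
    calc _ = c * (y * y) * c⁻¹ := by group
      _ = t := by rw [e, hc, mul_inv_cancel_right]
  rcases e' with rfl | rfl
  · exact h3
  · have h4 : Commute (c * y * c⁻¹) t :=
      (Commute.mul_left hc (h.cm h1)).mul_left (Commute.inv_left hc)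
    rw [← sq, h4.mul_pow, sq, sq, h3, h.tt, mul_one]

theorem anti {a b c d : Fin 8} (hab : a ≠ b) (hac : a ≠ c) (had : a ≠ d) (hbc : b ≠ c)
    (hbd : b ≠ d) (hcd : c ≠ d) (h1 : (swap a b, y) ∈ P) (h2 : (swap c d, y') ∈ P) :
    y * y' * y⁻¹ = y' * t := by
  have h3 := h.dt _ _ (pmul h1 h2) (cycleType_dt hab hac had hbc hbd hcd)
  have hc := Perm.isConj_swap hab hcd
  have a1 := (mem_zp2 h.tt).1 (h.gr.memK (pmul h1 h1) (swap_mul_self a b))
  have a2 := (mem_zp2 h.tt).1 (h.gr.memK (pmul h2 h2) (swap_mul_self c d))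
  have a3 : y * y * (y' * y') = 1 := by
    rcases a1 with a1 | a1
    · rcases a2 with a2 | a2
      · rw [a1, a2, mul_one]
      · exact absurd ((h.sq_eq h2 h1 hc.symm a2).symm.trans a1) h.t1
    · rw [a1, h.sq_eq h1 h2 hc a1, h.tt]
  calc y * y' * y⁻¹ = y * y' * (y * y') * y'⁻¹ * (y * y)⁻¹ := by group
    _ = t * y'⁻¹ * (y' * y') := by rw [h3, inv_eq_of_mul_eq_one_right a3]
    _ = _ := by rw [h.cm h2]; group

theorem conj_t (h1 : (σ, y) ∈ P) (e : σ * σ = 1) (e1 : σ ≠ 1) : IsConj y (y * t) := by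
  obtain ⟨p1, a1⟩ := h.sur (swap 0 1)
  obtain ⟨p2, a2⟩ := h.sur (swap 2 3)
  obtain ⟨p3, a3⟩ := h.sur (swap 4 5)
  obtain ⟨p4, a4⟩ := h.sur (swap 6 7)
  have key : ∀ τ s, (τ, s) ∈ P → IsConj τ σ → IsConj s (s * t) → IsConj y (y * t) := by
    intro τ s hs hc hst
    obtain ⟨c, hc, e'⟩ := h.conj hs h1 hc
    have h2 : IsConj (c * s * c⁻¹) (c * s * c⁻¹ * t) := by
      have h3 : c * s * c⁻¹ * t = c * (s * t) * c⁻¹ := by
        rw [mul_assoc _ _ t, (Commute.inv_left hc).eq]; group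
      rw [h3]
      exact (isConj_iff.2 ⟨c, rfl⟩).symm.trans (hst.trans (isConj_iff.2 ⟨c, rfl⟩))
    rcases e' with rfl | rfl
    · exact h2
    · rw [mul_assoc _ t, h.tt, mul_one]; exact h2.symm
  have c2 := h.cm a2
  have c3 := h.cm a3
  have c4 := h.cm a4
  have tri : ∀ u v w : G, v * t = t * v → w * t = t * w →
      u * t * (v * t) * (w * t) = u * v * w * t := fun u v w hv hw => by
    calc _ = u * (t * v) * (t * w) * t := by group
      _ = u * v * (t * t) * w * t := by rw [← hv]; group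
      _ = _ := by rw [h.tt, mul_one]
  rcases inv_conj e e1 with hc | hc | hc | hc
  · exact key _ _ a1 hc (isConj_iff.2 ⟨p2, h.anti (by decide) (by decide) (by decide) (by decide)
      (by decide) (by decide) a2 a1⟩)
  · refine key _ _ (pmul a1 a2) hc (isConj_iff.2 ⟨p1, ?_⟩)
    rw [mul_assoc p1 p2 t, ← h.anti (by decide) (by decide) (by decide) (by decide) (by decide)
      (by decide) a1 a2]
    group
  · refine key _ _ (pmul (pmul a1 a2) a3) hc (isConj_iff.2 ⟨p4, ?_⟩)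
    rw [← tri p1 p2 p3 c2 c3,
      ← h.anti (by decide) (by decide) (by decide) (by decide) (by decide) (by decide) a4 a1,
      ← h.anti (by decide) (by decide) (by decide) (by decide) (by decide) (by decide) a4 a2,
      ← h.anti (by decide) (by decide) (by decide) (by decide) (by decide) (by decide) a4 a3]
    group
  · refine key _ _ (pmul (pmul (pmul a1 a2) a3) a4) hc (isConj_iff.2 ⟨p1, ?_⟩)
    rw [show p1 * p2 * p3 * p4 * t = p1 * (p2 * p3 * p4 * t) by group, ← tri p2 p3 p4 c3 c4,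
      ← h.anti (by decide) (by decide) (by decide) (by decide) (by decide) (by decide) a1 a2,
      ← h.anti (by decide) (by decide) (by decide) (by decide) (by decide) (by decide) a1 a3,
      ← h.anti (by decide) (by decide) (by decide) (by decide) (by decide) (by decide) a1 a4]
    group

theorem isConj (h1 : (σ, y) ∈ P) (h2 : (σ', y') ∈ P) (hc : IsConj σ σ') (e : σ' * σ' = 1)
    (e1 : σ' ≠ 1) : IsConj y y' := by
  obtain ⟨c, -, e' | e'⟩ := h.conj h1 h2 hc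
  · exact isConj_iff.2 ⟨c, e'.symm⟩
  · refine IsConj.trans ?_ (h.conj_t h2 e e1).symm
    rw [e', mul_assoc _ t, h.tt, mul_one]
    exact isConj_iff.2 ⟨c, rfl⟩

theorem inv_perm (h1 : (σ, y) ∈ P) (e : y * y = 1) (e1 : y ≠ 1) (e2 : y ≠ t) :
    σ * σ = 1 ∧ σ ≠ 1 :=
  ⟨h.gr.fn _ (e ▸ pmul h1 h1), fun e' => ((mem_zp2 h.tt).1 (h.gr.memK h1 e')).elim e1 e2⟩

theorem odd_index [Finite G] : Odd (C1[t]).index :=
  odd_index_cent h.tt fun s hs h1 h2 => by
    obtain ⟨σ, hσ⟩ := h.gr.ex (mem_centralizer_singleton_iff.2 h2)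
    have s1 : s ≠ 1 := fun e => h.t1 (isConj_one_left.1 (e ▸ hs))
    have s2 : s * s = 1 := by
      obtain ⟨c, rfl⟩ := isConj_iff.1 hs
      calc _ = c * (t * t) * c⁻¹ := by group
        _ = 1 := by rw [h.tt]; group
    obtain ⟨a1, a2⟩ := h.inv_perm hσ s2 s1 h1
    exact hs.trans (h.conj_t hσ a1 a2)

/-- The transfer step. -/
theorem index_two [Finite G] {k e a : G} {σk σe σa : Perm (Fin 8)} (hk : (σk, k) ∈ P)
    (kk : k * k = t) (h9 : 9 ∣ Nat.card C1[σk]) (he : (σe, e) ∈ P) (ee : e * e = 1)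
    (se : Perm.sign σe = Perm.sign σk) (et : ¬ IsConj t (e * t)) (ha : (σa, a) ∈ P)
    (at' : IsConj t a) (a1 : a ≠ t) : ∃ K : Subgroup G, K.Normal ∧ K.index = 2 ∧ e ∉ K ∧
      Perm.sign σe = -1 := by
  have pt : (1, t) ∈ P := (h.gr.ker t).2 (mem_zpowers t)
  have inv : ∀ s, IsConj t s → s * s = 1 ∧ s ≠ 1 := fun s hs =>
    ⟨by
      obtain ⟨c, rfl⟩ := isConj_iff.1 hs
      calc _ = c * (t * t) * c⁻¹ := by group
        _ = 1 := by rw [h.tt]; group, fun e => h.t1 (isConj_one_left.1 (e ▸ hs))⟩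
  have ty1 : IsConj (std 1) σk := nine_dvd (h.gr.eq (pmul hk hk) (kk ▸ pt)) (fun e' => by
    rcases (mem_zp2 h.tt).1 (h.gr.memK hk e') with rfl | rfl
    · exact h.t1 (by rw [← kk, mul_one])
    · exact h.t1 (kk.symm.trans h.tt)) h9
  have se' : Perm.sign σe = -1 := by rw [se, sign_isConj ty1]; decide
  have ty : ∀ σ y, (σ, y) ∈ P → y * y = 1 → y ≠ 1 → y ≠ t →
      IsConj (std 3) σ ∨ IsConj (std 4) σ := fun σ y hy y2 y1 yt => by
    obtain ⟨b1, b2⟩ := h.inv_perm hy y2 y1 yt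
    rcases inv_conj b1 b2 with c | c | c
    · exact absurd ((h.sq_eq hk hy (ty1.symm.trans c) kk).symm.trans y2) h.t1
    · exact absurd ((h.dt _ _ hy ((Perm.isConj_iff_cycleType_eq.1 c).symm.trans
        (std_type 1))).symm.trans y2) h.t1
    · exact c
  have e1 : e ≠ 1 := by
    rintro rfl
    rw [h.gr.fn _ he] at se'
    exact absurd se' (by decide)
  have e2 : e ≠ t := by
    rintro rfl
    rw [h.gr.eq he pt] at se'
    exact absurd se' (by decide)
  obtain ⟨b1, b2⟩ := h.inv_perm he ee e1 e2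
  have et' : ¬ IsConj t e := fun c => et (c.trans (h.conj_t he b1 b2))
  have tye : IsConj (std 3) σe := (ty _ _ he ee e1 e2).resolve_right fun c => by
    rw [sign_isConj c] at se'
    exact absurd se' (by decide)
  have tya : IsConj (std 4) σa := (ty _ _ ha (inv a at').1 (inv a at').2 a1).resolve_left fun c =>
    et' (at'.trans (h.isConj ha he (c.symm.trans tye) b1 b2))
  let M : Subgroup G := (P ⊓ (alternatingGroup _).comap (MonoidHom.fst _ G)).map (MonoidHom.snd _ G)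
  have hM : ∀ σ y, (σ, y) ∈ P → (y ∈ M ↔ Perm.sign σ = 1) := fun σ y hy =>
    ⟨fun ⟨p, hp, e⟩ => by
      obtain rfl : p.2 = y := e
      rw [h.gr.eq hy hp.1]; exact hp.2, fun hs => ⟨(σ, y), ⟨hy, hs⟩, rfl⟩⟩
  obtain ⟨K, h1, h2, h3⟩ := H87.thompson_transfer_involution h.odd_index (M := M)
    (relIndex_eq_two_iff.2 ⟨e, h.gr.mem he, fun b hb => by
      obtain ⟨σ, hσ⟩ := h.gr.ex hb
      rw [hM _ _ (pmul hσ he), hM _ _ hσ, map_mul, se']
      rcases Int.units_eq_one_or (Perm.sign σ) with c | c <;> rw [c] <;> decide⟩)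
    (x := e) (by rw [sq, ee]) fun g hg => by
      obtain ⟨p, hp, e'⟩ := hg
      have hp1 : (p.1, g * e * g⁻¹) ∈ P := e' ▸ hp.1
      have c1 : IsConj e (g * e * g⁻¹) := isConj_iff.2 ⟨g, rfl⟩
      have c2 : g * e * g⁻¹ * (g * e * g⁻¹) = 1 := by
        calc _ = g * (e * e) * g⁻¹ := by group
          _ = 1 := by rw [ee]; group
      have c3 : g * e * g⁻¹ ≠ 1 := fun c => e1 (isConj_one_left.1 (c ▸ c1))
      have c4 : g * e * g⁻¹ ≠ t := fun c => et' (c ▸ c1.symm)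
      obtain ⟨b3, b4⟩ := h.inv_perm hp1 c2 c3 c4
      rcases ty _ _ hp1 c2 c3 c4 with c | c
      · have : Perm.sign p.1 = 1 := hp.2
        rw [sign_isConj c] at this
        exact absurd this (by decide)
      · exact et' (at'.trans ((h.isConj ha hp1 (tya.symm.trans c) b3 b4).trans c1.symm))
  exact ⟨K, h1, h2, h3, se'⟩

theorem even_le {K : Subgroup G} [K.Normal] (hK : K.index = 2) (tK : t ∈ K) (h1 : (σ, y) ∈ P)
    (hs : Perm.sign σ = 1) : y ∈ K := by
  have : alternatingGroup (Fin 8) ≤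
      (P ⊓ K.comap (MonoidHom.snd _ G)).map (MonoidHom.fst _ G) := by
    rw [← Perm.closure_three_cycles_eq_alternating, closure_le]
    intro τ hτ
    obtain ⟨s, hs⟩ := h.sur τ
    refine ⟨(τ, s), ⟨hs, ?_⟩, rfl⟩
    have a1 := zpowers_le.2 tK (h.gr.memK (ppow hs 3) (hτ.orderOf ▸ pow_orderOf_eq_one τ))
    have a2 : s ^ 2 ∈ K := hK ▸ K.pow_index_mem s
    show s ∈ K
    simpa [pow_succ, mul_assoc] using mul_mem (inv_mem a2) a1
  obtain ⟨p, hp, e⟩ := this hs
  have hp1 : (σ, p.2) ∈ P := e ▸ hp.1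
  simpa using mul_mem (zpowers_le.2 tK (h.gr.div h1 hp1)) (show p.2 ∈ K from hp.2)

end Cov

theorem mcl_sub [Finite G] {Γ : Subgroup (Perm (Fin 8) × G)} (h : DC Γ t) {K : Subgroup G}
    (h1 : ∀ σ y, (σ, y) ∈ Γ → y ∈ K) (h2 : ∀ y ∈ K, y * t = t * y → ∃ σ, (σ, y) ∈ Γ) {m : G}
    (hm : m ∈ K) (ha : Commute t (m * t * m⁻¹)) (ha' : m * t * m⁻¹ ≠ t) :
    Nonempty (K ≃* Spor.McL) := by
  have tK := h1 _ _ h.mem
  have h' : DC (Γ.comap ((MonoidHom.id _).prodMap K.subtype)) ⟨t, tK⟩ :=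
    { sq := Subtype.ext h.sq, ne := fun e => h.ne (congrArg Subtype.val e), mem := h.mem
      fn := h.fn, ker := fun y hy => (h.ker y hy).imp Subtype.ext Subtype.ext
      sgn := fun σ y hy => h.sgn σ y hy
      surj := fun σ hσ => let ⟨y, hy⟩ := h.surj σ hσ; ⟨⟨y, h1 _ _ hy⟩, hy⟩
      dt := fun σ y hy hσ => Subtype.ext (h.dt σ y hy hσ) }
  obtain ⟨g, -, I, -, -, e⟩ := Mc.mcl_of_dc h' (fun y hy => h2 y y.2 (congrArg Subtype.val hy))
    (a := ⟨m, hm⟩) (Subtype.ext ha) fun e => ha' (congrArg Subtype.val e)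
  exact I.equiv_top e

theorem aut_of_index_two [Finite G] {K : Subgroup G} [K.Normal] (hK : K.index = 2)
    (hC : C[K] = ⊥) {H : Type*} [Group H] (e : K ≃* H) (hO : Nat.card (Out H) = 2) :
    Nonempty (G ≃* MulAut H) := by
  have : Finite H := Finite.of_equiv K e.toEquiv
  let φ : G →* MulAut H := (MulAut.congr e).toMonoidHom.comp MulAut.conjNormal
  have inj : Function.Injective φ := (injective_iff_map_eq_one φ).2 fun g hg => by
    have h1 : MulAut.conjNormal (H := K) g = 1 := (MulAut.congr e).injective (hg.trans (map_one _).symm)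
    refine mem_bot.1 (hC.le (mem_centralizer_iff.2 fun k hk => ?_))
    have := congrArg (fun ψ : MulAut K => ((ψ ⟨k, hk⟩ : K) : G)) h1
    exact (mul_inv_eq_iff_eq_mul.1 this).symm
  refine ⟨MulEquiv.ofBijective φ (inj.bijective_of_nat_card_le ?_)⟩
  have h1 := Subgroup.card_eq_card_quotient_mul_card_subgroup (MulAut.conj : H →* MulAut H).range
  have h2 : Nat.card (MulAut.conj : H →* MulAut H).range ≤ Nat.card H :=
    Nat.card_le_card_of_surjective _ (MonoidHom.rangeRestrict_surjective _)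
  rw [← K.card_mul_index, hK, Nat.card_congr e.toEquiv, h1]
  rw [show Nat.card (MulAut H ⧸ (MulAut.conj : H →* MulAut H).range) = 2 from hO]
  omega

end Cfsg.Agent.H67.T3
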