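import Cfsg.Agent.H67.T3F
import Cfsg.Agent.H67.T3G

/-! The 3-local characterisation of McL: passage to `C(t)/⟨t⟩` and the end of the proof. -/

set_option autoImplicit false

namespace Cfsg.Agent.H67.T3

open Subgroup Equiv Cfsg Cfsg.Agent.H63 Cfsg.Agent.H67 Cfsg.Agent.H91

universe u

section quot
variable {G : Type*} [Group G] {X : Type*} [Group X] {Δ : Subgroup (X × G)} {t : G}
  {H K : Subgroup G}

theorem Gr.map {Y : Type*} [Group Y] (h : Gr Δ H K) (ψ : X →* Y) (inj : Function.Injective ψ) :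
    ∃ P : Subgroup (Y × G), Gr P H K ∧ ∀ σ y, (σ, y) ∈ P ↔ ∃ ξ, (ξ, y) ∈ Δ ∧ ψ ξ = σ := by
  have e : ∀ σ y, (σ, y) ∈ Δ.map (ψ.prodMap (MonoidHom.id G)) ↔ ∃ ξ, (ξ, y) ∈ Δ ∧ ψ ξ = σ :=
    fun σ y => ⟨fun ⟨p, hp, e⟩ => ⟨p.1, (show p.2 = y from (Prod.ext_iff.1 e).2) ▸ hp,
      (Prod.ext_iff.1 e).1⟩,
      fun ⟨ξ, h1, h2⟩ => ⟨(ξ, y), h1, Prod.ext h2 rfl⟩⟩
  refine ⟨_, ⟨fun y => (h.dom y).trans ⟨fun ⟨ξ, hξ⟩ => ⟨_, (e _ _).2 ⟨ξ, hξ, rfl⟩⟩,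
    fun ⟨σ, hσ⟩ => let ⟨ξ, hξ, _⟩ := (e _ _).1 hσ; ⟨ξ, hξ⟩⟩, fun σ hσ => ?_,
    fun y => ⟨fun hy => ?_, fun hy => (e _ _).2 ⟨1, (h.ker y).2 hy, map_one ψ⟩⟩⟩, e⟩
  · obtain ⟨ξ, h1, rfl⟩ := (e _ _).1 hσ
    rw [h.fn ξ h1, map_one]
  · obtain ⟨ξ, h1, h2⟩ := (e _ _).1 hy
    exact h.memK h1 (inj (h2.trans (map_one ψ).symm))

theorem Gr.cm (gr : Gr Δ C1[t] K) {ξ : X} {y : G} (h : (ξ, y) ∈ Δ) : y * t = t * y :=
  mem_centralizer_singleton_iff.1 (gr.mem h)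

theorem Gr.ex' (gr : Gr Δ C1[t] K) {y : G} (h : y * t = t * y) : ∃ ξ, (ξ, y) ∈ Δ :=
  gr.ex (mem_centralizer_singleton_iff.2 h)

theorem lift3 (gr : Gr Δ C1[t] (zpowers t)) (tt : t * t = 1) {ξ : X} {y y' : G} (h1 : (ξ, y) ∈ Δ)
    (h2 : (ξ, y') ∈ Δ) (y3 : y ^ 3 = 1) (y3' : y' ^ 3 = 1) : y = y' := by
  rcases (mem_zp2 tt).1 (gr.div' h1 h2) with e | e
  · exact inv_mul_eq_one.1 e
  · rw [inv_mul_eq_iff_eq_mul] at e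
    rw [e, (Commute.mul_pow (gr.cm h1) 3 :), y3, one_mul] at y3'
    rw [e, eq_one_of_sq_cube tt y3', mul_one]

theorem conj_iff (gr : Gr Δ C1[t] (zpowers t)) (tt : t * t = 1) {γ υ υ' : X} {g y y' : G}
    (hg : (γ, g) ∈ Δ) (h1 : (υ, y) ∈ Δ) (h2 : (υ', y') ∈ Δ) (y3 : y ^ 3 = 1) (y3' : y' ^ 3 = 1) :
    γ * υ * γ⁻¹ = υ' ↔ g * y * g⁻¹ = y' :=
  ⟨fun e => lift3 gr tt (pconj hg h1) (e ▸ h2) (by rw [conj_pow, y3]; group) y3',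
    fun e => gr.eq (pconj hg h1) (e ▸ h2)⟩

theorem comm_iff (gr : Gr Δ C1[t] (zpowers t)) (tt : t * t = 1) {γ υ : X} {g y : G}
    (hg : (γ, g) ∈ Δ) (h1 : (υ, y) ∈ Δ) (y3 : y ^ 3 = 1) : γ * υ = υ * γ ↔ g * y = y * g := by
  rw [← mul_inv_eq_iff_eq_mul, ← mul_inv_eq_iff_eq_mul, conj_iff gr tt hg h1 h1 y3 y3]

theorem gr_E {ζ χ : X} {z x : G} (hz : (ζ, z) ∈ Δ) (hx : (χ, x) ∈ Δ) (p : V2) :
    (E ζ χ p, E z x p) ∈ Δ := pmul (ppow hz _) (ppow hx _)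

theorem act_iff (gr : Gr Δ C1[t] (zpowers t)) (tt : t * t = 1) {D : Subgroup G} {z x g : G}
    (b : Bas D z x) {ζ χ γ : X} (hz : (ζ, z) ∈ Δ) (hx : (χ, x) ∈ Δ) (hg : (γ, g) ∈ Δ) (m : M2) :
    Act ζ χ γ m ↔ Act z x g m :=
  forall_congr' fun p => conj_iff gr tt hg (gr_E hz hx p) (gr_E hz hx _) (b.cube (b.memE _))
    (b.cube (b.memE _))

theorem exists_bas (gr : Gr Δ C1[t] (zpowers t)) (tt : t * t = 1) {D : Subgroup G} {z x : G}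
    (b : Bas D z x) {ζ χ : X} (hz : (ζ, z) ∈ Δ) (hx : (χ, x) ∈ Δ) :
    ∃ D' : Subgroup X, Bas D' ζ χ ∧ ∀ ξ, ξ ∈ D' ↔ ∃ y ∈ D, (ξ, y) ∈ Δ := by
  have e : ∀ ξ, ξ ∈ (Δ ⊓ D.comap (MonoidHom.snd X G)).map (MonoidHom.fst X G) ↔
      ∃ y ∈ D, (ξ, y) ∈ Δ := fun ξ =>
    ⟨fun ⟨p, hp, e⟩ => ⟨p.2, hp.2, e ▸ hp.1⟩, fun ⟨y, h1, h2⟩ => ⟨(ξ, y), ⟨h2, h1⟩, rfl⟩⟩
  refine ⟨_, ⟨gr.fn _ (b.cu ▸ ppow hz 3), gr.fn _ (b.cv ▸ ppow hx 3),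
    gr.eq (pmul hz hx) (b.comm ▸ pmul hx hz), fun p hp => b.inj p ?_, fun ξ => (e ξ).trans
      ⟨fun ⟨y, h1, h2⟩ => ?_, fun ⟨p, hp⟩ => ⟨_, b.memE p, hp ▸ gr_E hz hx p⟩⟩⟩, e⟩
  · exact lift3 gr tt (ξ := 1) (hp ▸ gr_E hz hx p) (one_mem _) (b.cube (b.memE p)) (one_pow 3)
  · obtain ⟨p, rfl⟩ := (b.mem y).1 h1
    exact ⟨p, gr.eq (gr_E hz hx p) h2⟩

theorem exists_comp {P : Type*} [Group P] (Φ : Subgroup (P × G)) (Δ : Subgroup (X × G)) :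
    ∃ Φ' : Subgroup (P × X), ∀ p ξ, (p, ξ) ∈ Φ' ↔ ∃ y, (ξ, y) ∈ Δ ∧ (p, y) ∈ Φ :=
  ⟨⟨⟨⟨{q | ∃ y, (q.2, y) ∈ Δ ∧ (q.1, y) ∈ Φ}, fun ⟨_, a1, a2⟩ ⟨_, b1, b2⟩ =>
    ⟨_, pmul a1 b1, pmul a2 b2⟩⟩, 1, one_mem Δ, one_mem Φ⟩, fun ⟨_, a1, a2⟩ =>
    ⟨_, pinv a1, pinv a2⟩⟩, fun _ _ => Iff.rfl⟩

end quot

theorem exists_quot {G : Type u} [Group G] [Finite G] (t : G) : ∃ (X : Type u) (_ : Group X)
    (_ : Finite X) (Δ : Subgroup (X × G)), Gr Δ C1[t] (zpowers t) ∧ ∀ ξ, ∃ y, (ξ, y) ∈ Δ := by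
  have hle : zpowers t ≤ C1[t] := zpowers_le.2 (mem_centralizer_singleton_self t)
  have : ((zpowers t).subgroupOf C1[t]).Normal := NormalIn.normal_subgroupOf
    ⟨hle, fun g hg => norm_of_comm (mem_centralizer_singleton_iff.1 hg)⟩
  obtain ⟨Δ, h1, h2⟩ := exists_gr (QuotientGroup.mk' ((zpowers t).subgroupOf C1[t]))
    (K := zpowers t) (fun y => QuotientGroup.eq_one_iff y) hle
  refine ⟨_, inferInstance, inferInstance, Δ, h1, fun ξ => ?_⟩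
  obtain ⟨y, rfl⟩ := QuotientGroup.mk'_surjective _ ξ
  exact ⟨y, (h2 _ _).2 ⟨y.2, rfl⟩⟩

theorem slF_sqs : ∃ α β : SL25, slF = α * α * (β * β) :=
  ⟨⟨!![0, 2; 2, 1], by decide⟩, ⟨!![1, 0; 4, 1], by decide⟩, by decide⟩

variable {G : Type u} [Group G] [Finite G] {S J Q : Subgroup G} {z : G}
  {ΓL : Subgroup (SL25 × G)} {ΓM : Subgroup (Perm (Fin 6) × G)} {t f1 a : G} {ι : SL25 →* G}
  {Λ : Subgroup G} {v w : G}

namespace Su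

variable (h : Su S J Q z ΓL ΓM t f1 a ι Λ v w)
include h

theorem third {b : G} (h1 : b ∈ C[J ⊓ C1[t]]) (h2 : b * t = t * b) (h3 : b ∉ J) (h4 : b * t ∉ J) :
    b * b * t ∈ J ∧ ∃ e, (e = b * (ι slF * (a * ι slF * a)) ∨
      e = b * (ι slF * (a * ι slF * a)) * t) ∧ Act v w e (-1) ∧ Act z (a * z * a⁻¹) e (-1) := by
  obtain ⟨-, k1, e, k2, k3⟩ := ((h.B0 h1 h2).resolve_left h3).resolve_left h4
  have k4 := (h.basD.act_of_cent h1).mul h.act_c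
  refine ⟨k1, e, k2, k3, ?_⟩
  rcases k2 with rfl | rfl
  · exact k4.eq (by decide)
  · exact (k4.mul h.act_t).eq (by decide)

theorem exists_k {b : G} (h1 : b ∈ C[J ⊓ C1[t]]) (h2 : b * t = t * b) (h3 : b ∉ J)
    (h4 : b * t ∉ J) : ∃ k ∈ C[J ⊓ C1[t]], k * t = t * k ∧ k ∉ J ∧ k * t ∉ J ∧ k * k = t := by
  have k1 := (h.third h1 h2 h3 h4).1
  have c : Commute b t := h2
  have e : b ^ 3 * t = b * (b * b * t) := by rw [pow_succ', sq]; group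
  refine ⟨b ^ 3, pow_mem h1 3, c.pow_left 3, fun k => h4 ?_, fun k => h3 ?_, ?_⟩
  · have := mul_mem k (inv_mem k1)
    rwa [show b ^ 3 * (b * b * t)⁻¹ = b * (b * b) * t⁻¹ * (b * b)⁻¹ by rw [pow_succ', sq]; group,
      h.ti, mul_assoc b, (c.mul_left c).eq, mul_assoc, mul_inv_cancel_right] at this
  · rw [e] at k
    have := mul_mem k (inv_mem k1)
    rwa [mul_inv_cancel_right] at this
  · have := h.Je _ k1
    rw [(c.mul_left c).mul_pow, pow_succ t, sq, h.tt, one_mul, mul_eq_one_iff_eq_inv, h.ti] at this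
    rw [← this, (Commute.refl b).mul_pow]

theorem cases (H1 : S3329Stmt.{u}) (H2 : S3330Stmt.{u})
    (hy : ∀ g, g * (z * (a * z * a⁻¹)) = z * (a * z * a⁻¹) * g → g * t = t * g → g ∈ N[J]) :
    ∃ P : Subgroup (Perm (Fin 8) × G), Gr P C1[t] (zpowers t) ∧
      ((∀ σ, (∃ y, (σ, y) ∈ P) ↔ Perm.sign σ = 1) ∨ ((∀ σ, ∃ y, (σ, y) ∈ P) ∧
        ∃ k ∈ C[J ⊓ C1[t]], k * t = t * k ∧ k ∉ J ∧ k * t ∉ J ∧ k * k = t)) := by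
  obtain ⟨X, _, _, Δ, gr, sur⟩ := exists_quot t
  obtain ⟨Φ, gΦ, sg, pz, ev, pf, od, c1, c2⟩ := h.exists_Phi
  obtain ⟨Φ', eΦ⟩ := exists_comp Φ Δ
  have tt := h.tt
  have pt : (1, t) ∈ Δ := (gr.ker t).2 (mem_zpowers t)
  obtain ⟨ζ, hz⟩ := gr.ex' h.tz.symm
  obtain ⟨χ, hx⟩ := gr.ex' h.xt
  obtain ⟨α, ha⟩ := gr.ex' h.ta
  obtain ⟨φ, hf⟩ := gr.ex' (h.ιt' slF)
  obtain ⟨D', bD, eD⟩ := exists_bas gr tt h.basD hz hx
  have ai : ∀ {γ g}, (γ, g) ∈ Δ → ∀ m, Act ζ χ γ m ↔ Act z (a * z * a⁻¹) g m := fun hg =>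
    act_iff gr tt h.basD hz hx hg
  have hr := pmul (pmul ha hf) ha
  have hc := pmul hf hr
  have cD : ∀ {γ g}, (γ, g) ∈ Δ → (γ ∈ C[D'] ↔ g ∈ C[J ⊓ C1[t]]) := fun hg =>
    ⟨fun e => h.basD.cent_of_act ((ai hg 1).1 (bD.act_of_cent e)),
      fun e => bD.cent_of_act ((ai hg 1).2 (h.basD.act_of_cent e))⟩
  have inD : ∀ {γ g}, (γ, g) ∈ Δ → (γ ∈ D' ↔ g ∈ J ∨ g * t ∈ J) := fun {γ g} hg => by
    refine (eD γ).trans ⟨fun ⟨y, h1, h2⟩ => ?_, fun e => ?_⟩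
    · rcases (mem_zp2 tt).1 (gr.div' hg h2) with e | e
      · exact Or.inl (inv_mul_eq_one.1 e ▸ h1.1)
      · exact Or.inr (inv_mul_eq_iff_eq_mul.1 e ▸ h1.1)
    · rcases e with e | e
      · exact ⟨g, ⟨e, gr.mem hg⟩, hg⟩
      · have := gr.mulK hg (mem_zpowers t)
        exact ⟨_, ⟨e, gr.mem this⟩, this⟩
  have z3 := bD.cu
  have z1 : ζ ≠ 1 := fun e => absurd (bD.inj (1, 0) ((E_10 ζ χ).trans e)) (by decide)
  have zi3 : z⁻¹ ^ 3 = 1 := by rw [inv_pow, h.z3, inv_one]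
  have nZ : ∀ {γ g}, (γ, g) ∈ Δ → (γ ∈ N[zpowers ζ] ↔ g ∈ N[zpowers z]) := fun hg =>
    ⟨fun e => (conj_cases z3 z1 e).elim
      (fun e' => norm_of_comm (mul_inv_eq_iff_eq_mul.1 ((conj_iff gr tt hg hz hz h.z3 h.z3).1 e')))
      fun e' => norm_of_inv ((conj_iff gr tt hg hz (pinv hz) h.z3 zi3).1 e'),
    fun e => (conj_cases h.z3 h.z1 e).elim
      (fun e' => norm_of_comm (mul_inv_eq_iff_eq_mul.1 ((conj_iff gr tt hg hz hz h.z3 h.z3).2 e')))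
      fun e' => norm_of_inv ((conj_iff gr tt hg hz (pinv hz) h.z3 zi3).2 e')⟩
  have xs : XS D' ζ χ α φ Φ' :=
    { bas := bD
      syl := by
        refine syl_mk le_top (IsPGroup.of_card (n := 2) bD.card) fun e => syl_not_dvd h.sylD ?_
        have a1 := gr.card (V := ⊤) (A := C1[t]) (fun y => (gr.dom y).trans (by simp))
          fun σ _ => sur σ
        have a2 := card_mul_relIndex (le_top : D' ≤ ⊤)
        have a3 := card_mul_relIndex (inf_le_right : J ⊓ C1[t] ≤ C1[t])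
        rw [bD.card] at a2
        rw [h.basD.card, a1, ← a2, mul_assoc] at a3
        rw [Nat.eq_of_mul_eq_mul_left (by norm_num) a3]
        exact e.mul_right _
      aa := (ai ha _).2 h.act_a
      af := (ai hf _).2 h.act_f
      mono := fun γ m hm => let ⟨g, hg⟩ := sur γ; h.mono ((ai hg m).1 hm)
      Cy := fun γ hγ => by
        obtain ⟨g, hg⟩ := sur γ
        have a1 := hy g ((comm_iff gr tt hg (pmul hz hx)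
          (h.basD.cube (mul_mem h.basD.mem_u h.basD.mem_v))).1
          (mem_centralizer_singleton_iff.1 hγ)) (gr.cm hg)
        obtain ⟨m, hm⟩ := h.basD.ex_act (le_normalizer_inf (zpowers_le.2 a1)
          (le_normalizer_of_le (zpowers_le.2 (gr.mem hg))) (mem_zpowers g))
        exact bD.norm_of_act ((ai hg m).2 hm)
      a2 := gr.fn _ (h.aa ▸ pmul ha ha)
      f2 := gr.eq (pmul hf hf) (h.ff ▸ pt)
      c2 := (inD (pmul hc hc)).2 (Or.inr h.cc.1)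
      ac2 := (inD (pmul (pmul ha hc) (pmul ha hc))).2 (Or.inl h.acac.1)
      gr := ⟨fun ξ => ⟨fun hξ => by
          obtain ⟨y, hy⟩ := sur ξ
          obtain ⟨p, hp⟩ := gΦ.ex ⟨gr.mem hy, (nZ hy).1 hξ⟩
          exact ⟨p, (eΦ _ _).2 ⟨y, hy, hp⟩⟩,
        fun ⟨p, hp⟩ => let ⟨y, h1, h2⟩ := (eΦ _ _).1 hp; (nZ h1).2 (gΦ.mem h2).2⟩,
        fun p hp => let ⟨y, h1, h2⟩ := (eΦ _ _).1 hp; gΦ.one h2 ((gr.ker y).1 h1),
        fun ξ => ⟨fun hξ => let ⟨y, h1, h2⟩ := (eΦ _ _).1 hξ; gr.one h1 ((gΦ.ker y).1 h2),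
          fun hξ => mem_bot.1 hξ ▸ one_mem Φ'⟩⟩
      sg := fun σ τ ξ hξ => let ⟨y, h1, h2⟩ := (eΦ _ _).1 hξ
        (comm_iff gr tt h1 hz h.z3).trans (sg σ τ y h2)
      pz := (eΦ _ _).2 ⟨z, hz, pz⟩
      ev := fun τ hτ => by
        obtain ⟨n, hn⟩ := ev τ hτ
        obtain ⟨ξ, hξ⟩ := gr.ex (gΦ.mem hn).1
        exact ⟨ξ, (eΦ _ _).2 ⟨n, hξ, hn⟩⟩
      pf := let ⟨τ, h1, h2⟩ := pf; ⟨τ, (eΦ _ _).2 ⟨_, hf, h1⟩, h2⟩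
      od := let ⟨σ, τ, h1, h2⟩ := od; ⟨σ, τ, (eΦ _ _).2 ⟨_, hr, h1⟩, h2⟩ }
  by_cases hB : ∀ b ∈ C[J ⊓ C1[t]], b * t = t * b → b ∈ J ∨ b * t ∈ J
  · obtain ⟨e⟩ := xs.case1 H1 (le_antisymm (fun γ hγ => let ⟨g, hg⟩ := sur γ
      (inD hg).2 (hB g ((cD hg).1 hγ) (gr.cm hg))) xs.DC')
      fun σ τ ξ hξ => let ⟨y, _, h2⟩ := (eΦ _ _).1 hξ; c1 hB σ τ y h2
    obtain ⟨P, gP, eP⟩ := gr.map ((alternatingGroup (Fin 8)).subtype.comp e.toMonoidHom)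
      (Subtype.val_injective.comp e.injective)
    refine ⟨P, gP, Or.inl fun σ => ⟨fun ⟨y, hy⟩ => ?_, fun hσ => ?_⟩⟩
    · obtain ⟨ξ, -, rfl⟩ := (eP _ _).1 hy
      exact (e ξ).2
    · obtain ⟨y, hy⟩ := sur (e.symm ⟨σ, hσ⟩)
      exact ⟨y, (eP _ _).2 ⟨_, hy, by simp⟩⟩
  · push Not at hB
    obtain ⟨b, b1, b2, b3, b4⟩ := hB
    obtain ⟨k, k1, k2, k3, k4, k5⟩ := h.exists_k b1 b2 b3 b4
    obtain ⟨κ, hk⟩ := gr.ex' k2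
    have κ2 : κ * κ = 1 := gr.eq (pmul hk hk) (k5 ▸ pt)
    have lf : ∀ {β b e}, (β, b) ∈ Δ → (e = b * (ι slF * (a * ι slF * a)) ∨
        e = b * (ι slF * (a * ι slF * a)) * t) → (β * (φ * (α * φ * α)), e) ∈ Δ := by
      rintro β b e hb (rfl | rfl)
      exacts [pmul hb hc, gr.mulK (pmul hb hc) (mem_zpowers t)]
    obtain ⟨e⟩ := xs.case2 H2 ((cD hk).2 k1) κ2 (fun e => ((inD hk).1 e).elim k3 k4)
      (fun β hβ => by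
        obtain ⟨b, hb⟩ := sur β
        by_cases e : β ∈ D'
        · exact Or.inl e
        rw [inD hb, not_or] at e
        obtain ⟨-, e1, a1, a2, a3⟩ := h.third ((cD hb).1 hβ) (gr.cm hb) e.1 e.2
        obtain ⟨-, e2, a4, a5, a6⟩ := h.third k1 k2 k3 k4
        obtain ⟨n, n1, n2, -⟩ := h.bL.act_inv a5
        obtain ⟨m, m1, m2, -⟩ := h.basD.act_inv a6
        have a7 := pmul (lf hb a1) (pinv (lf hk a4))
        rw [show β * (φ * (α * φ * α)) * (κ * (φ * (α * φ * α)))⁻¹ = β * κ⁻¹ by group,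
          inv_eq_of_mul_eq_one_right κ2] at a7
        exact Or.inr ((inD a7).2 (Or.inl (h.memD (a3.mul m1) m2 (a2.mul n1) n2 (gr.cm a7)).1)))
      (let ⟨σ, τ, h1, h2⟩ := c2 k k1 k2 k3 k4; ⟨σ, τ, (eΦ _ _).2 ⟨_, hk, h1⟩, h2⟩)
    obtain ⟨P, gP, eP⟩ := gr.map e.toMonoidHom e.injective
    refine ⟨P, gP, Or.inr ⟨fun σ => ?_, k, k1, k2, k3, k4, k5⟩⟩
    obtain ⟨y, hy⟩ := sur (e.symm σ)
    exact ⟨y, (eP _ _).2 ⟨_, hy, by simp⟩⟩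

theorem cent_bot {K : Subgroup G} (h1 : O3 N[J] ≤ K) (h2 : O3 N[zpowers z] ≤ K) : C[K] = ⊥ := by
  refine eq_bot_iff.2 fun c hc => ?_
  have c1 := h.CQt (h.CQ (centralizer_anti (h.grL.le.trans h2) hc))
    (hc t (h1 (h.grM.mem h.gt))).symm
  have c2 := hc a (h1 (h.grM.mem h.ga))
  rcases (mem_zp3 h.z3).1 c1 with e | e | e
  · exact e
  · exact absurd (by rw [← e, c2, mul_inv_cancel_right]; exact mem_zpowers c) h.xZ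
  · refine absurd ?_ h.xZ
    rw [← inv_mem_iff, show (a * z * a⁻¹)⁻¹ = a * z⁻¹ * a⁻¹ by group, ← e, c2,
      mul_inv_cancel_right]
    exact c1

theorem main (H1 : S3329Stmt.{u}) (H2 : S3330Stmt.{u})
    (hy : ∀ g, g * (z * (a * z * a⁻¹)) = z * (a * z * a⁻¹) * g → g * t = t * g → g ∈ N[J]) :
    ∃ K : Subgroup G, K.Normal ∧ (K = ⊤ ∨ K.index = 2) ∧ C[K] = ⊥ ∧ Nonempty (K ≃* Spor.McL) := by
  obtain ⟨P, gr, hP⟩ := h.cases H1 H2 hy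
  obtain ⟨σf, hf⟩ := gr.ex' (h.ιt' slF)
  have sf : Perm.sign σf = 1 := by
    obtain ⟨α, β, e⟩ := slF_sqs
    obtain ⟨σ, h1⟩ := gr.ex' (h.ιt' α)
    obtain ⟨τ, h2⟩ := gr.ex' (h.ιt' β)
    have := pmul (pmul h1 h1) (pmul h2 h2)
    rw [← map_mul, ← map_mul, ← map_mul, ← e] at this
    rw [gr.eq hf this, map_mul, map_mul, map_mul, Int.units_mul_self, Int.units_mul_self, mul_one]
  obtain ⟨m, hm, em⟩ := h.conj_ta
  have em' : m⁻¹ * t * m⁻¹⁻¹ = a := by rw [← em]; group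
  rcases hP with hP | ⟨sur, k, k1, k2, k3, k4, k5⟩
  · exact ⟨⊤, inferInstance, Or.inl rfl, h.cent_bot le_top le_top,
      mcl_sub (K := ⊤) (dc_of gr h.tt h.t1 (fun σ => (hP σ).2) hf sf h.ff)
      (fun _ _ _ => mem_top _) (fun y _ hy => let ⟨σ, hσ⟩ := gr.ex' hy
        ⟨σ, hσ, (hP σ).1 ⟨y, hσ⟩⟩) (mem_top m⁻¹) (em' ▸ h.ta.symm) (em' ▸ h.at_ne)⟩
  have dc := dc_of gr h.tt h.t1 (fun σ _ => sur σ) hf sf h.ff
  have cov : Cov P t := ⟨gr, sur, h.tt, h.t1, fun σ y hy hσ => dc.dt σ y ⟨hy, by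
    show Perm.sign σ = 1
    rw [Perm.sign_of_cycleType, hσ]; decide⟩ hσ⟩
  obtain ⟨σk, hk⟩ := gr.ex' k2
  obtain ⟨σa, ha⟩ := gr.ex' h.ta
  obtain ⟨-, e, e1, e2, e3⟩ := h.third k1 k2 k3 k4
  have hc := pmul hk (pmul hf (pmul (pmul ha hf) ha))
  have he : (σk * (σf * (σa * σf * σa)), e) ∈ P := by
    rcases e1 with rfl | rfl
    exacts [hc, gr.mulK hc (mem_zpowers t)]
  obtain ⟨K, _, hK, eK, se⟩ := cov.index_two hk k5 (by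
      obtain ⟨ζ, hz⟩ := gr.ex' h.tz.symm
      obtain ⟨χ, hx⟩ := gr.ex' h.xt
      obtain ⟨D', bD, -⟩ := exists_bas gr h.tt h.basD hz hx
      rw [← bD.card]
      exact card_dvd_of_le' (mem_centralizer_iff_le.1 (bD.cent_of_act
        ((act_iff gr h.tt h.basD hz hx hk 1).2 (h.basD.act_of_cent k1)))))
    he (h.inv_J e3 e2 (gr.cm he))
    (by simp only [map_mul, sf, one_mul, mul_one, Int.units_mul_self])
    (h.not_conj ((e2.mul h.actL_t).eq (by decide))) ha (isConj_iff.2 ⟨m⁻¹, em'⟩) h.at_ne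
  have MK : O3 N[J] ≤ K := O3_le_of_index hK
  have tK : t ∈ K := MK (h.grM.mem h.gt)
  refine ⟨K, inferInstance, Or.inr hK, h.cent_bot MK (O3_le_of_index hK),
    mcl_sub (K := K) dc (fun σ y hy => cov.even_le hK tK hy.1 hy.2) (fun y yK hy => ?_)
      (inv_mem (MK hm)) (em' ▸ h.ta.symm) (em' ▸ h.at_ne)⟩
  obtain ⟨σ, hσ⟩ := gr.ex' hy
  refine ⟨σ, hσ, ?_⟩
  by_contra hs
  change Perm.sign σ ≠ 1 at hs
  have := cov.even_le hK tK (pmul hσ he) (by rw [map_mul, se, sign_cases hs]; decide)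
  exact eK (by simpa using mul_mem (inv_mem yK) this)

end Su

theorem concl (h : ∃ K : Subgroup G, K.Normal ∧ (K = ⊤ ∨ K.index = 2) ∧ C[K] = ⊥ ∧
    Nonempty (K ≃* Spor.McL)) : Nonempty (G ≃* Spor.McL) ∨ Nonempty (G ≃* MulAut Spor.McL) := by
  obtain ⟨K, _, rfl | hK, hC, ⟨e⟩⟩ := h
  exacts [Or.inl ⟨topEquiv.symm.trans e⟩, Or.inr (aut_of_index_two hK hC e S2073.result)]

end Cfsg.Agent.H67.T3
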