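import Cfsg.Agent.H67.T3H

/-! The 3-local characterisation of McL: from the hypotheses as stated. -/

set_option autoImplicit false

namespace Cfsg.Agent.H67.T3

open Subgroup Equiv Cfsg Cfsg.Agent.H63 Cfsg.Agent.H67 Cfsg.Agent.H91
open scoped commutatorElement

universe u

variable {G : Type u} [Group G]

theorem gr_of_equiv {H K : Subgroup G} (hK : K ≤ H) [(K.subgroupOf H).Normal] {P : Type*}
    [Group P] (e : H ⧸ K.subgroupOf H ≃* P) :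
    ∃ Γ : Subgroup (P × G), Gr Γ H K ∧ ∀ σ, ∃ y, (σ, y) ∈ Γ := by
  obtain ⟨Γ, h1, h2⟩ := exists_gr (e.toMonoidHom.comp (QuotientGroup.mk' (K.subgroupOf H)))
    (K := K) (fun y => (map_eq_one_iff e e.injective).trans (QuotientGroup.eq_one_iff y)) hK
  refine ⟨Γ, h1, fun σ => ?_⟩
  obtain ⟨y, hy⟩ := QuotientGroup.mk'_surjective _ (e.symm σ)
  exact ⟨y, (h2 _ _).2 ⟨y.2, (congrArg e hy).trans (e.apply_symm_apply σ)⟩⟩

theorem extra_facts {Q : Subgroup G} (hQ : IsExtraspecial 3 Q) : Nat.card ↥Z[Q] = 3 ∧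
    ∀ a ∈ Q, ∀ b ∈ Q, a * b * a⁻¹ * b⁻¹ ∈ Z[Q] := by
  rw [← map_center_subtype]
  refine ⟨(card_map_subtype _).trans hQ.2, fun a ha b hb => ⟨⁅(⟨a, ha⟩ : Q), ⟨b, hb⟩⁆, ?_, rfl⟩⟩
  rw [← hQ.1.2.2]
  exact commutator_mem_commutator (mem_top _) (mem_top _)

theorem exists_zp3 [Finite G] {Z : Subgroup G} (h : Nat.card Z = 3) :
    ∃ z, z ^ 3 = 1 ∧ z ≠ 1 ∧ Z = zpowers z := by
  obtain ⟨z, hz, z1⟩ := exists_ne_one_of_ne_bot (H := Z) (by rintro rfl; simp at h)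
  have z3 : z ^ 3 = 1 := orderOf_dvd_iff_pow_eq_one.1 (h ▸ orderOf_dvd_card_of_mem hz)
  exact ⟨z, z3, z1, (eq_of_le_of_card_ge (zpowers_le.2 hz)
    (by rw [h, Nat.card_zpowers, orderOf_eq_prime z3 z1])).symm⟩

theorem mk_hyp [Finite G] {S J Q Z : Subgroup G} (syl : IsSyl 3 S ⊤) (hZ : Z[S] = Z)
    (hZ' : Z[Q] = Z) (JS : J ≤ S) (Jc : IsMulCommutative J) (Je : ∀ a ∈ J, a ^ 3 = 1)
    (cJ : Nat.card J = 3 ^ 4) (QS : Q ≤ S) (NQ : N[Z] ≤ N[Q]) (hQ : IsExtraspecial 3 Q)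
    (cQ : Nat.card Q = 3 ^ 5) (Qe : ∀ a ∈ Q, a ^ 3 = 1) (CQ : Z ≤ J → C[Q] ≤ Q)
    (hL : ∃ Γ : Subgroup (SL25 × G), Gr Γ (O3 N[Z]) Q ∧ ∀ σ, ∃ y, (σ, y) ∈ Γ)
    (hM : ∃ Γ : Subgroup (alternatingGroup (Fin 6) × G), Gr Γ (O3 N[J]) J ∧
      ∀ σ, ∃ y, (σ, y) ∈ Γ) : ∃ z ΓL ΓM, Hyp S J Q z ΓL ΓM := by
  obtain ⟨e1, e2⟩ := extra_facts hQ
  rw [hZ'] at e1 e2
  obtain ⟨z, z3, z1, rfl⟩ := exists_zp3 e1
  obtain ⟨ΓL, l1, l2⟩ := hL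
  obtain ⟨Γ, m1, m2⟩ := hM
  obtain ⟨ΓM, m3, m4⟩ := m1.map (alternatingGroup (Fin 6)).subtype Subtype.val_injective
  refine ⟨z, ΓL, ΓM, syl, hZ, z3, z1, JS, fun a ha b hb => comm_of_isMulCommutative Jc ha hb, Je,
    cJ, QS, NQ, Qe, cQ, hZ', e2, fun hz => CQ (zpowers_le.2 hz), l1, l2, m3,
    fun σ => ⟨fun ⟨y, hy⟩ => ?_, fun hσ => ?_⟩⟩
  · obtain ⟨ξ, -, rfl⟩ := (m4 _ _).1 hy
    exact ξ.2
  · obtain ⟨y, hy⟩ := m2 ⟨σ, hσ⟩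
    exact ⟨y, (m4 _ _).2 ⟨_, hy, rfl⟩⟩

theorem hyp_of [Finite G] (S : Sylow 3 G) {J : Subgroup G} (JS : J ≤ S) (Jc : IsMulCommutative J)
    (Je : ∀ a ∈ J, a ^ 3 = 1) (cJ : Nat.card J = 3 ^ 4) (hJM : J ≤ O3 N[J])
    [(J.subgroupOf (O3 N[J])).Normal]
    (eM : O3 N[J] ⧸ J.subgroupOf (O3 N[J]) ≃* alternatingGroup (Fin 6)) {Z Q : Subgroup G}
    (hZ : Z = Z[(S : Subgroup G)]) (hQ : Q = O[{3}](N[Z])) (hQex : IsExtraspecial 3 Q)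
    (cQ : Nat.card Q = 3 ^ 5) (Qe : ∀ a ∈ Q, a ^ 3 = 1) (hQL : Q ≤ O3 N[Z])
    [(Q.subgroupOf (O3 N[Z])).Normal] (eL : O3 N[Z] ⧸ Q.subgroupOf (O3 N[Z]) ≃* SL25)
    (h3 : Z ≤ J → Nat.card Z = 3 → C[O[{3}](C[Z])] ≤ O[{3}](C[Z])) :
    ∃ z ΓL ΓM, Hyp S J Q z ΓL ΓM := by
  have NQ : N[Z] ≤ N[Q] := hQ ▸ le_normalizer_piCoreOf_self _ _
  have SZ : (S : Subgroup G) ≤ C[Z] := le_centralizer_iff.1 (hZ.le.trans inf_le_right)
  have QS : Q ≤ S := le_syl_of_le_normalizer (syl_top S) le_top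
    (hQ ▸ isPGroup_pCoreOf Nat.prime_three _)
    (Or.inl (SZ.trans ((centralizer_le_normalizer _).trans NQ)))
  have ZQ : Z ≤ Q := hQ ▸ le_pCoreOf Nat.prime_three (normalIn_normalizer Z)
    (S.isPGroup'.to_le (hZ.le.trans inf_le_left))
  have e1 := (extra_facts hQex).1
  have Z1 : Z ≠ ⊥ := by
    have : Nontrivial S := (nontrivial_iff_ne_bot _).2 (ne_bot_mono (by
      rintro rfl; simp at cQ) QS)
    rw [hZ, ← map_center_subtype, Ne, map_eq_bot_iff_of_injective _ Subtype.val_injective]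
    exact (nontrivial_iff_ne_bot _).1 S.isPGroup'.center_nontrivial
  have e2 : Z ≤ Z[Q] := le_inf ZQ (le_centralizer_iff.1 (QS.trans SZ))
  have e3 : Nat.card Z = 3 := by
    refine ((Nat.dvd_prime Nat.prime_three).1 (e1 ▸ card_dvd_of_le' e2)).resolve_left fun e => Z1 ?_
    exact card_eq_one.1 e
  refine mk_hyp (syl_top S) hZ.symm (eq_of_le_of_card_ge e2 (by rw [e1, e3])).symm JS Jc Je cJ QS
    NQ hQex cQ Qe (fun hz => ?_) (gr_of_equiv hQL eL) (gr_of_equiv hJM eM)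
  have e4 : O[{3}](C[Z]) = Q := by
    rw [piCoreOf_eq_inf_of_normalIn (centralizer_normalIn_normalizer Z), ← hQ]
    exact inf_eq_right.2 (QS.trans SZ)
  exact e4 ▸ h3 hz e3

variable [Finite G] {S J Q : Subgroup G} {z : G} {ΓL : Subgroup (SL25 × G)}
  {ΓM : Subgroup (Perm (Fin 6) × G)} {t f1 a : G}

theorem U0_comm {σ τ : Perm (Fin 6)} (h1 : σ ∈ U0) (h2 : τ ∈ U0) : σ * τ = τ * σ := by
  obtain ⟨i, j, rfl⟩ := U0_enum τ h2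
  exact ((Commute.pow_right (mem_U0.1 h1).1 _).mul_right (Commute.pow_right (mem_U0.1 h1).2 _) :)

theorem U0_cube {σ : Perm (Fin 6)} (h1 : σ ∈ U0) : σ ^ 3 = 1 := by
  obtain ⟨i, j, rfl⟩ := U0_enum σ h1
  revert i j; decide

theorem St.le_J (h : St S J Q z ΓL ΓM t f1 a) {P : Subgroup G} (hp : IsPGroup 3 P)
    (hJ : J ≤ N[P]) (ht : t ∈ N[P]) (ha : a ∈ N[P]) : P ≤ J := by
  have h1 : P ≤ O3 N[J] := fun g hg => by
    obtain ⟨c, -, hc⟩ := exists_le_cj_syl h.syl (le_top : P ⊔ J ≤ ⊤)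
      (IsPGroup.to_sup_of_normal_left' hp (h.pS.to_le h.JS) hJ)
    obtain ⟨k, hk⟩ := hp ⟨g, hg⟩
    exact mem_O3 (cj_le_of_mem_normalizer (le_normalizer (h.norm_of_le (le_sup_right.trans hc)))
      h.SJ (hc (mem_sup_left hg))) (k := k) (congrArg Subtype.val hk)
  obtain ⟨m, hm, hc⟩ := exists_cj_le_syl (hall_of_le h.syl h.SM le_top) h1 hp
  obtain ⟨w, hw⟩ := h.grM.ex hm
  have key : ∀ σ g, (σ, g) ∈ ΓM → g ∈ P → w * σ * w⁻¹ ∈ U0 := fun σ g hg e => by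
    obtain ⟨τ, a1, a2⟩ := (h.hU _).1 (hc (conj_mem_cj e))
    rwa [h.grM.eq (pconj hw hg) a2]
  have cube : ∀ σ g, (σ, g) ∈ ΓM → g ∈ P → σ ^ 3 = 1 := fun σ g hg e => by
    simpa using U0_cube (key σ g hg e)
  have inv : ∀ σ g, (σ, g) ∈ ΓM → g ∈ P → ∀ τ s, (τ, s) ∈ ΓM → s ∈ N[P] → τ * τ = 1 →
      (∀ κ : Perm (Fin 6), κ ^ 3 = 1 → κ * τ = τ * κ → κ = 1) → τ * σ * τ⁻¹ = σ⁻¹ := by
    intro σ g hg e τ s hs e' tt hκ
    have a1 := conj_mem_of_mem_normalizer e' e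
    have a2 := U0_comm (key _ _ hg e) (key _ _ (pconj hs hg) a1)
    have a3 : σ * (τ * σ * τ⁻¹) = τ * σ * τ⁻¹ * σ := by
      rwa [conj_mul, conj_mul, mul_left_inj, mul_right_inj] at a2
    refine eq_inv_of_mul_eq_one_right (hκ _ (cube _ _ (pmul hg (pconj hs hg)) (mul_mem e a1)) ?_)
    calc σ * (τ * σ * τ⁻¹) * τ = (τ * τ) * σ * τ * σ := by rw [tt]; group
      _ = τ * (τ * σ * τ⁻¹ * σ) * σ⁻¹ * (τ * τ) * σ := by group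
      _ = _ := by rw [← a3, tt]; group
  intro g hg
  obtain ⟨σ, hσ⟩ := h.grM.ex (h1 hg)
  have a1 := inv σ g hσ hg _ _ h.gt ht (by decide) fun κ e => (no_six κ e).1
  have a2 := inv σ g hσ hg _ _ h.ga ha (by decide) fun κ e => (no_six κ e).2.1
  refine h.grM.memK hσ ((no_six σ (cube σ g hσ hg)).2.2 (mul_inv_eq_iff_eq_mul.1 ?_).symm)
  calc pT * pA * σ * (pT * pA)⁻¹ = pT * (pA * σ * pA⁻¹) * pT⁻¹ := by group
    _ = (pT * σ * pT⁻¹)⁻¹ := by rw [a2]; group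
    _ = σ := by rw [a1, inv_inv]

theorem St.ya (h : St S J Q z ΓL ΓM t f1 a) :
    a * (z * (a * z * a⁻¹)) = z * (a * z * a⁻¹) * a := by
  rw [← h.Jc _ h.xJ _ h.zJ]
  calc a * (a * z * a⁻¹ * z) = (a * a) * z * a⁻¹ * z * (a⁻¹ * a) := by group
    _ = z * (a * z * a⁻¹) * a := by rw [h.aa, h.ai]; group
    _ = _ := by rw [h.Jc _ h.xJ _ h.zJ]

theorem St.yt (h : St S J Q z ΓL ΓM t f1 a) :
    t * (z * (a * z * a⁻¹)) = z * (a * z * a⁻¹) * t := (Commute.mul_right h.tz h.xt.symm :)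

theorem St.y1 (h : St S J Q z ΓL ΓM t f1 a) : z * (a * z * a⁻¹) ≠ 1 := fun e =>
  absurd (h.basD.inj (1, 1) ((E_11 _ _).trans e)) (by decide)

theorem Hyp.main3 (h : Hyp S J Q z ΓL ΓM) (H1 : S3329Stmt.{u}) (H2 : S3330Stmt.{u})
    (h3 : ∀ x ∈ J, x ≠ 1 → C[O[{3}](C1[x])] ≤ O[{3}](C1[x])) :
    Nonempty (G ≃* Spor.McL) ∨ Nonempty (G ≃* MulAut Spor.McL) := by
  obtain ⟨ΓM, t, f1, a, h⟩ := h.exists_st
  obtain ⟨ι, Λ, v, w, h⟩ := h.exists_su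
  refine concl (h.main H1 H2 fun g hg _ => ?_)
  have yJ := mul_mem h.zJ h.xJ
  have h1 := le_normalizer_piCoreOf_self {3} C1[z * (a * z * a⁻¹)]
  have h2 := h.le_J (isPGroup_pCoreOf Nat.prime_three _)
    ((h.JC.trans (centralizer_le_centralizer_singleton yJ)).trans h1)
    (h1 (mem_centralizer_singleton_iff.2 h.yt)) (h1 (mem_centralizer_singleton_iff.2 h.ya))
  rw [← le_antisymm h2 (h.JC.trans ((centralizer_anti h2).trans (h3 _ yJ h.y1)))]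
  exact h1 (mem_centralizer_singleton_iff.2 hg)

end Cfsg.Agent.H67.T3
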