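import Cfsg.Agent.H67.T3I
import Cfsg.Agent.H67.T3J

/-! The 3-local characterisation of McL: the normaliser of a non-central subgroup of order three. -/

set_option autoImplicit false

namespace Cfsg.Agent.H67.T3

open Subgroup Equiv Cfsg Cfsg.Agent.H63 Cfsg.Agent.H67 Cfsg.Agent.H91

universe u

variable {G : Type u} [Group G]

/-- A monomial frame of `J` modulo `⟨y⟩`. -/
structure Fr (J : Subgroup G) (y e1 e2 e3 s T A : G) : Prop where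
  yJ : y ∈ J
  y1 : y ≠ 1
  eJ : e1 ∈ J
  e0 : e1 ≠ 1
  sN : s ∈ N[J]
  sJ : s ^ 3 ∈ J
  sy : s * y * s⁻¹ = y
  Ty : T * y * T⁻¹ = y
  Ay : A * y * A⁻¹ = y
  s1 : s * e1 * s⁻¹ = e2
  s2 : s * e2 * s⁻¹ = e3
  s3 : s * e3 * s⁻¹ = e1
  T1 : T * e1 * T⁻¹ = e1
  T2 : T * e2 * T⁻¹ = e2⁻¹
  T3 : T * e3 * T⁻¹ = e3⁻¹
  A1 : A * e1 * A⁻¹ = e1⁻¹
  A2 : A * e2 * A⁻¹ = e2
  A3 : A * e3 * A⁻¹ = e3⁻¹
  ND : N[zpowers y ⊔ zpowers e1] ≤ N[J]

theorem cj3 (γ : G) {a b c : G} (e : a * b * a⁻¹ = c) :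
    γ * a * γ⁻¹ * (γ * b * γ⁻¹) * (γ * a * γ⁻¹)⁻¹ = γ * c * γ⁻¹ := by rw [← e]; group

theorem cj3' (γ : G) {a b c : G} (e : a * b * a⁻¹ = c⁻¹) :
    γ * a * γ⁻¹ * (γ * b * γ⁻¹) * (γ * a * γ⁻¹)⁻¹ = (γ * c * γ⁻¹)⁻¹ := by rw [cj3 γ e]; group

theorem eq_one_of_inv {c : G} (h : c⁻¹ = c) (h3 : c ^ 3 = 1) : c = 1 :=
  eq_one_of_sq_cube (by nth_rewrite 1 [← h]; exact inv_mul_cancel c) h3

theorem val_eq_zero {c : G} (h3 : c ^ 3 = 1) (h1 : c ≠ 1) {i : ZMod 3} (h : c ^ i.val = 1) :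
    i = 0 := by
  have := orderOf_dvd_of_pow_eq_one h
  rw [orderOf_eq_prime h3 h1] at this
  exact (by decide : ∀ i : ZMod 3, 3 ∣ i.val → i = 0) i this

theorem comm_of_three {z g : G} (z3 : z ^ 3 = 1) (z1 : z ≠ 1) (hg : g ∈ N[zpowers z]) {k : ℕ}
    (hk : g ^ 3 ^ k = 1) : g * z = z * g := by
  obtain ⟨m, hm⟩ : Odd (3 ^ k) := Odd.pow (by decide)
  have h2 : Commute (g ^ 2) z := by
    refine mul_inv_eq_iff_eq_mul.1 ?_
    rw [show g ^ 2 * z * (g ^ 2)⁻¹ = g * (g * z * g⁻¹) * g⁻¹ by rw [sq]; group]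
    rcases conj_cases z3 z1 hg with e | e
    · rw [e, e]
    · rw [e, ← conj_inv, e, inv_inv]
  rw [hm, pow_succ, pow_mul] at hk
  rw [eq_inv_of_mul_eq_one_right hk]
  exact (h2.pow_left m).inv_left

namespace Fr

variable {J : Subgroup G} {y e1 e2 e3 s T A : G} (h : Fr J y e1 e2 e3 s T A)
include h

theorem conj {γ : G} (hγ : γ ∈ N[J]) : Fr J (γ * y * γ⁻¹) (γ * e1 * γ⁻¹) (γ * e2 * γ⁻¹)
    (γ * e3 * γ⁻¹) (γ * s * γ⁻¹) (γ * T * γ⁻¹) (γ * A * γ⁻¹) :=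
  ⟨conj_mem_of_mem_normalizer hγ h.yJ, by simpa using h.y1, conj_mem_of_mem_normalizer hγ h.eJ,
    by simpa using h.e0, mul_mem (mul_mem hγ h.sN) (inv_mem hγ),
    by rw [conj_pow]; exact conj_mem_of_mem_normalizer hγ h.sJ,
    cj3 γ h.sy, cj3 γ h.Ty, cj3 γ h.Ay, cj3 γ h.s1,
    cj3 γ h.s2, cj3 γ h.s3, cj3 γ h.T1, cj3' γ h.T2, cj3' γ h.T3, cj3' γ h.A1, cj3 γ h.A2,
    cj3' γ h.A3, by
      rw [← cj_zpowers, ← cj_zpowers, ← cj_sup, ← cj_normalizer]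
      exact cj_le_of_mem hγ h.ND⟩

theorem eJ2 : e2 ∈ J := h.s1 ▸ conj_mem_of_mem_normalizer h.sN h.eJ
theorem eJ3 : e3 ∈ J := h.s2 ▸ conj_mem_of_mem_normalizer h.sN h.eJ2

theorem indep (Jc : ∀ a ∈ J, ∀ b ∈ J, a * b = b * a) (Je : ∀ a ∈ J, a ^ 3 = 1) {p : V3}
    (hp : E3 e1 e2 e3 p ∈ zpowers y) : p = 0 := by
  have n2 : e2 ≠ 1 := by rw [← h.s1]; simpa using h.e0
  have n3 : e3 ≠ 1 := by rw [← h.s2]; simpa using n2
  have a1 := mul_inv_eq_iff_eq_mul.2 (comm_of_zp (mul_inv_eq_iff_eq_mul.1 h.Ty) hp)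
  have a2 := mul_inv_eq_iff_eq_mul.2 (comm_of_zp (mul_inv_eq_iff_eq_mul.1 h.Ay) hp)
  rw [E3_conj, h.T1, h.T2, h.T3] at a1
  rw [E3_conj, h.A1, h.A2, h.A3] at a2
  simp only [E3, E, inv_pow, mul_right_inj] at a1 a2
  have b1 := pow_mem h.eJ p.1.val
  have b2 := pow_mem h.eJ2 p.2.1.val
  have b3 := pow_mem h.eJ3 p.2.2.val
  have b4 : A * (e2 ^ p.2.1.val * e3 ^ p.2.2.val) * A⁻¹ = e2 ^ p.2.1.val * (e3 ^ p.2.2.val)⁻¹ := by
    rw [← conj_mul, ← conj_pow, ← conj_pow, h.A2, h.A3, inv_pow]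
  rw [← mul_inv_rev, ← Jc _ b2 _ b3] at a1
  have c1 := eq_one_of_inv a1 (Je _ (mul_mem b2 b3))
  rw [c1, mul_one, mul_inv_cancel, eq_comm, mul_inv_eq_one] at b4
  rw [← b4] at c1
  have c2 := eq_one_of_sq_cube c1 (Je _ b2)
  rw [← b4, c2, inv_one, mul_one, mul_one, mul_one] at a2
  exact Prod.ext (val_eq_zero (Je _ h.eJ) h.e0 (eq_one_of_inv a2 (Je _ b1)))
    (Prod.ext (val_eq_zero (Je _ h.eJ2) n2 c2) (val_eq_zero (Je _ h.eJ3) n3 (b4 ▸ c2)))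

end Fr

/-- An element of order three normalising `⟨pT, pA⟩`. -/
def pR : Perm (Fin 6) := swap 0 2 * swap 2 3 * (swap 1 5 * swap 5 4)

theorem sl_pair : ∀ κ : SL25, κ ^ 3 = 1 → κ = 1 ∨ κ = slX ∨ κ = slX⁻¹ ∨ (slX * κ) ^ 2 = -1 ∨
    (slX * κ⁻¹) ^ 2 = -1 ∨ (slX * κ) ^ 5 = -1 := by decide +kernel

theorem gl4 : ∀ F : M2, F * F = -1 → ∀ H : M2,
    (H * F = 1 ∨ H * F * -1 = 1 ∨ H * F * (H * F) * -1 = 1) → ∀ p : V2, H.ap p = p →
    p = 0 ∨ H = 1 := by decide +kernel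

theorem exists_quot' {H K : Subgroup G} [Finite G] (h : K ⊴ H) : ∃ (X : Type u) (_ : Group X)
    (_ : Finite X) (Δ : Subgroup (X × G)), Gr Δ H K ∧ ∀ ξ, ∃ y, (ξ, y) ∈ Δ :=
  have := h.normal_subgroupOf
  ⟨_, inferInstance, inferInstance, gr_of_equiv h.1 (MulEquiv.refl _)⟩

variable [Finite G] {S J Q : Subgroup G} {z : G} {ΓL : Subgroup (SL25 × G)}
  {ΓM : Subgroup (Perm (Fin 6) × G)} {t f1 a : G} {ι : SL25 →* G} {Λ : Subgroup G} {v w : G}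

theorem St.same (h : St S J Q z ΓL ΓM t f1 a) {σ : Perm (Fin 6)} {m m' j : G} (h1 : (σ, m) ∈ ΓM)
    (h2 : (σ, m') ∈ ΓM) (hj : j ∈ J) : m * j * m⁻¹ = m' * j * m'⁻¹ := by
  have := h.Jc _ (h.grM.div' h1 h2) _ hj
  calc m * j * m⁻¹ = m * (j * (m⁻¹ * m')) * m'⁻¹ := by group
    _ = _ := by rw [← this]; group

theorem St.exists_fr (h : St S J Q z ΓL ΓM t f1 a) :
    ∃ e1 e2 e3 s, Fr J (z * (a * z * a⁻¹)) e1 e2 e3 s t a := by
  obtain ⟨ρ, hρ⟩ := (h.ranM pR).2 (by decide)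
  have ρN := h.grJ hρ
  have ρ3 : ρ ^ 3 ∈ J := h.grM.memK (ppow hρ 3) (by decide)
  have k1 : ∀ j ∈ J, a * (ρ * j * ρ⁻¹) * a⁻¹ = ρ * (t * j * t⁻¹) * ρ⁻¹ := fun j hj => by
    rw [h.same h.ga ((by decide : pR * pT * pR⁻¹ = pA) ▸ pconj hρ h.gt)
      (conj_mem_of_mem_normalizer ρN hj)]; group
  have k2 : ∀ j ∈ J, t * (a * (ρ * j * ρ⁻¹) * a⁻¹) * t⁻¹ = ρ * (a * j * a⁻¹) * ρ⁻¹ := fun j hj => by
    have := h.same (pmul h.gt h.ga) ((by decide : pR * pA * pR⁻¹ = pT * pA) ▸ pconj hρ h.ga)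
      (conj_mem_of_mem_normalizer ρN hj)
    calc _ = t * a * (ρ * j * ρ⁻¹) * (t * a)⁻¹ := by group
      _ = _ := by rw [this]; group
  have b := h.basD
  have yJ := (b.memE (1, 1)).1
  have eJ := (b.memE (1, -1)).1
  have ty := h.basD.act_of_cent (mem_centralizer_iff_le.2 inf_le_right) (1, 1)
  have te := h.basD.act_of_cent (mem_centralizer_iff_le.2 inf_le_right) (1, -1)
  have ay := h.act_a (1, 1)
  have ae := h.act_a (1, -1)
  rw [M2.ap_one] at ty te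
  rw [show sw.ap (1, 1) = (1, 1) by decide] at ay
  rw [show sw.ap (1, -1) = -(1, -1) by decide, b.neg] at ae
  have y1 : E z (a * z * a⁻¹) (1, 1) ≠ 1 := fun e => absurd (b.inj _ e) (by decide)
  have ND : N[zpowers (E z (a * z * a⁻¹) (1, 1)) ⊔ zpowers (E z (a * z * a⁻¹) (1, -1))] ≤ N[J] := by
    have : zpowers (E z (a * z * a⁻¹) (1, 1)) ⊔ zpowers (E z (a * z * a⁻¹) (1, -1)) =
        J ⊓ C1[t] := by
      refine le_antisymm (sup_le (zpowers_le.2 (b.memE _)) (zpowers_le.2 (b.memE _))) fun g hg => ?_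
      obtain ⟨p, rfl⟩ := (b.mem g).1 hg
      obtain ⟨i, j, rfl⟩ := (by decide : ∀ p : V2, ∃ i j : ZMod 3,
        p = i • (1, 1) + j • (1, -1)) p
      rw [b.add, b.smul, b.smul]
      exact mul_mem (mem_sup_left (pow_mem (mem_zpowers _) _))
        (mem_sup_right (pow_mem (mem_zpowers _) _))
    rw [this]
    exact fun _ => h.NDJ
  have ρy : ρ * E z (a * z * a⁻¹) (1, 1) * ρ⁻¹ = E z (a * z * a⁻¹) (1, 1) := by
    have a1 := k1 _ yJ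
    have a2 := k2 _ yJ
    rw [ty] at a1
    rw [a1, ay] at a2
    obtain ⟨p, hp⟩ := (b.mem _).1 ⟨conj_mem_of_mem_normalizer ρN yJ,
      mem_centralizer_singleton_iff.2 (mul_inv_eq_iff_eq_mul.1 a2).symm⟩
    rw [← hp, h.act_a] at a1
    rcases (by decide : ∀ p : V2, sw.ap p = p → p = 0 ∨ p = (1, 1) ∨ p = -(1, 1)) p (b.injE a1)
      with rfl | rfl | rfl
    · rw [E_zero, eq_comm] at hp
      exact absurd (by simpa using hp) y1
    · exact hp.symm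
    · rw [b.neg] at hp
      refine absurd (eq_one_of_inv ?_ (h.Je _ yJ)) y1
      have c := h.Jc _ ρ3 _ yJ
      generalize E z (a * z * a⁻¹) (1, 1) = y at hp c
      calc y⁻¹ = ρ * (ρ * y * ρ⁻¹)⁻¹ * ρ⁻¹ := by rw [← hp, inv_inv, ← hp]
        _ = ρ * (ρ * (ρ * y * ρ⁻¹) * ρ⁻¹) * ρ⁻¹ := by nth_rewrite 2 [← hp]; group
        _ = ρ ^ 3 * y * (ρ ^ 3)⁻¹ := by rw [pow_three]; group
        _ = y := by rw [c, mul_inv_cancel_right]
  have e0 : E z (a * z * a⁻¹) (1, -1) ≠ 1 := fun e => absurd (b.inj _ e) (by decide)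
  rw [← E_11]
  generalize E z (a * z * a⁻¹) (1, 1) = y at *
  generalize E z (a * z * a⁻¹) (1, -1) = e at *
  have eJ2 := conj_mem_of_mem_normalizer ρN eJ
  have A2 := k1 _ eJ
  have T2 := k2 _ eJ
  rw [te] at A2
  rw [A2, ae, ← conj_inv] at T2
  have A3 := k1 _ eJ2
  have T3 := k2 _ eJ2
  rw [T2, ← conj_inv] at A3
  rw [A2, A3, ← conj_inv, inv_eq_iff_eq_inv] at T3
  refine ⟨e, _, _, ρ, yJ, y1, eJ, e0, ρN, ρ3, ρy, ty, ay, rfl, rfl, ?_, te, T2, T3, ae, A2, A3, ND⟩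
  calc _ = ρ ^ 3 * e * (ρ ^ 3)⁻¹ := by rw [pow_three]; group
    _ = e := by rw [h.Jc _ ρ3 _ eJ, mul_inv_cancel_right]

namespace Su

variable (h : Su S J Q z ΓL ΓM t f1 a ι Λ v w) {l : G}
include h

theorem ΛZ {c : G} (h1 : c ∈ Λ) (h2 : c ∈ zpowers z) : c = 1 :=
  eq_one_of_inv (by rw [← ((h.hL c).1 h1).2, comm_of_zp h.tz h2, mul_inv_cancel_right])
    (h.bL.cube h1)

omit [Finite G] in
theorem tl (hl : l ∈ Λ) (l1 : l ≠ 1) : t * l ≠ l * t := fun e =>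
  l1 (eq_one_of_inv (by rw [← ((h.hL l).1 hl).2, e, mul_inv_cancel_right]) (h.bL.cube hl))

theorem Sl (hl : l ∈ J ⊓ Q) {s : G} (hs : s ∈ S) : s * l * s⁻¹ * l⁻¹ ∈ zpowers z :=
  ((((h.inf_eq h.JS h.JC h.cJ).2 l).1 hl).2 hs).2

theorem exq (hl : l ∈ Λ) (l1 : l ≠ 1) {c : G} (hc : c ∈ zpowers z) :
    ∃ q ∈ Q, q * l * q⁻¹ = c * l := by
  obtain ⟨q, hq, e⟩ : ∃ q ∈ Q, q * l ≠ l * q := by
    by_contra hn
    push Not at hn
    exact l1 (h.ΛZ hl (h.Qz.le ⟨h.ΛQ hl, hn⟩))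
  have a1 := h.QQ q hq l (h.ΛQ hl)
  have a2 := comm_of_zp (h.Sz (h.QS hq)) a1
  have a3 : q * l * q⁻¹ = q * l * q⁻¹ * l⁻¹ * l := by group
  have a4 : q * l * q⁻¹ * l⁻¹ ≠ 1 := by rwa [Ne, mul_inv_eq_one, mul_inv_eq_iff_eq_mul]
  have a5 := h.Qe _ (h.ZQ a1)
  generalize q * l * q⁻¹ * l⁻¹ = d at a1 a2 a3 a4 a5
  have a6 : zpowers z ≤ zpowers d := by
    rcases (mem_zp3 h.z3).1 a1 with rfl | rfl | rfl
    exacts [absurd rfl a4, le_rfl, zpowers_inv.ge]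
  obtain ⟨i, rfl⟩ := zp_fin a5 (a6 hc)
  refine ⟨q ^ i.val, pow_mem hq _, ?_⟩
  induction i.val with
  | zero => simp
  | succ k ih =>
    calc _ = q * (q ^ k * l * (q ^ k)⁻¹) * q⁻¹ := by rw [pow_succ']; group
      _ = (q * d ^ k) * l * q⁻¹ := by rw [ih]; group
      _ = d ^ k * (q * l * q⁻¹) := by rw [(Commute.pow_right a2 k).eq]; group
      _ = _ := by rw [a3, pow_succ, mul_assoc]

theorem nconj (hl : l ∈ Λ) (l1 : l ≠ 1) {c g : G} (hc : c ∈ zpowers z) : g * z * g⁻¹ ≠ c * l := by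
  intro e
  obtain ⟨q, -, hq⟩ := h.exq hl l1 hc
  have : q⁻¹ * g * z * (q⁻¹ * g)⁻¹ = l := by
    calc _ = q⁻¹ * (g * z * g⁻¹) * q := by group
      _ = l := by rw [e, ← hq]; group
  rcases h.fusion (h.ΛJ hl) this (norm_of_inv ((h.hL l).1 hl).2) with e | e
  · exact h.tl hl l1 (comm_of_zp h.tz e)
  · exact h.tl hl l1 (comm_of_zp h.xt.symm e)

theorem cz_of (hl : l ∈ Λ) (l1 : l ≠ 1) {g : G} (e : g * z * g⁻¹ * z⁻¹ ∈ zpowers l) :
    g * z = z * g := by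
  have c := h.Jc _ h.zJ _ (h.ΛJ hl)
  rcases (mem_zp3 (h.bL.cube hl)).1 e with e | e | e <;> rw [mul_inv_eq_iff_eq_mul] at e
  · exact mul_inv_eq_iff_eq_mul.1 (e.trans (one_mul z))
  · exact absurd (e.trans c.symm) (h.nconj hl l1 (mem_zpowers z))
  · exact absurd (e.trans (Commute.inv_right c).eq.symm)
      (h.nconj (inv_mem hl) (inv_ne_one.2 l1) (mem_zpowers z))

theorem cent_zl (hl : l ∈ Λ) (l1 : l ≠ 1) {g : G} (gz : g * z = z * g) (gl : g * l = l * g) :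
    g ∈ S := by
  obtain ⟨n, hn, gt⟩ : ∃ n ∈ Q, n * g * t = t * (n * g) := by
    obtain ⟨σ, hσ⟩ := h.grL.ex (conj_mem_of_mem_normalizer
      (norm_O3 (le_normalizer (norm_of_comm gz))) (h.grL.mem h.tL))
    have e : g * t * g⁻¹ * (g * t * g⁻¹) = 1 := by rw [conj_mul, h.tt]; group
    rcases sl_inv σ (h.grL.fn _ (e ▸ pmul hσ hσ)) with rfl | rfl
    · have := eq_one_of_sq_cube e (h.Qe _ (h.grL.memK hσ rfl))
      exact absurd (by simpa using this) h.t1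
    · exact exists_cent h.Qe h.tt (h.grL.memK (pmul h.tL hσ) (by simp))
  suffices n * g ∈ J by simpa using mul_mem (inv_mem (h.QS hn)) (h.JS this)
  have gz' : n * g * z = z * (n * g) := (Commute.mul_left (h.Sz (h.QS hn)) gz :)
  have gl' : n * g * l = l * (n * g) := by
    have a1 := h.QQ n hn l (h.ΛQ hl)
    have a2 : n * g * l * (n * g)⁻¹ * l⁻¹ = n * l * n⁻¹ * l⁻¹ := by
      rw [mul_assoc n g l, gl]; group
    rw [← a2] at a1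
    generalize n * g = g at a1 gt ⊢
    have a3 := h.ΛZ ((h.hL _).2 ⟨h.ZJ a1, by
      calc _ = t * g * l * (t * g)⁻¹ * (t * l * t⁻¹)⁻¹ := by group
        _ = g * (t * l * t⁻¹) * g⁻¹ * (t * l * t⁻¹)⁻¹ := by rw [← gt]; group
        _ = l⁻¹ * (l * (g * l * g⁻¹ * l⁻¹)⁻¹) := by
          rw [((h.hL l).1 hl).2, h.Jc _ (h.ΛJ hl) _ (inv_mem (h.ZJ a1))]; group
        _ = _ := by group⟩) a1
    rwa [mul_inv_eq_one, mul_inv_eq_iff_eq_mul] at a3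
  generalize n * g = g at gt gz' gl'
  have lx := h.Jc _ h.xJ _ (h.ΛJ hl)
  obtain ⟨κ, hκ⟩ := h.norm_ι gt (norm_of_comm gz') slX
  have k3 : κ ^ 3 = 1 := h.inj (by rw [map_pow, ← hκ, conj_pow, ← map_pow, slX_pow]; simp)
  have kl : Commute (ι κ) l := by
    rw [← hκ, h.ιX]; exact (Commute.mul_left gl' lx).mul_left (Commute.inv_left gl')
  have xl : Commute (ι slX) l := h.ιX ▸ lx
  have nt : ∀ σ, Commute (ι σ) l → σ ≠ -1 := fun σ c e => h.tl hl l1 (by rwa [e, h.ιt] at c)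
  have cJ : ∀ b ∈ J, Commute b l := fun b hb => h.Jc _ hb _ (h.ΛJ hl)
  have nt' : ∀ b, Commute b l → b * t ∉ J := fun b c e =>
    h.tl hl l1 (by simpa using (c.inv_left.mul_left (cJ _ e)).eq)
  have cD : ∀ b, b * z = z * b → b * (a * z * a⁻¹) * b⁻¹ = a * z * a⁻¹ → b ∈ C[J ⊓ C1[t]] :=
    fun b b1 b2 => by
      rw [← h.basD.closure, centralizer_closure]
      rintro g (rfl | rfl)
      exacts [b1.symm, (mul_inv_eq_iff_eq_mul.1 b2).symm]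
  rcases sl_pair κ k3 with rfl | rfl | rfl | e | e | e
  · rw [map_one, h.ιX] at hκ
    exact absurd (by simpa using hκ) h.z1
  · rw [h.ιX] at hκ
    rcases h.B0 (cD g gz' hκ) gt with e | e | e
    exacts [e, absurd e (nt' g gl'), absurd e.2.1 (nt' _ (Commute.mul_left gl' gl'))]
  · rw [map_inv, h.ιX] at hκ
    have b1 : g * ι slF ∈ C[J ⊓ C1[t]] := cD _ (Commute.mul_left gz' (h.ιz slF) :) (by
      calc _ = g * (ι slF * (a * z * a⁻¹) * (ι slF)⁻¹) * g⁻¹ := by group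
        _ = (g * (a * z * a⁻¹) * g⁻¹)⁻¹ := by rw [h.fx]; group
        _ = _ := by rw [hκ, inv_inv])
    have gJ : g ∈ N[J] := by
      simpa using mul_mem (h.NDJ (centralizer_le_normalizer _ b1)) (inv_mem h.fJ)
    obtain ⟨H, hH⟩ := h.exL gJ gt
    obtain ⟨F, hF⟩ := h.exL h.fJ (h.ιt' slF)
    obtain ⟨p, rfl⟩ := (h.bL.mem l).1 hl
    have b2 := hH.mul hF
    refine absurd hκ (h.L3 gz' hH (Or.inl ((gl4 F (h.bL.act_eq (hF.mul hF) (h.ff ▸ h.actL_t)) H ?_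
      p (h.bL.injE ?_)).resolve_left fun e => l1 (by rw [e, E_zero]))))
    · exact (h.B0 b1 (Commute.mul_left gt (h.ιt' slF) :)).imp
        (fun e => h.bL.act_eq b2 (h.actL_J e)) (Or.imp
          (fun e => h.bL.act_eq (b2.mul h.actL_t) (h.actL_J e))
          fun e => h.bL.act_eq ((b2.mul b2).mul h.actL_t) (h.actL_J e.2.1))
    · rw [← hH, gl', mul_inv_cancel_right]
  · exact absurd e (nt _ (by rw [map_pow, map_mul]; exact (xl.mul_left kl).pow_left _))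
  · exact absurd e (nt _ (by
      rw [map_pow, map_mul, map_inv]; exact (xl.mul_left kl.inv_left).pow_left _))
  · exact absurd e (nt _ (by rw [map_pow, map_mul]; exact (xl.mul_left kl).pow_left _))

theorem mem_W (hl : l ∈ Λ) (l1 : l ≠ 1) {g : G} (gz : g * z = z * g) (gl : g ∈ N[zpowers l]) :
    g ∈ S ⊓ C1[l] ∨ g * t ∈ S ⊓ C1[l] := by
  refine (conj_cases (h.bL.cube hl) l1 gl).imp (fun e => ?_) fun e => ?_
  · have := mul_inv_eq_iff_eq_mul.1 e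
    exact ⟨h.cent_zl hl l1 gz this, mem_centralizer_singleton_iff.2 this⟩
  · have : g * t * l = l * (g * t) := mul_inv_eq_iff_eq_mul.1 (by
      calc g * t * l * (g * t)⁻¹ = g * (t * l * t⁻¹) * g⁻¹ := by group
        _ = l := by rw [((h.hL l).1 hl).2, ← conj_inv, e, inv_inv])
    exact ⟨h.cent_zl hl l1 (Commute.mul_left gz h.tz :) this, mem_centralizer_singleton_iff.2 this⟩

theorem cent_bar (hl : l ∈ Λ) (l1 : l ≠ 1) {k : G} (kl : k ∈ N[zpowers l])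
    (H : ∀ j ∈ J, k * j * k⁻¹ * j⁻¹ ∈ zpowers l) : k ∈ S ⊓ C1[l] := by
  refine (h.mem_W hl l1 (h.cz_of hl l1 (H z h.zJ)) kl).resolve_right fun e => ?_
  obtain ⟨μ, hμ, hμ'⟩ : ∃ μ ∈ Λ, μ ∉ zpowers l := by
    refine SetLike.not_le_iff_exists.1 fun e => ?_
    have := card_le_of_le e
    rw [h.bL.card, Nat.card_zpowers, orderOf_eq_prime (h.bL.cube hl) l1] at this
    omega
  have a1 := h.Sl ⟨h.ΛJ hμ, h.ΛQ hμ⟩ e.1
  have a2 := H μ (h.ΛJ hμ)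
  have a3 : k * t * μ * (k * t)⁻¹ * μ⁻¹ = μ⁻¹ * (k * μ * k⁻¹ * μ⁻¹)⁻¹ * μ⁻¹ := by
    calc _ = k * (t * μ * t⁻¹) * k⁻¹ * μ⁻¹ := by group
      _ = _ := by rw [((h.hL μ).1 hμ).2]; group
  rw [a3] at a1
  have a4 := h.ΛZ (mul_mem (mul_mem (inv_mem hμ) (inv_mem (zpowers_le.2 hl a2))) (inv_mem hμ)) a1
  generalize k * μ * k⁻¹ * μ⁻¹ = c at a2 a4
  refine hμ' (mem_of_sq_cube ?_ (h.bL.cube hμ))
  rw [show μ * μ = c⁻¹ by
    calc μ * μ = μ * (μ⁻¹ * c⁻¹ * μ⁻¹) * μ := by rw [a4, mul_one]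
      _ = _ := by group]
  exact inv_mem a2

theorem syl_l (hl : l ∈ Λ) (l1 : l ≠ 1) {s : G} (h1 : s ∈ S ⊓ C1[l]) (h2 : s ∉ J) :
    Nat.card ↥(S ⊓ C1[l]) = 243 ∧ IsSyl 3 (S ⊓ C1[l]) N[zpowers l] := by
  have JS : J ≤ S ⊓ C1[l] := le_inf h.JS (h.JC.trans (centralizer_le_centralizer_singleton (h.ΛJ hl)))
  have key : ∀ P : Subgroup G, P ≤ N[zpowers l] → IsPGroup 3 P → S ⊓ C1[l] ≤ P →
      Nat.card P = 243 := fun P P1 P2 P3 => by
    obtain ⟨g, -, hg⟩ := exists_le_cj_syl h.syl le_top P2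
    have a1 := card_dvd_of_le' hg
    have a2 := card_lt_of_lt (lt_of_le_of_ne (JS.trans P3) fun e => h2 (e.ge (P3 h1)))
    rw [card_cj, h.cS] at a1
    rw [h.cJ] at a2
    obtain ⟨j, hj, e⟩ := (Nat.dvd_prime_pow Nat.prime_three (m := 6)).1 a1
    have a3 : j ≠ 6 := by
      rintro rfl
      have a4 := eq_of_le_of_card_ge hg (by rw [card_cj, h.cS, e]; norm_num)
      have a5 : l ∈ cj g (zpowers z) := by
        rw [← h.zS, cj_inf, cj_centralizer, ← a4]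
        refine ⟨P3 (JS (h.ΛJ hl)), fun b hb => ?_⟩
        obtain ⟨k, hk⟩ := P2 ⟨b, hb⟩
        exact comm_of_three (h.bL.cube hl) l1 (P1 hb) (k := k) (congrArg Subtype.val hk)
      rw [cj_zpowers] at a5
      rcases (mem_zp3 (by rw [conj_pow, h.z3]; group)).1 a5 with e | e | e
      · exact l1 e
      · exact h.nconj hl l1 (one_mem _) (e.symm.trans (one_mul l).symm)
      · exact h.nconj (g := g) (inv_mem hl) (inv_ne_one.2 l1) (one_mem _)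
          (by rw [e, inv_inv, one_mul])
    rw [e] at a2 ⊢
    interval_cases j <;> simp_all
  have le : S ⊓ C1[l] ≤ N[zpowers l] := fun g hg =>
    norm_of_comm (mem_centralizer_singleton_iff.1 hg.2)
  have c := key _ le (h.pS.to_le inf_le_left) le_rfl
  exact ⟨c, syl_of_maximal le (h.pS.to_le inf_le_left) fun P P1 P2 P3 =>
    (eq_of_le_of_card_ge P3 (by rw [c, key P P1 P2 P3])).symm⟩

theorem norm_l (H : S3343Stmt.{u}) (hl : l ∈ Λ) {e1 e2 e3 s T A : G}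
    (F : Fr J l e1 e2 e3 s T A) (sS : s ∈ S) (ez : e1 * (e2 * e3) ∈ zpowers z) :
    N[zpowers l] ≤ N[J] := by
  have l1 := F.y1
  have l3 := h.bL.cube hl
  have lJ : zpowers l ≤ J := zpowers_le.2 F.yJ
  have ind := @F.indep _ _ _ _ _ _ _ _ _ _ h.Jc h.Je
  obtain ⟨X, _, _, Δ, gr, sur⟩ := exists_quot' (normalIn_normalizer (zpowers l))
  have ex : ∀ {g}, g * l = l * g → ∃ γ, (γ, g) ∈ Δ := fun e => gr.ex (norm_of_comm e)
  have exJ : ∀ {j}, j ∈ J → ∃ γ, (γ, j) ∈ Δ := fun hj => ex (h.Jc _ hj _ F.yJ)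
  have im : ∀ A : Subgroup G, A ≤ N[zpowers l] → zpowers l ≤ A → ∃ A' : Subgroup X,
      (∀ {γ g}, (γ, g) ∈ Δ → (γ ∈ A' ↔ g ∈ A)) ∧ Nat.card A = Nat.card A' * 3 := by
    intro A hA hA'
    have e : ∀ {γ g}, (γ, g) ∈ Δ → (γ ∈ (Δ ⊓ A.comap (MonoidHom.snd X G)).map
        (MonoidHom.fst X G) ↔ g ∈ A) := fun {γ g} hg =>
      ⟨fun ⟨p, hp, e⟩ => by
        have : (γ, p.2) ∈ Δ := e ▸ hp.1
        simpa using mul_mem (hA' (gr.div hg this)) (show p.2 ∈ A from hp.2),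
        fun e => ⟨(γ, g), ⟨hg, e⟩, rfl⟩⟩
    refine ⟨_, e, ?_⟩
    rw [gr.card (A := A) (fun y => ⟨fun hy => let ⟨σ, hσ⟩ := gr.ex (hA hy); ⟨σ, (e hσ).2 hy, hσ⟩,
      fun ⟨σ, h1, h2⟩ => (e h2).1 h1⟩) fun σ _ => sur σ, Nat.card_zpowers, orderOf_eq_prime l3 l1]
  obtain ⟨ε1, h1⟩ := exJ F.eJ
  obtain ⟨ε2, h2⟩ := exJ F.eJ2
  obtain ⟨ε3, h3⟩ := exJ F.eJ3
  obtain ⟨σ, hs⟩ := ex (mul_inv_eq_iff_eq_mul.1 F.sy)
  obtain ⟨τ, hT⟩ := ex (mul_inv_eq_iff_eq_mul.1 F.Ty)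
  obtain ⟨α, hA⟩ := ex (mul_inv_eq_iff_eq_mul.1 F.Ay)
  have JN : J ≤ N[zpowers l] := fun j hj => norm_of_comm (h.Jc _ hj _ F.yJ)
  obtain ⟨J', eJ, cJ⟩ := im J JN lJ
  have hE : ∀ p, (E3 ε1 ε2 ε3 p, E3 e1 e2 e3 p) ∈ Δ := fun p => pmul (ppow h1 _) (gr_E h2 h3 _)
  have cm : ∀ {γ g γ' g'}, (γ, g) ∈ Δ → (γ', g') ∈ Δ → g * g' = g' * g → γ * γ' = γ' * γ :=
    fun a b e => gr.eq (pmul a b) (e ▸ pmul b a)
  obtain ⟨J'', bas⟩ := exists_bas3 (u := ε1) (v := ε2) (w := ε3)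
    (gr.fn _ (h.Je _ F.eJ ▸ ppow h1 3)) (gr.fn _ (h.Je _ F.eJ2 ▸ ppow h2 3))
    (gr.fn _ (h.Je _ F.eJ3 ▸ ppow h3 3)) (cm h1 h2 (h.Jc _ F.eJ _ F.eJ2))
    (cm h1 h3 (h.Jc _ F.eJ _ F.eJ3)) (cm h2 h3 (h.Jc _ F.eJ2 _ F.eJ3))
    fun p e => ind (gr.memK (hE p) e)
  obtain rfl : J'' = J' := by
    refine eq_of_le_of_card_ge (fun γ hγ => ?_) (by rw [h.cJ] at cJ; rw [bas.card]; omega)
    obtain ⟨p, rfl⟩ := (bas.mem γ).1 hγ
    exact (eJ (hE p)).2 (mul_mem (pow_mem F.eJ _) (mul_mem (pow_mem F.eJ2 _) (pow_mem F.eJ3 _)))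
  have nJ : ∀ {γ g}, (γ, g) ∈ Δ → g ∈ N[J] → γ ∈ N[J''] := fun hg e =>
    mem_normalizer_of_cj_le (cj_le_iff.2 fun ξ hξ => let ⟨y, hy⟩ := sur ξ
      (eJ (pconj hg hy)).2 (conj_mem_of_mem_normalizer e ((eJ hy).1 hξ)))
  have sl : s ∈ S ⊓ C1[l] := ⟨sS, mem_centralizer_singleton_iff.2 (mul_inv_eq_iff_eq_mul.1 F.sy)⟩
  have sJ : s ∉ J := fun e => by
    have := F.s1
    rw [h.Jc _ e _ F.eJ, mul_inv_cancel_right] at this
    refine absurd (ind (p := (1, -1, 0)) ?_) (by decide)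
    rw [show E3 e1 e2 e3 (1, -1, 0) = e1 ^ 3 by
      simp [E3, E, ← this, pow_succ, show (-1 : ZMod 3).val = 2 from rfl, ZMod.val_one, mul_assoc],
      h.Je _ F.eJ]
    exact one_mem _
  obtain ⟨cS, syl⟩ := h.syl_l hl l1 sl sJ
  have JS : J ≤ S ⊓ C1[l] := le_inf h.JS (h.JC.trans (centralizer_le_centralizer_singleton F.yJ))
  obtain ⟨S', eS, cS'⟩ := im _ syl.1 (lJ.trans JS)
  have hz := pmul h1 (pmul h2 h3)
  have z1 : e1 * (e2 * e3) ≠ 1 := fun e =>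
    absurd (ind (p := (1, 1, 1)) (by rw [X9.E111, e]; exact one_mem _)) (by decide)
  have eC : ∀ {γ g}, (γ, g) ∈ Δ → (γ ∈ C1[ε1 * (ε2 * ε3)] ↔ g * z = z * g) := fun {γ g} hg => by
    rw [mem_centralizer_singleton_iff]
    refine ⟨fun e => h.cz_of hl l1 ?_, fun e => cm hg hz (comm_of_zp e ez)⟩
    have a1 := gr.div (pconj hg hz) ((mul_inv_eq_iff_eq_mul.2 e).symm ▸ hz)
    have a2 := gr.div (pinv (pconj hg hz)) (pinv ((mul_inv_eq_iff_eq_mul.2 e).symm ▸ hz))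
    rcases (mem_zp3 h.z3).1 ez with e' | e' | e'
    · exact absurd e' z1
    · rwa [e'] at a1
    · rwa [e', conj_inv, inv_inv] at a2
  have tN : t ∈ N[zpowers l] := norm_of_inv ((h.hL l).1 hl).2
  have SW : S ⊓ C1[l] ≤ C1[z] ⊓ N[zpowers l] :=
    le_inf (fun g hg => mem_centralizer_singleton_iff.2 (h.Sz hg.1)) syl.1
  obtain ⟨W, eW, cW⟩ := im (C1[z] ⊓ N[zpowers l]) inf_le_right ((lJ.trans JS).trans SW)
  have X9' : X9 J'' S' ε1 ε2 ε3 σ τ α :=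
    { bas := bas
      s1 := gr.eq (pconj hs h1) (F.s1 ▸ h2), s2 := gr.eq (pconj hs h2) (F.s2 ▸ h3)
      s3 := gr.eq (pconj hs h3) (F.s3.symm ▸ h1), T1 := gr.eq (pconj hT h1) (F.T1.symm ▸ h1)
      T2 := gr.eq (pconj hT h2) (F.T2.symm ▸ pinv h2)
      T3 := gr.eq (pconj hT h3) (F.T3.symm ▸ pinv h3)
      A1 := gr.eq (pconj hA h1) (F.A1.symm ▸ pinv h1), A2 := gr.eq (pconj hA h2) (F.A2.symm ▸ h2)
      A3 := gr.eq (pconj hA h3) (F.A3.symm ▸ pinv h3)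
      g1 := fun γ hγ => by
        obtain ⟨g, hg⟩ := sur γ
        have a1 := gr.div (pconj hg h1)
          ((mul_inv_eq_iff_eq_mul.2 (mem_centralizer_singleton_iff.1 hγ)).symm ▸ h1)
        refine nJ hg (F.ND (mem_normalizer_of_cj_le ?_))
        rw [cj_sup, cj_eq_self (gr.mem hg), cj_zpowers]
        refine sup_le le_sup_left (zpowers_le.2 ?_)
        simpa using mul_mem (mem_sup_left a1 : _ ∈ zpowers l ⊔ zpowers e1)
          (mem_sup_right (mem_zpowers e1))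
      g2 := fun γ hγ => by
        obtain ⟨g, hg⟩ := sur γ
        refine nJ hg ((h.mem_W hl l1 ((eC hg).1 hγ) (gr.mem hg)).elim (fun e => h.SJ e.1) fun e => ?_)
        simpa using mul_mem (h.SJ e.1) (inv_mem (h.grJ h.gt))
      cent := fun γ hγ => by
        obtain ⟨g, hg⟩ := sur γ
        refine (eS hg).2 (h.cent_bar hl l1 (gr.mem hg) fun j hj => ?_)
        obtain ⟨ξ, hξ⟩ := exJ hj
        exact gr.div (pconj hg hξ) ((conj_eq_of_mem_centralizer hγ ((eJ hξ).2 hj)).symm ▸ hξ)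
      cC := by
        have a1 : C1[ε1 * (ε2 * ε3)] = W := Subgroup.ext fun γ => let ⟨g, hg⟩ := sur γ
          (eC hg).trans (Iff.trans ⟨fun e => ⟨mem_centralizer_singleton_iff.2 e, gr.mem hg⟩,
            fun e => mem_centralizer_singleton_iff.1 e.1⟩ (eW hg).symm)
        rw [← card_mul_relIndex SW, cS, (relIndex_eq_two_iff (K := C1[z] ⊓ N[zpowers l])).2
          ⟨t, ⟨mem_centralizer_singleton_iff.2 h.tz, tN⟩, fun b hb => ?_⟩] at cW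
        · rw [a1]; omega
        · have a2 := h.mem_W hl l1 (mem_centralizer_singleton_iff.1 hb.1) hb.2
          by_cases e : b ∈ S ⊓ C1[l]
          · exact Or.inr ⟨e, fun e' => h.tl hl l1 (mem_centralizer_singleton_iff.1
              (by simpa using (mul_mem (inv_mem e) e').2))⟩
          · exact Or.inl ⟨a2.resolve_left e, e⟩
      cS := by rw [cS] at cS'; omega
      syl := by
        rw [cS] at cS'
        refine syl_mk le_top (IsPGroup.of_card (n := 4) (by omega)) fun e => syl_not_dvd syl ?_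
        obtain ⟨N', eN, cN⟩ := im _ le_rfl le_normalizer
        obtain rfl : N' = ⊤ := eq_top_iff.2 fun γ _ => let ⟨g, hg⟩ := sur γ; (eN hg).2 (gr.mem hg)
        have a2 := card_mul_relIndex (le_top : S' ≤ ⊤)
        have a3 := card_mul_relIndex syl.1
        rw [cS, cN, ← a2, show Nat.card S' = 81 by omega] at a3
        rwa [show (S ⊓ C1[l]).relIndex N[zpowers l] = S'.relIndex ⊤ by omega]
      JS := fun γ hγ => let ⟨g, hg⟩ := sur γ; (eS hg).2 (JS ((eJ hg).1 hγ))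
      sS := (eS hs).2 sl
      SC := fun γ hγ => let ⟨g, hg⟩ := sur γ; (eC hg).2 (h.Sz ((eS hg).1 hγ).1) }
  have hn := X9'.normal H
  intro g hg
  obtain ⟨γ, hγ⟩ := gr.ex hg
  exact mem_normalizer_of_cj_le (cj_le_iff.2 fun j hj => let ⟨ξ, hξ⟩ := exJ hj
    (eJ (pconj hγ hξ)).1 (hn.conj_mem _ ((eJ hξ).2 hj) γ))

theorem cent_y (H : S3343Stmt.{u}) {g : G}
    (hg : g * (z * (a * z * a⁻¹)) = z * (a * z * a⁻¹) * g) : g ∈ N[J] := by
  obtain ⟨e1, e2, e3, s, F⟩ := h.exists_fr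
  generalize z * (a * z * a⁻¹) = y at hg F
  obtain ⟨γ, -, hγ⟩ := exists_cj_le_syl h.syl (le_top : J ⊔ zpowers s ≤ ⊤)
    (IsPGroup.to_sup_of_normal_left' (h.pS.to_le h.JS) (IsPGroup.of_card_dvd_pow (n := 2) (by
      rw [Nat.card_zpowers]
      exact orderOf_dvd_of_pow_eq_one (by rw [sq, pow_mul, h.Je _ F.sJ]))) (zpowers_le.2 F.sN))
  have γN : γ ∈ N[J] := inv_mem_iff.1 (h.norm_of_le
    (cj_le_iff_le_cj_inv.1 ((cj_mono le_sup_left).trans hγ)))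
  have F1 := F.conj γN
  have sS := hγ (conj_mem_cj (mem_sup_right (mem_zpowers s)))
  suffices γ * g * γ⁻¹ ∈ N[J] by simpa [mul_assoc] using mul_mem (mul_mem (inv_mem γN) this) γN
  have hg' := cj3 γ (mul_inv_eq_iff_eq_mul.2 hg)
  generalize γ * g * γ⁻¹ = g at hg' ⊢
  generalize γ * y * γ⁻¹ = y at hg' F1
  generalize γ * e1 * γ⁻¹ = e1 at F1
  generalize γ * e2 * γ⁻¹ = e2 at F1
  generalize γ * e3 * γ⁻¹ = e3 at F1
  generalize γ * s * γ⁻¹ = s at F1 sS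
  obtain ⟨q, hq, j, hj, rfl⟩ := (mem_sup_of_le_normalizer' (h.JS.trans h.SQ)).1 (h.QJ.ge sS)
  have cj : ∀ i ∈ J, q * j * i * (q * j)⁻¹ = q * i * q⁻¹ := fun i hi => by
    rw [mul_assoc q j, h.Jc _ hj _ hi]; group
  have a1 : e2 * e1⁻¹ ∈ J ⊓ Q := ⟨J.mul_mem F1.eJ2 (J.inv_mem F1.eJ), by
    rw [← F1.s1, cj _ F1.eJ, mul_assoc, mul_assoc, ← mul_assoc e1]
    exact mul_mem hq (conj_mem_of_mem_normalizer (h.SQ (h.JS F1.eJ)) (inv_mem hq))⟩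
  have ez : e1 * (e2 * e3) ∈ zpowers z := by
    have := h.Sl a1 sS
    rwa [← conj_mul, ← conj_inv, F1.s1, F1.s2, mul_inv_rev, inv_inv, h.Jc _ F1.eJ _ (inv_mem F1.eJ2),
      ← mul_assoc, mul_assoc e3, ← mul_inv_rev, ← inv_of_cube (h.Je _ F1.eJ2), inv_inv,
      h.Jc _ (mul_mem F1.eJ3 F1.eJ2) _ F1.eJ, h.Jc _ F1.eJ3] at this
    exact F1.eJ2
  have ind := @F1.indep _ _ _ _ _ _ _ _ _ _ h.Jc h.Je
  have yQ : y ∈ Q := by
    by_contra hn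
    have a2 := h.sup_eq (zpowers_le.2 (h.JS F1.yJ)) (by rwa [zpowers_le])
    have a3 := F1.sy
    rw [cj _ F1.yJ, mul_inv_eq_iff_eq_mul] at a3
    have a4 := (((h.inf_eq h.JS h.JC h.cJ).2 q).2 ⟨hq, a2 ▸ sup_le (h.QKq hq)
      (zpowers_le.2 ⟨h.Jc _ F1.yJ _ h.zJ, by rw [← a3]; simp⟩)⟩).1
    have a5 := F1.s1
    rw [h.Jc _ (mul_mem a4 hj) _ F1.eJ, mul_inv_cancel_right] at a5
    refine absurd (ind (p := (1, -1, 0)) ?_) (by decide)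
    rw [show E3 e1 e2 e3 (1, -1, 0) = e1 ^ 3 by
      simp [E3, E, ← a5, pow_succ, show (-1 : ZMod 3).val = 2 from rfl, ZMod.val_one, mul_assoc],
      h.Je _ F1.eJ]
    exact one_mem _
  obtain ⟨d, hd, l, hl, rfl⟩ := h.decJ F1.yJ
  have dZ : d ∈ zpowers z := h.CQt (by simpa using mul_mem yQ (inv_mem (h.ΛQ hl)))
    (mem_centralizer_singleton_iff.1 hd.2)
  have l1 : l ≠ 1 := by
    rintro rfl
    have y1 := F1.y1
    rw [mul_one] at y1 ind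
    refine absurd (ind (p := (1, 1, 1)) ?_) (by decide)
    rw [X9.E111]
    rcases (mem_zp3 h.z3).1 dZ with rfl | rfl | rfl
    exacts [absurd rfl y1, ez, zpowers_inv.ge ez]
  obtain ⟨r, hr, e⟩ := h.exq hl l1 dZ
  have rN := h.SJ (h.QS (inv_mem hr))
  have F2 := F1.conj rN
  have el : r⁻¹ * (d * l) * r⁻¹⁻¹ = l := by rw [← e]; group
  rw [el] at F2
  have := h.norm_l H hl F2 (conj_mem_of_mem_normalizer (le_normalizer (h.QS (inv_mem hr))) sS)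
    (by rw [conj_mul, conj_mul]
        exact conj_mem_of_mem_normalizer (norm_of_comm (h.Sz (h.QS (inv_mem hr)))) ez)
    (norm_of_comm (mul_inv_eq_iff_eq_mul.1 (el ▸ cj3 r⁻¹ hg')))
  simpa [mul_assoc] using mul_mem (mul_mem (inv_mem rN) this) rN

end Su

theorem Hyp.main4 (h : Hyp S J Q z ΓL ΓM) (H1 : S3329Stmt.{u}) (H2 : S3330Stmt.{u})
    (H3 : S3343Stmt.{u}) :
    ∃ K : Subgroup G, K.Normal ∧ (K = ⊤ ∨ K.index = 2) ∧ C[K] = ⊥ ∧ Nonempty (K ≃* Spor.McL) := by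
  obtain ⟨ΓM, t, f1, a, h⟩ := h.exists_st
  obtain ⟨ι, Λ, v, w, h⟩ := h.exists_su
  exact h.main H1 H2 fun g hg _ => h.cent_y H3 hg

end Cfsg.Agent.H67.T3
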