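import Cfsg.Agent.H67.T3K
import Cfsg.Agent.H49.XS
import Cfsg.Agent.H56.ONanPSL
import Cfsg.Agent.H48.Simple

/-! The 3-local characterisation of McL: hypotheses on generalized Fitting subgroups. -/

set_option autoImplicit false

namespace Cfsg.Agent.H67.T3

open Subgroup Equiv Cfsg Cfsg.Agent.H63 Cfsg.Agent.H67 Cfsg.Agent.H91

universe u

variable {G : Type u} [Group G] [Finite G]

theorem O3_image {X : Type*} [Group X] {Δ : Subgroup (X × G)} {H K : Subgroup G} (gr : Gr Δ H K)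
    (sur : ∀ ξ, ∃ y, (ξ, y) ∈ Δ) (hK : ∀ k ∈ K, k ^ 3 = 1) {ξ : X} {y : G} (h : (ξ, y) ∈ Δ) :
    y ∈ O3 H ↔ ξ ∈ O3 (⊤ : Subgroup X) := by
  have h1 : O3 H ≤ (Δ ⊓ (O3 ⊤).comap (MonoidHom.fst X G)).map (MonoidHom.snd X G) := by
    refine (closure_le _).2 ?_
    rintro g ⟨hg, k, hk⟩
    obtain ⟨γ, hγ⟩ := gr.ex hg
    exact ⟨(γ, g), ⟨hγ, mem_O3 (mem_top _) (k := k)
      (gr.fn _ ((hk ▸ pow_orderOf_eq_one g) ▸ ppow hγ _))⟩, rfl⟩
  have h2 : O3 ⊤ ≤ (Δ ⊓ (O3 H).comap (MonoidHom.snd X G)).map (MonoidHom.fst X G) := by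
    refine (closure_le _).2 ?_
    rintro γ ⟨-, k, hk⟩
    obtain ⟨g, hg⟩ := sur γ
    refine ⟨(γ, g), ⟨hg, mem_O3 (gr.mem hg) (k := k + 1) ?_⟩, rfl⟩
    rw [pow_succ, pow_mul]
    exact hK _ (gr.memK (ppow hg _) (hk ▸ pow_orderOf_eq_one γ))
  refine ⟨fun e => ?_, fun e => ?_⟩
  · obtain ⟨p, hp, rfl⟩ := h1 e
    rw [gr.eq h hp.1]; exact hp.2
  · obtain ⟨p, hp, rfl⟩ := h2 e
    have a1 := gr.div h hp.1
    simpa using mul_mem (mem_O3 (gr.le a1) (k := 1) (hK _ a1)) (show p.2 ∈ O3 H from hp.2)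

theorem gr_O3 {X : Type*} [Group X] {Δ : Subgroup (X × G)} {H K : Subgroup G} (gr : Gr Δ H K)
    (sur : ∀ ξ, ∃ y, (ξ, y) ∈ Δ) (hK : ∀ k ∈ K, k ^ 3 = 1) {V : Subgroup X} (hV : V = O3 ⊤)
    {P : Type*} [Group P] (e : V ≃* P) :
    ∃ Γ : Subgroup (P × G), Gr Γ (O3 H) K ∧ ∀ σ, ∃ y, (σ, y) ∈ Γ := by
  subst hV
  refine ⟨Δ.comap (((O3 ⊤).subtype.comp e.symm.toMonoidHom).prodMap (MonoidHom.id G)),
    ⟨fun y => ⟨fun hy => ?_, fun ⟨σ, hσ⟩ => (O3_image gr sur hK hσ).2 (e.symm σ).2⟩,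
      fun σ hσ => e.symm.injective (Subtype.ext ((gr.fn _ hσ).trans (by simp))),
      fun y => by rw [← gr.ker]; simp⟩, fun σ => sur (e.symm σ)⟩
  obtain ⟨ξ, hξ⟩ := gr.ex (O3_le H hy)
  exact ⟨e ⟨ξ, (O3_image gr sur hK hξ).1 hy⟩, by simpa using hξ⟩

theorem slY_three : ∃ α β γ : SL25, α ^ 3 = 1 ∧ β ^ 3 = 1 ∧ γ ^ 3 = 1 ∧ slY = α * β * γ :=
  ⟨⟨!![0, 1; 4, 4], by decide⟩, ⟨!![0, 3; 3, 4], by decide⟩, ⟨!![3, 4; 3, 1], by decide⟩,
    by decide, by decide, by decide, by decide⟩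

theorem fstar_O3 {X : Type*} [Group X] [Finite X] (e : generalizedFittingSubgroup X ≃* SL25) :
    generalizedFittingSubgroup X = O3 ⊤ := by
  let f : SL25 →* X := (generalizedFittingSubgroup X).subtype.comp e.symm.toMonoidHom
  have hr : f.range = generalizedFittingSubgroup X := by
    rw [MonoidHom.range_comp, MonoidHom.range_eq_top.2 e.symm.surjective, ← MonoidHom.range_eq_map,
      range_subtype]
  have : f.range.Normal := hr ▸ H52.fstar_normal
  obtain ⟨φ, h1, h2⟩ := exists_hom_perm_five f (Subtype.val_injective.comp e.symm.injective)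
  refine le_antisymm ?_ ((closure_le _).2 ?_)
  · have h3 : ∀ σ : SL25, σ ^ 3 = 1 → f σ ∈ O3 (⊤ : Subgroup X) := fun σ hσ =>
      mem_O3 (mem_top _) (k := 1) (by rw [pow_one, ← map_pow, hσ, map_one])
    rw [← hr, MonoidHom.range_eq_map, ← closure_slXY, MonoidHom.map_closure, closure_le]
    rintro _ ⟨s, rfl | rfl, rfl⟩
    · exact h3 _ slX_pow
    · obtain ⟨α, β, γ, a1, a2, a3, a4⟩ := slY_three
      rw [a4, map_mul, map_mul]
      exact mul_mem (mul_mem (h3 _ a1) (h3 _ a2)) (h3 _ a3)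
  · rintro ξ ⟨-, k, hk⟩
    have h3 : φ ξ ∈ alternatingGroup (Fin 5) := by
      have := congrArg (fun x => Perm.sign (φ x)) (hk ▸ pow_orderOf_eq_one ξ : ξ ^ 3 ^ k = 1)
      simp only [map_pow, map_one] at this
      rcases Int.units_eq_one_or (Perm.sign (φ ξ)) with e | e
      · exact e
      · rw [e, Odd.neg_one_pow (Odd.pow (by decide))] at this
        exact absurd this (by decide)
    obtain ⟨s, hs⟩ := h1.ge h3
    have h4 : ξ * (f s)⁻¹ ∈ generalizedFittingSubgroup X := H52.centralizer_fstar_le (by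
      rw [← hr]
      rintro _ ⟨s', rfl⟩
      exact (h2 _ (by rw [MonoidHom.mem_ker, map_mul, map_inv, ← hs]; simp) s').symm)
    simpa using mul_mem h4 (hr.le ⟨s, rfl⟩)

theorem hyp_of' {Z : Subgroup G} (hZ : Nat.card Z = 3) (S : Sylow 3 C[Z]) {J : Subgroup G}
    (JS : J ≤ (S : Subgroup C[Z]).map C[Z].subtype) (hJ : IsElementaryAbelian 3 J)
    (cJ : Nat.card J = 3 ^ 4) (hQ : IsExtraspecial 3 (generalizedFittingSubgroup C[Z]))
    (cQ : Nat.card (generalizedFittingSubgroup C[Z]) = 3 ^ 5)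
    [(generalizedFittingSubgroup C[Z]).Normal] (Qe : ∀ x ∈ generalizedFittingSubgroup C[Z], x ^ 3 = 1)
    (eL : generalizedFittingSubgroup (C[Z] ⧸ generalizedFittingSubgroup C[Z]) ≃* SL25)
    [(J.subgroupOf N[J]).Normal] (eM : closure {x : N[J] ⧸ J.subgroupOf N[J] |
      ∃ k : ℕ, orderOf x = 3 ^ k} ≃* alternatingGroup (Fin 6)) :
    ∃ S Q z ΓL ΓM, Hyp S J Q z ΓL ΓM := by
  have syl := syl_map_sylow S
  have hQ' := (H49.isExtraspecial_map_iff (f := C[Z].subtype) Subtype.val_injective).2 hQ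
  have NQ := (normalizer_le_normalizer_centralizer Z).trans (H52.normalizer_le_normalizer_map_fstar _)
  have cQ' := (card_map_subtype _).trans cQ
  have Qe' : ∀ x ∈ (generalizedFittingSubgroup C[Z]).map C[Z].subtype, x ^ 3 = 1 := by
    rintro _ ⟨x, hx, rfl⟩
    exact congrArg Subtype.val (Qe x hx)
  have CQ0 : C[Z] ⊓ C[(generalizedFittingSubgroup C[Z]).map C[Z].subtype] ≤
      (generalizedFittingSubgroup C[Z]).map C[Z].subtype := by
    rw [← map_subtype_centralizer]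
    exact map_mono H52.centralizer_fstar_le
  obtain ⟨Δ, gr, eΔ⟩ := exists_gr (QuotientGroup.mk' (generalizedFittingSubgroup C[Z]))
    (K := (generalizedFittingSubgroup C[Z]).map C[Z].subtype)
    (fun y => (QuotientGroup.eq_one_iff y).trans (mem_map_iff_mem Subtype.val_injective).symm)
    (map_subtype_le _)
  have hL := gr_O3 gr (fun ξ => by
    obtain ⟨y, rfl⟩ := QuotientGroup.mk'_surjective _ ξ
    exact ⟨y, (eΔ _ _).2 ⟨y.2, rfl⟩⟩) Qe' (fstar_O3 eL) eL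
  have QC := gr.le
  generalize (generalizedFittingSubgroup C[Z]).map C[Z].subtype = Q at *
  generalize (S : Subgroup C[Z]).map C[Z].subtype = S' at *
  obtain ⟨Δ', gr', sur'⟩ := gr_of_equiv (le_normalizer (H := J)) (MulEquiv.refl _)
  have hM := gr_O3 gr' sur' hJ.2 (by simp [O3]) eM
  obtain ⟨z, z3, z1, rfl⟩ := exists_zp3 hZ
  have ZC : zpowers z ≤ C[zpowers z] := by
    rw [centralizer_zpowers]; exact zpowers_le.2 (mem_centralizer_singleton_self z)
  have ZQ : zpowers z ≤ Z[Q] :=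
    le_inf ((le_inf ZC (le_centralizer_iff.1 QC)).trans CQ0) (le_centralizer_iff.1 QC)
  have e1 : Z[Q] = zpowers z := (eq_of_le_of_card_ge ZQ (by rw [(extra_facts hQ').1, hZ])).symm
  have CQ : C[Q] ≤ Q := (le_inf (centralizer_anti (ZQ.trans inf_le_left)) le_rfl).trans CQ0
  have QS : Q ≤ S' := le_syl_of_le_normalizer syl QC (IsPGroup.of_card cQ')
    (Or.inl (syl.1.trans ((centralizer_le_normalizer _).trans NQ)))
  have e2 : Z[S'] = zpowers z := le_antisymm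
    (e1 ▸ le_inf (inf_le_right.trans ((centralizer_anti QS).trans CQ))
      (inf_le_right.trans (centralizer_anti QS)))
    (le_inf ((ZQ.trans inf_le_left).trans QS) (le_centralizer_iff.1 syl.1))
  have three : ∀ g ∈ N[zpowers z], ∀ k : ℕ, g ^ 3 ^ k = 1 → g ∈ C[zpowers z] := fun g hg k hk => by
    rw [centralizer_zpowers]
    exact mem_centralizer_singleton_iff.2 (comm_of_three z3 z1 hg hk)
  have e3 : O3 C[zpowers z] = O3 N[zpowers z] := by
    refine congrArg Subgroup.closure (Set.ext fun g => ⟨fun ⟨a, b⟩ => ⟨centralizer_le_normalizer _ a, b⟩,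
      fun ⟨a, k, b⟩ => ⟨three g a k (b ▸ pow_orderOf_eq_one g), k, b⟩⟩)
  have syl' : IsSyl 3 S' ⊤ := by
    refine syl_top_of_normalizer_le (H := N[zpowers z]) (syl_of_maximal
      (syl.1.trans (centralizer_le_normalizer _)) (syl_isPGroup syl) fun P P1 P2 P3 =>
        syl_eq_of_le syl P2 P3 fun g hg => ?_) (e2 ▸ normalizer_le_normalizer_center S')
    obtain ⟨k, hk⟩ := P2 ⟨g, hg⟩
    exact three g (P1 hg) k (congrArg Subtype.val hk)
  exact ⟨S', Q, mk_hyp syl' e2 e1 JS hJ.1 hJ.2 cJ QS NQ hQ' cQ' Qe' (fun _ => CQ) (e3 ▸ hL) hM⟩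

theorem concl' (h : ∃ K : Subgroup G, K.Normal ∧ (K = ⊤ ∨ K.index = 2) ∧ C[K] = ⊥ ∧
    Nonempty (K ≃* Spor.McL)) : Spor.IsoMcL (generalizedFittingSubgroup G) := by
  obtain ⟨K, hn, -, hC, ⟨e⟩⟩ := h
  have := H48.simple_McL
  have : IsSimpleGroup K := e.isSimpleGroup
  rw [H56.fstar_eq_of_simple hn hC]
  exact ⟨e⟩

end Cfsg.Agent.H67.T3
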