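import Cfsg.Agent.H67.T3A

/-! The 3-local characterisation of McL: finite checks in small groups. -/

set_option autoImplicit false
set_option Elab.async false

namespace Cfsg.Agent.H67.T3

open Subgroup Equiv Cfsg Cfsg.Agent.H63 Cfsg.Agent.H67

instance : Fact (Nat.Prime 3) := ⟨Nat.prime_three⟩

/-- First generator of the standard Sylow 3-subgroup. -/
def u1 : Perm (Fin 6) := swap 0 1 * swap 1 2
/-- Second generator. -/
def u2 : Perm (Fin 6) := swap 3 4 * swap 4 5
/-- An element of order four normalising it. -/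
def pF : Perm (Fin 6) := swap 0 3 * (swap 3 1 * swap 1 4) * swap 2 5
/-- Its square. -/
def pT : Perm (Fin 6) := swap 0 1 * swap 3 4
/-- An involution inverting `pF`. -/
def pA : Perm (Fin 6) := swap 0 1 * swap 2 5

/-- The standard Sylow 3-subgroup. -/
def U0 : Subgroup (Perm (Fin 6)) := C1[u1] ⊓ C1[u2]

theorem mem_U0 {σ : Perm (Fin 6)} : σ ∈ U0 ↔ σ * u1 = u1 * σ ∧ σ * u2 = u2 * σ := by
  simp only [U0, mem_inf, mem_centralizer_singleton_iff]

instance : DecidablePred (· ∈ U0) := fun _ => decidable_of_iff _ mem_U0.symm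

theorem card_U0 : Nat.card U0 = 9 := by
  rw [Nat.card_eq_fintype_card]; decide +kernel

theorem U0_enum : ∀ σ ∈ U0, ∃ i j : Fin 3, σ = u1 ^ i.val * u2 ^ j.val := by decide +kernel

/-- `w` normalises `U0`. -/
def nU (w : Perm (Fin 6)) : Prop := w * u1 * w⁻¹ ∈ U0 ∧ w * u2 * w⁻¹ ∈ U0

instance : DecidablePred nU := fun _ => inferInstanceAs (Decidable (_ ∧ _))

/-- `w` preserves the partition `{0,1,2 | 3,4,5}`. -/
def prt (w : Perm (Fin 6)) : Prop := (w 0 < 3 ↔ w 1 < 3) ∧ (w 1 < 3 ↔ w 2 < 3)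

instance : DecidablePred prt := fun _ => inferInstanceAs (Decidable (_ ∧ _))

theorem prt_of_nU : ∀ w : Perm (Fin 6), w * u1 * w⁻¹ * u1 = u1 * (w * u1 * w⁻¹) → prt w := by
  decide +kernel

theorem nU_of_prt : ∀ w, prt w → nU w := by decide +kernel

theorem prt_fix : ∀ w, prt (w⁻¹ * pT * w) → prt w ∨ prt (pA * w) := by decide +kernel

theorem nU_fix (w : Perm (Fin 6)) (h : nU (w⁻¹ * pT * w)) : nU w ∨ nU (pA * w) :=
  (prt_fix w (prt_of_nU _ (mem_U0.1 h.1).1)).imp (nU_of_prt _) (nU_of_prt _)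

theorem pT_inv : ∀ σ ∈ U0, pT * σ * pT⁻¹ * σ = 1 := by decide +kernel

theorem no_six : ∀ σ : Perm (Fin 6), σ ^ 3 = 1 → (σ * pT = pT * σ → σ = 1) ∧
    (σ * pA = pA * σ → σ = 1) ∧ (σ * (pT * pA) = pT * pA * σ → σ = 1) := by decide +kernel

theorem syl_U0 : IsSyl 3 U0 ⊤ := by
  refine syl_mk le_top (IsPGroup.of_card (n := 2) card_U0) ?_
  have := card_mul_relIndex (le_top : U0 ≤ ⊤)
  rw [card_U0, card_top, Nat.card_perm, Nat.card_fin] at this
  have h2 : U0.relIndex ⊤ = 80 := by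
    simp only [Nat.factorial] at this
    omega
  rw [h2]; decide

/-- Diagonal matrices with entries `±1`. -/
def Diag (m : M2) : Prop := m.b = 0 ∧ m.c = 0 ∧ m.a ≠ 0 ∧ m.d ≠ 0
/-- The coordinate swap. -/
def sw : M2 := ⟨0, 1, 1, 0⟩
/-- Monomial matrices. -/
def Mono (m : M2) : Prop := Diag m ∨ Diag (sw * m)

instance : DecidablePred Diag := fun _ => inferInstanceAs (Decidable (_ ∧ _))
instance : DecidablePred Mono := fun _ => inferInstanceAs (Decidable (_ ∨ _))

theorem mono_of : ∀ m : M2, (m.c = 0 ∨ m.a = 0) → (m.d = 0 ∨ m.b = 0) → ∀ n, m * n = 1 →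
    Mono m := by decide +kernel

theorem mono_four : ∀ m : M2, Mono m → m * m * (m * m) = 1 := by decide +kernel

end Cfsg.Agent.H67.T3
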