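import Cfsg.Agent.H96.VbDefs

/-! Automizers of the subgroup `E` of the Sylow subgroup of the large Ree groups. -/

set_option autoImplicit false

namespace Cfsg.Agent.H67.VbAe2

open Cfsg.Agent.H39 Cfsg.Agent.H15.O8 Cfsg.Agent.H97 Cfsg.Agent.H96.VB Subgroup

universe u

variable {K : Type u} [Field K] {T : Tits K}

variable (T) in
/-- coordinates on `W` -/
def w (p : K × K) : U T := x4 T p.1 * x6 T p.2

theorem w_W (p : K × K) : w T p ∈ W T := by unfold w; o8s

theorem W_E {g : U T} (h : g ∈ W T) : g ∈ E T := h.1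

theorem w_E (p : K × K) : w T p ∈ E T := W_E (w_W p)

theorem exists_w {g : U T} (h : g ∈ W T) : ∃ p, g = w T p := by
  obtain ⟨h1, h2, h3, h4, h5, h6, h7, h8, h9, h10⟩ := h
  refine ⟨(g.a4, g.a6), ?_⟩
  unfold w
  ext <;> o8s <;> assumption

theorem w_inj {p q : K × K} (h : w T p = w T q) : p = q := by
  have h4 := congrArg U.a4 h
  have h6 := congrArg U.a6 h
  unfold w at h4 h6
  o8s at h4 h6
  exact Prod.ext h4 h6

theorem w_left (t : K) : w T (t, 0) = x4 T t := by unfold w; ext <;> o8s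

theorem w_right (t : K) : w T (0, t) = x6 T t := by unfold w; ext <;> o8s

theorem w_swap (t u : K) : x6 T t * x4 T u = w T (u, t) := by unfold w; ext <;> o8s

theorem conj_w (s : U T) (p : K × K) : s * w T p * s⁻¹ = w T (p.1 + s.a1 * p.2, p.2) := by
  unfold w
  rw [mul_inv_eq_iff_eq_mul]
  ext <;> o8s <;> o8ring T

/-- conjugation -/
def cA (s : U T) : MulAut (E T) := haveI := nE (T := T); MulAut.conjNormal s

theorem ext_cA (s : U T) {x : U T} (hx : x ∈ E T) : ext (cA s) x = s * x * s⁻¹ := by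
  rw [ext_apply _ hx]; rfl

/-- the action on `W` -/
def Act (α : MulAut (E T)) (f : K × K → K × K) : Prop := ∀ p, ext α (w T p) = w T (f p)

variable {α β : MulAut (E T)} {f g k : K × K → K × K} {A : Subgroup (MulAut (E T))}

theorem Act.mul (h : Act α f) (h' : Act β g) (e : ∀ p, f (g p) = k p) : Act (α * β) k :=
  fun p => by rw [ext_mul, h', h, e]

theorem act_cA (s : U T) : Act (cA s) fun p => (p.1 + s.a1 * p.2, p.2) := fun p => by
  rw [ext_cA _ (w_E p), conj_w]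

theorem act_x1 (t : K) : Act (cA (x1 T t)) fun p => (p.1 + t * p.2, p.2) := act_cA _

theorem Act.conj (H : AE1 T) (h : Act α f) (h' : Act β g) (e : ∀ p, f (g p) = k (f p)) :
    Act (α * β * α⁻¹) k := fun p => by
  obtain ⟨q, hq⟩ := exists_w (H.chW.2 α⁻¹ _ (w_E p) (w_W p))
  have h1 : f q = p := w_inj (T := T) (by rw [← h, ← hq, ext_ext_inv])
  rw [ext_mul, ext_mul, hq, h', h, e, h1]

theorem cA_mem (hA : LA (E T) A) (s : U T) : cA s ∈ A := hA.cj s _ fun _ hx => ext_cA s hx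

theorem kerE (H : AE1 T) (hA : LA (E T) A) : KerE A := fun α hα h => by
  let M : Subgroup (MulAut (E T)) :=
    { carrier := {β | β ∈ A ∧ ∀ w ∈ W T, ext β w = w}
      one_mem' := ⟨one_mem _, fun w _ => by simp⟩
      mul_mem' := fun ha hb => ⟨mul_mem ha.1 hb.1, fun w hw => by rw [ext_mul, hb.2 w hw, ha.2 w hw]⟩
      inv_mem' := fun {a} ha => ⟨inv_mem ha.1, fun w hw => by
        conv_lhs => rw [← ha.2 w hw]
        simp⟩ }
  have h1 : ∀ g ∈ A, ∀ β ∈ M, g * β * g⁻¹ ∈ M := fun g hg β hβ =>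
    ⟨mul_mem (mul_mem hg hβ.1) (inv_mem hg), fun w hw => by
      rw [ext_mul, ext_mul, hβ.2 _ (H.chW.2 g⁻¹ w (W_E hw) hw), ext_ext_inv]⟩
  obtain ⟨s, hs⟩ := hA.two M (fun _ h => h.1) (fun g hg => mem_normalizer_iff.2 fun β =>
    ⟨h1 g hg β, fun hβ => by simpa [mul_assoc] using h1 _ (inv_mem hg) _ hβ⟩)
    (fun β => (H.ker β.1 β.2.2).imp fun _ e => Subtype.ext e) α ⟨hα, h⟩
  exact ⟨s, (cW s).2 fun w hw => mul_inv_eq_iff_eq_mul.1 ((hs w (W_E hw)).symm.trans (h w hw)), hs⟩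

theorem nm_of (H : AE1 T) (hA : LA (E T) A) (hα : α ∈ A) {φ : RingAut K} {a b d : K} (hd : d ≠ 0)
    (h : Act α fun p => (a * φ p.1 + b * φ p.2, d * φ p.2)) : Nm α := fun s => by
  have t2 := T.two_eq_zero
  have h1 : Act (α * cA s * α⁻¹) fun p => (p.1 + a * φ s.a1 / d * p.2, p.2) :=
    h.conj H (act_cA s) fun p => by
      simp only [map_add, map_mul, Prod.mk.injEq, and_true]
      field_simp
      ring
  have h2 : Act (cA (x1 T (a * φ s.a1 / d)) * (α * cA s * α⁻¹)) id :=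
    (act_x1 _).mul h1 fun p => Prod.ext (by
      simp only [id]; linear_combination (a * φ s.a1 / d * p.2) * t2) rfl
  obtain ⟨e, -, he⟩ := kerE H hA _ (mul_mem (cA_mem hA _)
    (mul_mem (mul_mem hα (cA_mem hA s)) (inv_mem hα))) fun x hx => by
      obtain ⟨p, rfl⟩ := exists_w hx
      exact h2 p
  refine ⟨(x1 T (a * φ s.a1 / d))⁻¹ * e, fun x hx => ?_⟩
  have h3 := he _ (ext_mem α hx)
  have h4 : s * x * s⁻¹ ∈ E T := nE.conj_mem x hx s
  rw [ext_mul, ext_mul, ext_mul, ext_inv_ext, ext_cA _ hx, ext_cA _ (ext_mem α h4)] at h3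
  calc _ = (x1 T (a * φ s.a1 / d))⁻¹ * (e * ext α x * e⁻¹) * x1 T (a * φ s.a1 / d) := by
        rw [← h3]; group
    _ = _ := by group

theorem cases (H : AE1 T) (hA : LA (E T) A) (hα : α ∈ A) : Nm α ∨ ∃ (t : K) (φ : RingAut K)
    (b c d : K), b ≠ 0 ∧ c ≠ 0 ∧
      Act (cA (x1 T t) * α) fun p => (b * φ p.2, c * φ p.1 + d * φ p.2) := by
  have t2 := T.two_eq_zero
  obtain ⟨φ, a, b, c, d, h1, h2⟩ := H.sem α
  have h3 : Act α fun p => (a * φ p.1 + b * φ p.2, c * φ p.1 + d * φ p.2) := fun p => h2 p.1 p.2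
  by_cases hc : c = 0
  · subst hc
    exact .inl (nm_of H hA hα (d := d) (fun e => h1 (by simp [e])) (by simpa using h3))
  refine .inr ⟨a / c, φ, b + a / c * d, c, d, fun e => h1 ?_, hc, (act_x1 _).mul h3 fun p =>
    Prod.ext ?_ rfl⟩
  · field_simp at e
    linear_combination e - b * c * t2
  · simp only
    field_simp
    linear_combination a * φ p.1 * c * t2

/-- **AE2** -/
theorem ae2 (H : AE1 T) : AEStmt T := fun A hA => by
  have t2 := T.two_eq_zero
  refine ⟨kerE H hA, fun n hn sw α hα => (cases H hA hα).imp_right ?_, ?_⟩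
  · rintro ⟨t, φ, b, c, d, hb, -, h⟩
    refine ⟨x1 T t, cA (x1 T t), fun _ hx => ext_cA _ hx, ?_⟩
    have h1 : Act n fun p => (p.2, p.1) := fun p => by
      rw [w, ext_map_mul n (w_left p.1 ▸ w_E _) (w_right p.2 ▸ w_E _), (sw _).1, (sw _).2, w_swap]
    rw [mul_assoc]
    exact nm_of H hA (mul_mem hn (mul_mem (cA_mem hA _) hα)) hb (h1.mul h fun _ => rfl)
  rintro ⟨α, hα, hN⟩
  obtain ⟨t, φ, b, c, d, hb, hc, h⟩ := (cases H hA hα).resolve_left hN
  have hm := mul_mem (cA_mem hA (x1 T t)) hα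
  have key : ∀ s : K, ∃ γ ∈ A, Act γ fun p => (p.1, p.2 + s * p.1) := fun s =>
    ⟨_, mul_mem (mul_mem hm (cA_mem hA _)) (inv_mem hm),
      h.conj H (act_x1 (φ.symm (s * b / c))) fun p => by
        simp only [map_add, map_mul, RingEquiv.apply_symm_apply, Prod.mk.injEq, true_and]
        field_simp
        ring⟩
  obtain ⟨n, hn, an⟩ : ∃ n ∈ A, Act n fun p => (p.2, p.1) := by
    obtain ⟨γ, h1, h2⟩ := key 1
    refine ⟨_, mul_mem (cA_mem hA _) (mul_mem h1 (cA_mem hA _)),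
      (act_x1 1).mul (h2.mul (act_x1 1) fun _ => rfl) fun p => Prod.ext ?_ ?_⟩
    · simp only; linear_combination (p.1 + p.2) * t2
    · simp only; linear_combination p.2 * t2
  refine ⟨⟨n, hn, fun t => ⟨by rw [← w_left, an, w_right], by rw [← w_right, an, w_left]⟩⟩,
    fun c => ?_⟩
  obtain ⟨γ, h1, h2⟩ := key (c : K)⁻¹
  have h3 := mul_mem (cA_mem hA (x1 T c)) (mul_mem h1 (mul_mem (cA_mem hA (x1 T c)) hn))
  have c0 := c.ne_zero
  have h4 : Act (cA (x1 T c) * (γ * (cA (x1 T c) * n))) fun p => (c * p.1, (c : K)⁻¹ * p.2) :=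
    (act_x1 _).mul (h2.mul ((act_x1 _).mul an fun _ => rfl) fun _ => rfl) fun p => Prod.ext
      (by simp only; field_simp; linear_combination (p.2 + c * p.1) * t2)
      (by simp only; field_simp; linear_combination (c * p.1) * t2)
  refine ⟨_, h3, nm_of H hA h3 (φ := 1) (a := c) (b := 0) (inv_ne_zero c0) (by simpa using h4),
    fun t => ⟨?_, ?_⟩⟩
  · rw [← w_left, h4]; simp only [mul_zero, w_left]
  · rw [← w_right, h4]; simp only [mul_zero, w_right]

end Cfsg.Agent.H67.VbAe2
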